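import Cfsg.Agent.BlocksB.SemidihedralDefect.Totals
import Cfsg.Agent.BlocksB.GapOneElementary

/-!
# The invariants of a block with semidihedral defect group
-/

set_option autoImplicit false
set_option linter.style.haveILetI false
set_option linter.unusedSectionVars false

namespace CfsgLib.SDDefect

open Cfsg Finset CfsgLib.Block CfsgLib.Block.Chr CfsgLib.BrauerPairs CfsgLib.BlockStar
  CfsgLib.BlockB CfsgLib.Char
open CfsgLib.QuatDefect (Fus exists_sub sum_contribR_self eq_idem_of_pair val_central)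
open CfsgLib.DihDefect (exists_local_maxPair)
open scoped ComplexConjugate
open scoped Classical

universe u

variable {M : Ideal AlgInt} [M.IsPrime] [Fact (Nat.Prime 2)] [CharP (Residue M) 2]
  {G : Type u} [Group G] [Fintype G]

local notation "𝕜" => Residue M
local notation "Z[" x "]" => Subgroup.zpowers x
local notation "C[" Q "]" => Subgroup.centralizer (SetLike.coe Q)

/-- The subsection blocks of a pair in a subgroup. -/
theorem emb_subBlk {H D : Subgroup G} {e : MonoidAlgebra 𝕜 G} {e' : MonoidAlgebra 𝕜 H}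
    (hP : IsPair 2 (D, e)) (hP' : IsPair 2 (D.subgroupOf H, e')) (hDH : D ≤ H)
    (hemb : emb H e' = e) {u : H} (hu : (u : G) ∈ D) (hC : (C[Z[(u : G)]] : Subgroup G) ≤ H) :
    emb H (subBlk 2 (D.subgroupOf H) e' u) = subBlk 2 D e (u : G) := by
  have hmapZ : Z[u].map H.subtype = Z[(u : G)] := MonoidHom.map_zpowers _ _
  have h1 := ple_embPair H (x := (Z[u], subBlk 2 (D.subgroupOf H) e' u))
    (by rw [hmapZ]; exact hC) (subBlk_ple hP' (Subgroup.mem_subgroupOf.2 hu))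
  rw [show embPair H (D.subgroupOf H, e') = (D, e) from
      Prod.ext (Subgroup.map_subgroupOf_eq_of_le hDH) hemb,
    show embPair H (Z[u], subBlk 2 (D.subgroupOf H) e' u) =
      (Z[(u : G)], emb H (subBlk 2 (D.subgroupOf H) e' u)) from Prod.ext hmapZ rfl] at h1
  exact ple_unique hP h1 (subBlk_ple hP hu)

variable {B : Set (IrrCharacter G)} {D : Subgroup G} {e : MonoidAlgebra (Residue M) G}
  {σ τ : G} {h : ℕ}

namespace SDData

variable (S : SDData (M := M) B D e σ τ h)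
include S

/-- The rank at the central involution. -/
theorem zData_rank [Fintype B] {lz : ℕ} {t s : B → ℤ} (T : ZData S lz t s)
    [Fintype C[Z[σ ^ h]]] {f : Set (IrrCharacter C[Z[σ ^ h]])} (hf : IsPBlock M f)
    (hfe : idemIn M C[Z[σ ^ h]] f = subBlk 2 D e (σ ^ h)) : lz = blockRank 2 f := by
  apply Nat.cast_injective (R := ℂ)
  exact T.trace.symm.trans (sum_contribR_self S.hM S.hB S.hmax (S.pow_mem_D h) hf hfe)

section central

variable (hzc : ∀ g : G, σ ^ h * g = g * σ ^ h)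
include hzc

/-- The contribution of a central involution on the diagonal. -/
theorem ctr_central (χ : B) :
    contribR 2 χ.1 χ.1 (σ ^ h) (subBlk 2 D e (σ ^ h)) = regMat 2 B χ χ := by
  have htop : C[Z[σ ^ h]] = (⊤ : Subgroup G) :=
    eq_top_iff.2 fun g _ => mem_cz.2 (hzc g).symm
  have hsub : subBlk 2 D e (σ ^ h) = idem M B :=
    eq_idem_of_pair S.hM S.hB htop (PLE.isPair (subBlk_ple S.pair (S.pow_mem_D h)) S.pair).2
      ((isPairOf_iff_of_ple (isBlk_idem S.hM S.hB) (subBlk_ple S.pair (S.pow_mem_D h)) S.pair).2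
        S.hmax.1)
  obtain ⟨c, -, hc⟩ := exists_central_scalar χ.1.2 hzc
  have hc2 : c * c = 1 := by
    refine mul_right_cancel₀ (irr_one_ne_zero χ.1) ?_
    rw [one_mul, mul_assoc, ← hc, ← hc, ← mul_assoc, S.z_sq, one_mul]
  have hcc : conj c = c := by
    rcases mul_self_eq_one_iff.1 hc2 with e1 | e1 <;> simp [e1]
  have hval : ∀ s : G, ¬ 2 ∣ orderOf s →
      val χ.1 (σ ^ h) s (subBlk 2 D e (σ ^ h)) = c * (χ.1 : G → ℂ) s := fun s hs => by
    rw [hsub, ← hc, val_central S.hM S.hB χ.2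
      ⟨⟨1, by rw [pow_one, pow_two, S.z_sq]⟩, hs, hzc s⟩ htop]
  rw [contribR, regMat, CfsgLib.Char.classInner_def, htop, Subgroup.card_top]
  congr 1
  rw [sum_filter]
  refine sum_congr rfl fun s _ => ?_
  by_cases hs : 2 ∣ orderOf s
  · simp [regPart_of_dvd hs, hs]
  · rw [if_pos ⟨Subgroup.mem_top _, hs⟩, regPart_of_not_dvd hs, hval s hs, map_mul, hcc]
    linear_combination ((χ.1 : G → ℂ) s * conj ((χ.1 : G → ℂ) s)) * hc2

theorem rank_central [Fintype B] {lz : ℕ} {t s : B → ℤ} (T : ZData S lz t s) :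
    lz = blockRank 2 B := by
  apply Nat.cast_injective (R := ℂ)
  rw [blockRank_eq_trace S.hM S.hB, ← T.trace]
  exact sum_congr rfl fun χ _ => S.ctr_central hzc χ

/-- **A central involution and one class at it: the product with the rotation is not fused to
the rotation of order four.** -/
theorem not_fus_of_central [Fintype B] {av : IrrCharacter G → ℕ → ℂ} (V : RotVals S av)
    {lz : ℕ} {t s : B → ℤ} (T : ZData S lz t s) (hl : lz = 1) :
    ¬ Fus D e (σ * τ) (σ ^ (h / 2)) := by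
  intro hστ
  have hτ : τ ∈ S.oth := S.τ_mem_oth fun ⟨g, hg, _⟩ => S.τ_not (by
    have e1 : τ = g⁻¹ * (σ ^ h * g) := by rw [← hg]; group
    rw [e1, hzc g, inv_mul_cancel_left]
    exact Subgroup.npow_mem_zpowers σ h)
  have hoth : S.oth = {τ} := by
    refine eq_singleton_iff_unique_mem.2 ⟨hτ, fun v hv => ?_⟩
    rcases S.mem_oth.1 hv with ⟨rfl, -⟩ | ⟨-, hn⟩
    exacts [rfl, absurd hστ hn]
  obtain ⟨W, hWz, hW2, hWt, hWs, hA0, hA, hC, hWR, hWN⟩ :=
    S.exists_vectors V T fun _ => ⟨τ, hτ⟩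
  obtain ⟨p, hp⟩ := W.exists_zero
  have hpz : p ∈ W.zeros := W.mem_zeros.2 hp
  have hnt : ¬ W.two := fun e1 => by have := hW2.1 e1; omega
  obtain ⟨ht, hs⟩ := W.main.2.2.2.1 p hpz
  rw [if_neg hnt] at hs
  -- the reduced matrix
  have hR : W.R p p = 1 := by
    apply Int.cast_injective (α := ℂ)
    rw [hWR, redInt_eq_regMat S.hM S.hB, ← S.ctr_central hzc, ← Nat.cast_pow, S.defect, T.form,
      ← hWt, ← hWs, ← sq, ← sq, ht, hs, mul_zero, add_zero]
  -- the rotations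
  obtain ⟨-, hone, -⟩ := W.zeros_props
  have hp1 := hone p hpz
  set P := (Ico 1 (h / 2)).filter fun l => W.A l p ≠ 0 with hP
  have hAval : ∀ l ∈ Ico 1 (h / 2), W.A l p = if W.A l p ≠ 0 then W.A0 p else 0 := by
    intro l hl
    obtain ⟨U, x, sg, -, -, hx, -, hAl⟩ := W.shape hl
    have hpx : p ≠ x := fun e1 => hx (e1 ▸ hpz)
    split_ifs with h0
    · rw [hAl, if_neg hpx, add_zero] at h0 ⊢
      by_cases hU : p ∈ U
      · rw [if_pos hU]
      · exact absurd (if_neg hU) h0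
    · exact not_not.1 h0
  have hsum : ∑ l ∈ Ico 1 (h / 2), W.A l p = (P.card : ℤ) * W.A0 p := by
    rw [sum_congr rfl hAval, ← sum_filter, sum_const, nsmul_eq_mul]
  have hsq : ∑ l ∈ Ico 1 (h / 2), W.A l p ^ 2 = (P.card : ℤ) := by
    have e1 : ∀ l ∈ Ico 1 (h / 2), W.A l p ^ 2 = if W.A l p ≠ 0 then (1 : ℤ) else 0 := by
      intro l hl
      have h2 := hAval l hl
      split_ifs with h0
      · rw [if_pos h0] at h2; rw [h2, sq, hp1]
      · rw [if_neg h0] at h2; rw [h2]; rfl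
    rw [sum_congr rfl e1, sum_boole]
  have hrot : Vectors.rotNorm (h / 2) W.A0 W.A W.C p =
      2 * (2 * (P.card : ℤ) + 1) * (2 * ((h / 2 : ℕ) : ℤ) - 2 * P.card - 1) := by
    rw [Vectors.rotNorm, hsum, hsq, sum_eq_zero fun l hl => by rw [W.C_zero hl hpz]; rfl,
      sum_eq_zero fun l hl => W.C_zero hl hpz]
    linear_combination (4 * ((h / 2 : ℕ) : ℤ) - 2 - 8 * (P.card : ℤ) - 8 * (P.card : ℤ) ^ 2) * hp1
  have hN : (4 : ℂ) * contribR 2 p.1 p.1 τ (subBlk 2 D e τ) = (W.N p : ℂ) := by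
    rw [← hWN p, hoth, sum_singleton]
  have hodd : ¬ (2 : ℤ) ∣ W.N p := fun hd => by
    refine S.unit_oth hτ p.2 ((hWz p).1 hp) ?_
    rw [hN]
    exact (memLocalIdeal_intCast_iff S.hM).2 (by exact_mod_cast hd)
  have h1 := W.total p hp
  rw [hR, ht, hs, hrot] at h1
  have hnn := W.N_nonneg p hp
  have hm := W.two_le_m
  have hPle : P.card + 1 ≤ h / 2 := by
    have h2 : P.card ≤ (Ico 1 (h / 2)).card := card_filter_le _ _
    rw [Nat.card_Ico] at h2
    omega
  set a : ℤ := (P.card : ℤ) with ha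
  set m : ℤ := ((h / 2 : ℕ) : ℤ) with hmdef
  have hb : a + 1 ≤ m := by simp only [ha, hmdef]; exact_mod_cast hPle
  have ha0 : 0 ≤ a := by simp only [ha]; exact Int.natCast_nonneg _
  have hm2 : 2 ≤ m := by simp only [hmdef]; exact_mod_cast hm
  have key : 4 * (a * (m - 1 - a)) = m * (2 - W.N p) := by
    refine mul_left_cancel₀ (two_ne_zero (α := ℤ)) ?_
    linear_combination h1
  have hab : 0 ≤ a * (m - 1 - a) := mul_nonneg ha0 (by omega)
  have hN1 : W.N p = 1 := by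
    have h3 : W.N p ≤ 2 := by
      by_contra hlt
      have : m * (2 - W.N p) < 0 := mul_neg_of_pos_of_neg (by omega) (by omega)
      omega
    omega
  rw [hN1] at key
  have ha1 : 1 ≤ a := by
    by_contra hlt
    rw [show a = 0 by omega] at key
    omega
  have hb1 : 1 ≤ m - 1 - a := by
    by_contra hlt
    rw [show m - 1 - a = 0 by omega] at key
    omega
  nlinarith [mul_nonneg (show (0 : ℤ) ≤ a - 1 by omega) (show (0 : ℤ) ≤ m - 1 - a - 1 by omega)]

end central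

/-- **One class at the central involution: there is a further subsection.** -/
theorem oth_nonempty [Fintype B] {lz : ℕ} {t s : B → ℤ} (T : ZData S lz t s) (hl : lz = 1) :
    S.oth.Nonempty := by
  by_contra hne
  have hτ : Fus D e τ (σ ^ h) := by_contra fun hn => hne ⟨τ, S.τ_mem_oth hn⟩
  have hστ : Fus D e (σ * τ) (σ ^ (h / 2)) := by_contra fun hn => hne ⟨_, S.στ_mem_oth hn⟩
  haveI : Fintype C[Z[σ ^ h]] := Fintype.ofFinite _
  obtain ⟨f, hf, hfe, -⟩ := exists_sub S.hM S.hB S.hmax (S.pow_mem_D h)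
  haveI : Fintype f := Fintype.ofFinite f
  obtain ⟨hbd, e', hemb, hmax'⟩ :=
    exists_local_maxPair S.hM S.hB S.hmax (S.pow_mem_D h) S.le_centralizer hf hfe
  set σ' : C[Z[σ ^ h]] := ⟨σ, S.le_centralizer S.σ_mem⟩ with hσ'
  set τ' : C[Z[σ ^ h]] := ⟨τ, S.le_centralizer S.τ_mem⟩ with hτ'
  have hval : ∀ i : ℤ, ((σ' ^ i : C[Z[σ ^ h]]) : G) = σ ^ i := fun i => by simp [hσ']
  have S' : SDData (M := M) f (D.subgroupOf C[Z[σ ^ h]]) e' σ' τ' h :=
    { hM := S.hM
      hB := hf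
      hmax := hmax'
      hh := S.hh
      ordσ := by rw [← Subgroup.orderOf_coe]; exact S.ordσ
      ordτ := by rw [← Subgroup.orderOf_coe]; exact S.ordτ
      rel := Subtype.ext (by rw [hval]; simpa [hσ', hτ'] using S.rel)
      σ_mem := Subgroup.mem_subgroupOf.2 S.σ_mem
      τ_mem := Subgroup.mem_subgroupOf.2 S.τ_mem
      cases := fun g hg => by
        obtain ⟨i, hi | hi⟩ := S.cases g (Subgroup.mem_subgroupOf.1 hg)
        · exact ⟨i, Or.inl (Subtype.ext (by rw [hval]; exact hi))⟩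
        · exact ⟨i, Or.inr (Subtype.ext (by rw [Subgroup.coe_mul, hval]; exact hi))⟩
      card := by
        rw [Nat.card_congr (Subgroup.subgroupOfEquivOfLe S.le_centralizer).toEquiv, S.card]
      τ_not := fun hm => by
        obtain ⟨i, hi⟩ := Subgroup.mem_zpowers_iff.1 hm
        exact S.τ_not (Subgroup.mem_zpowers_iff.2 ⟨i, by rw [← hval, hi]⟩)
      defect := by rw [hbd, S.defect] }
  have hzc : ∀ g : C[Z[σ ^ h]], σ' ^ h * g = g * σ' ^ h :=
    fun g => Subtype.ext (by simpa [hσ'] using (mem_cz.1 g.2).symm)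
  obtain ⟨av, V'⟩ := S'.exists_rotVals
  obtain ⟨lz', t', s', T'⟩ := S'.exists_zData
  have hl' : lz' = 1 := by
    rw [S'.rank_central hzc T', ← S.zData_rank T hf hfe, hl]
  refine S'.not_fus_of_central hzc V' T' hl' ?_
  -- the carrying element centralises the involution
  obtain ⟨g, hg, hgf⟩ := hστ
  have hgH : g ∈ C[Z[σ ^ h]] := by
    refine mem_cz.2 (mul_inv_eq_iff_eq_mul.1 ?_)
    conv_lhs => rw [← S.στ_sq]
    rw [show g * (σ * τ * (σ * τ)) * g⁻¹ = g * (σ * τ) * g⁻¹ * (g * (σ * τ) * g⁻¹) by group, hg,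
      S.w_sq]
  have hC1 : (C[Z[σ * τ]] : Subgroup G) ≤ C[Z[σ ^ h]] :=
    Subgroup.centralizer_le (SetLike.coe_subset_coe.2 (Subgroup.zpowers_le.2
      (S.στ_sq ▸ mul_mem (Subgroup.mem_zpowers _) (Subgroup.mem_zpowers _))))
  have hC2 : (C[Z[σ ^ (h / 2)]] : Subgroup G) ≤ C[Z[σ ^ h]] :=
    Subgroup.centralizer_le (SetLike.coe_subset_coe.2 (Subgroup.zpowers_le.2
      (S.w_sq ▸ mul_mem (Subgroup.mem_zpowers _) (Subgroup.mem_zpowers _))))
  have hu1 : ((σ' * τ' : C[Z[σ ^ h]]) : G) = σ * τ := rfl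
  have hu2 : ((σ' ^ (h / 2) : C[Z[σ ^ h]]) : G) = σ ^ (h / 2) := by simp [hσ']
  refine ⟨⟨g, hgH⟩, Subtype.ext (by rw [hu2]; exact hg), emb_injective C[Z[σ ^ h]] ?_⟩
  erw [← cj_emb, emb_subBlk S.pair S'.pair S.le_centralizer hemb (u := σ' * τ')
      (by rw [hu1]; exact S.στ_mem) (by rw [hu1]; exact hC1),
    emb_subBlk S.pair S'.pair S.le_centralizer hemb (u := σ' ^ (h / 2))
      (by rw [hu2]; exact S.pow_mem_D _) (by rw [hu2]; exact hC2), hu1, hu2]
  exact hgf

/-- The height from the form at the central involution. -/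
theorem height_of_form [Fintype B] {lz : ℕ} {t s : B → ℤ} (T : ZData S lz t s) {χ ψ : B}
    (hψ : blockHeight 2 B ((ψ : IrrCharacter G) : G → ℂ) = 0) {j : ℕ}
    (hj : (t χ * t ψ + ((h / 2 : ℕ) : ℤ) * (s χ * s ψ)) ^ 2 = ((2 : ℤ) ^ j) ^ 2) :
    blockHeight 2 B ((χ : IrrCharacter G) : G → ℂ) = j := by
  obtain ⟨h1, h2⟩ := T.height χ ψ hψ
  set i := blockHeight 2 B ((χ : IrrCharacter G) : G → ℂ)
  have h3 : ∀ i' : ℕ, (2 : ℤ) ^ i' ∣ t χ * t ψ + ((h / 2 : ℕ) : ℤ) * (s χ * s ψ) ↔ i' ≤ j := by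
    intro i'
    have key : ∀ i', (2 : ℤ) ^ i' ∣ (2 : ℤ) ^ j ↔ i' ≤ j := fun i' => by
      constructor
      · intro hd
        have hd' : (2 : ℕ) ^ i' ∣ 2 ^ j := by exact_mod_cast hd
        exact (Nat.pow_dvd_pow_iff_le_right (by norm_num)).1 hd'
      · exact pow_dvd_pow _
    rcases sq_eq_sq_iff_eq_or_eq_neg.1 hj with e1 | e1 <;> rw [e1]
    · exact key i'
    · rw [dvd_neg]; exact key i'
  rw [h3] at h1 h2
  omega

/-- **The invariants.** -/
theorem invariants {j : ℕ} (hj : h = 2 ^ j) :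
    (Nat.card B = h + 3 ∨ Nat.card B = h + 4) ∧ 1 ≤ blockRank 2 B ∧ blockRank 2 B ≤ 3 ∧
      (blockRank 2 B = 3 → Nat.card B = h + 4) ∧ (blockRank 2 B = 1 → Nat.card B = h + 3) ∧
      Nat.card {χ : IrrCharacter G // χ ∈ B ∧ blockHeight 2 B (χ : G → ℂ) = 0} = 4 ∧
      Nat.card {χ : IrrCharacter G // χ ∈ B ∧ blockHeight 2 B (χ : G → ℂ) = 1} = h - 1 ∧
      ∀ χ ∈ B, blockHeight 2 B (χ : G → ℂ) = 0 ∨ blockHeight 2 B (χ : G → ℂ) = 1 ∨
        blockHeight 2 B (χ : G → ℂ) = j := by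
  haveI : Fintype B := Fintype.ofFinite B
  obtain ⟨av, V⟩ := S.exists_rotVals
  obtain ⟨lz, t, s, T⟩ := S.exists_zData
  obtain ⟨W, hWz, hW2, hWt, hWs, -, -, -, -, -⟩ :=
    S.exists_vectors V T fun hl => S.oth_nonempty T hl
  obtain ⟨h4, hcard, hT, hzv, hout⟩ := W.main
  rw [hWt, hWs] at hzv hout
  rw [hWt] at hT
  have hh2 : 2 * (h / 2) = h := S.h_two.symm
  have h4le := S.four_le
  have hj2 : 2 ≤ j := by
    by_contra hlt
    interval_cases j <;> simp at hj <;> omega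
  obtain ⟨r, hr, hr1⟩ := S.card_members V T
  have hl1 := CfsgLib.Block.GapOneElementary.one_le_blockRank S.hM S.hB
  rw [← Nat.card_eq_fintype_card] at hcard
  obtain ⟨ψ, hψ⟩ := W.exists_zero
  have hψ0 := (hWz ψ).1 hψ
  obtain ⟨htψ, hsψ⟩ := hzv ψ (W.mem_zeros.2 hψ)
  have hne0 : ∀ χ : B, χ ∉ W.zeros → blockHeight 2 B ((χ : IrrCharacter G) : G → ℂ) ≠ 0 :=
    fun χ hχ e1 => hχ (W.mem_zeros.2 ((hWz χ).2 e1))
  have hone : ∀ χ : B, t χ ^ 2 = 4 → s χ = 0 →
      blockHeight 2 B ((χ : IrrCharacter G) : G → ℂ) = 1 := fun χ ht hs =>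
    S.height_of_form T hψ0 (by rw [hs, zero_mul, mul_zero, add_zero, mul_pow, ht, htψ]; norm_num)
  have htop : ∀ χ : B, W.two → t χ = 0 → s χ ^ 2 = 4 →
      blockHeight 2 B ((χ : IrrCharacter G) : G → ℂ) = j := fun χ h2 ht hs =>
    S.height_of_form T hψ0 (by
      rw [if_pos h2] at hsψ
      rw [ht, zero_mul, zero_add, mul_pow, mul_pow, hs, hsψ]
      have e1 : ((2 : ℤ) ^ j) = 2 * ((h / 2 : ℕ) : ℤ) := by
        rw [show ((2 : ℤ) ^ j) = ((h : ℕ) : ℤ) by rw [hj]; push_cast; rfl]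
        exact_mod_cast S.h_two
      rw [e1]; ring)
  -- rank one excludes the second column
  have hrk : blockRank 2 B = 1 → ¬ W.two := by
    intro e1 h2
    obtain ⟨-, q, hq, hsq, -⟩ := W.s_props h2
    rw [hWs] at hsq
    have hq0 : t q = 0 := by
      rcases hout q hq with ⟨-, e2⟩ | ⟨-, e2, -⟩
      · rw [e2] at hsq; norm_num at hsq
      · exact e2
    have hqh := htop q h2 hq0 hsq
    obtain ⟨d, -, hR, -, hd⟩ := exists_decomposition_vector S.hM S.hB e1
    have hψodd : ¬ (2 : ℤ) ∣ d ψ := fun hdv => by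
      have h1 := (pow_dvd_redInt S.hM S.hB ψ.2 ψ.2).2
      rw [hR, hψ0, pow_one] at h1
      exact h1.1 (by exact_mod_cast hdv.mul_right _) rfl
    have h1 := (pow_dvd_redInt S.hM S.hB ψ.2 q.2).1
    rw [hR, hqh] at h1
    have hdvd : (2 : ℤ) ^ j ∣ d q := by
      have hcop : IsCoprime ((2 : ℤ) ^ j) (d ψ) :=
        (Int.prime_two.coprime_iff_not_dvd.2 hψodd).pow_left
      exact hcop.dvd_of_dvd_mul_left (by exact_mod_cast h1)
    have hdq0 : d q ≠ 0 := fun e2 => by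
      have h2' := redInt_ne_zero S.hM S.hB ψ.2 q.2 hψ0
      rw [hR, e2, mul_zero] at h2'
      exact h2' rfl
    have hdq : (h : ℤ) ^ 2 ≤ d q ^ 2 := by
      rw [sq_le_sq, abs_of_nonneg (Int.natCast_nonneg h)]
      refine Int.le_of_dvd (abs_pos.2 hdq0) ((dvd_abs _ _).2 ?_)
      rw [hj]; push_cast; exact hdvd
    have hψq : ψ ≠ q := fun e2 => hq (e2 ▸ W.mem_zeros.2 hψ)
    have hle := sum_le_sum_of_subset_of_nonneg (f := fun χ : B => d χ ^ 2)
      (subset_univ ({ψ, q} : Finset B)) fun χ _ _ => sq_nonneg _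
    rw [sum_pair hψq, hd, show ((2 : ℕ) : ℤ) ^ blockDefect 2 B = 4 * (h : ℤ) by
      exact_mod_cast S.defect] at hle
    have : 0 < d ψ ^ 2 := by
      have : d ψ ≠ 0 := fun e2 => hψodd (e2 ▸ dvd_zero _)
      positivity
    nlinarith
  have hsub : ∀ j' : ℕ, Nat.card {χ : IrrCharacter G // χ ∈ B ∧ blockHeight 2 B (χ : G → ℂ) = j'} =
      (univ.filter fun χ : B => blockHeight 2 B ((χ : IrrCharacter G) : G → ℂ) = j').card := by
    intro j'
    rw [← Fintype.card_subtype, ← Nat.card_eq_fintype_card]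
    exact Nat.card_congr (Equiv.subtypeSubtypeEquivSubtypeInter _
      (fun χ : IrrCharacter G => blockHeight 2 B (χ : G → ℂ) = j')).symm
  have htype : ∀ χ : B, χ ∉ W.zeros →
      (blockHeight 2 B ((χ : IrrCharacter G) : G → ℂ) = 1 ∧ t χ ^ 2 = 4) ∨
      (blockHeight 2 B ((χ : IrrCharacter G) : G → ℂ) = j ∧ t χ ^ 2 ≠ 4) := by
    intro χ hχ
    rcases hout χ hχ with ⟨e1, e2⟩ | ⟨h2, e1, e2⟩
    · exact Or.inl ⟨hone χ e1 e2, e1⟩
    · exact Or.inr ⟨htop χ h2 e1 e2, by rw [e1]; norm_num⟩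
  refine ⟨?_, hl1, ?_, ?_, fun e1 => ?_, ?_, ?_, fun χ hχ => ?_⟩
  · split_ifs at hcard <;> omega
  · by_cases h2 : W.two
    · rw [if_pos h2] at hcard
      have := hW2.1 h2
      omega
    · rw [if_neg h2] at hcard
      have := T.rank.resolve_right fun e2 => h2 (hW2.2 e2)
      have := hr1 (S.oth_nonempty T this)
      omega
  · intro e1
    by_cases h2 : W.two
    · rw [if_pos h2] at hcard; omega
    · rw [if_neg h2] at hcard
      have := T.rank.resolve_right fun e2 => h2 (hW2.2 e2)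
      have := hr1 (S.oth_nonempty T this)
      omega
  · rw [if_neg (hrk e1)] at hcard; omega
  · rw [hsub, ← h4]
    congr 1
    ext χ
    simp [W.mem_zeros, hWz]
  · rw [hsub, ← hh2, ← hT]
    congr 1
    ext χ
    simp only [mem_filter, mem_univ, true_and, mem_compl]
    constructor
    · intro e1
      have hχ : χ ∉ W.zeros := fun hm => by
        have := (hWz χ).1 (W.mem_zeros.1 hm)
        omega
      exact ⟨hχ, ((htype χ hχ).resolve_right fun ⟨e2, _⟩ => by omega).2⟩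
    · rintro ⟨hχ, e1⟩
      exact ((htype χ hχ).resolve_right fun ⟨_, e2⟩ => e2 e1).1
  · by_cases hz : (⟨χ, hχ⟩ : B) ∈ W.zeros
    · exact Or.inl ((hWz _).1 (W.mem_zeros.1 hz))
    · rcases htype _ hz with ⟨e1, -⟩ | ⟨e1, -⟩
      exacts [Or.inr (Or.inl e1), Or.inr (Or.inr e1)]

end SDData

end CfsgLib.SDDefect
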