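import Cfsg.Agent.BlocksB.SemidihedralDefect.DihedralQuot
import Cfsg.Agent.BlocksB.CentralQuotientBound

/-!
# A block with semidihedral defect group: the subsection of the central involution
-/

set_option autoImplicit false
set_option linter.style.haveILetI false
set_option linter.unusedSectionVars false

namespace CfsgLib.SDDefect

open Cfsg Finset CfsgLib.Block CfsgLib.Block.Chr CfsgLib.BrauerPairs CfsgLib.BlockStar
  CfsgLib.BlockB CfsgLib.Char
open CfsgLib.QuatDefect (Fus exists_sub contribR_idem sum_contribR_self)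
open CfsgLib.DihDefect (DihData exists_local_maxPair)
open scoped ComplexConjugate
open scoped Classical

universe u

variable {M : Ideal AlgInt} [M.IsPrime] [Fact (Nat.Prime 2)] [CharP (Residue M) 2]
  {G : Type u} [Group G] [Fintype G]

local notation "𝕜" => Residue M
local notation "Z[" x "]" => Subgroup.zpowers x
local notation "C[" Q "]" => Subgroup.centralizer (SetLike.coe Q)

/-- An integer that is a power of two times a local integer. -/
theorem pow_dvd_of_local (hM : IsPModular 2 M) :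
    ∀ (j : ℕ) {n : ℤ} {x : ℂ}, MemLocalRing M x → (n : ℂ) = (2 : ℂ) ^ j * x → (2 : ℤ) ^ j ∣ n
  | 0, n, x, _, _ => by simp
  | j + 1, n, x, hx, hn => by
    have h2 : MemLocalRing M ((2 : ℂ) ^ j) := by
      have h := natCast_mem_localRing (M := M) (2 ^ j)
      push_cast at h
      exact h
    have h1 : MemLocalIdeal M (n : ℂ) := by
      rw [hn, pow_succ', mul_assoc]
      have h := memLocalIdeal_p hM
      push_cast at h
      exact memLocalIdeal_mul_right h (memLocalRing_mul h2 hx)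
    obtain ⟨q, hq⟩ : (2 : ℤ) ∣ n := by exact_mod_cast (memLocalIdeal_intCast_iff hM).1 h1
    have h3 : (q : ℂ) = (2 : ℂ) ^ j * x := by
      refine mul_left_cancel₀ (two_ne_zero (α := ℂ)) ?_
      rw [← mul_assoc, ← pow_succ', ← hn, hq]
      push_cast; rfl
    rw [hq, pow_succ']
    exact mul_dvd_mul_left 2 (pow_dvd_of_local hM j hx h3)

/-- The columns of a block of two-power defect `4 h` that is of rank at most two. -/
structure FormData {H : Type u} [Group H] [Fintype H] (f : Set (IrrCharacter H)) (m : ℕ)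
    (t s : IrrCharacter H → ℤ) : Prop where
  rank : blockRank 2 f = 1 ∨ blockRank 2 f = 2
  form : ∀ ξ ∈ f, ∀ η ∈ f, redInt 2 f ξ η = t ξ * t η + (m : ℤ) * (s ξ * s η)
  s_zero : blockRank 2 f = 1 → ∀ ξ, s ξ = 0
  parity : blockRank 2 f = 2 → ∀ ξ ∈ f, (2 : ℤ) ∣ s ξ - t ξ

/-- **A block whose quotient by a central involution has dihedral defect group.** -/
theorem exists_formData (hM : IsPModular 2 M) {H : Type u} [Group H] [Fintype H]
    {f : Set (IrrCharacter H)} (hf : IsPBlock M f) {D' : Subgroup H}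
    (hD' : IsDefectGroup 2 M f D') {σ τ : H} {h : ℕ} (hh : ∃ k, h = 2 ^ (k + 2))
    (hσ : orderOf σ = 2 * h) (hτ : orderOf τ = 2) (hrel : τ * σ * τ⁻¹ = σ ^ ((h : ℤ) - 1))
    (hcases : ∀ g ∈ D', ∃ i : ℤ, g = σ ^ i ∨ g = σ ^ i * τ) (hσD : σ ∈ D') (hτD : τ ∈ D')
    (hτn : τ ∉ Subgroup.zpowers σ) (hd : 2 ^ blockDefect 2 f = 4 * h)
    (hzc : ∀ g : H, σ ^ h * g = g * σ ^ h) :
    ∃ t s, FormData f (h / 2) t s := by
  haveI : Fintype f := Fintype.ofFinite f
  obtain ⟨k, hk⟩ := hh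
  have hh0 : 0 < h := hk ▸ Nat.two_pow_pos _
  have hm : h / 2 = 2 ^ (k + 1) := by
    rw [hk, pow_succ]; omega
  have h2m : h = 2 * (h / 2) := by rw [hm, hk]; ring
  set z := σ ^ h with hz
  have hz2 : z * z = 1 := by
    rw [hz, ← pow_add, ← two_mul, ← hσ, pow_orderOf_eq_one]
  have hzord : orderOf z = 2 := CfsgLib.Invol.orderOf_eq_two hz2 fun e1 => by
    have := Nat.le_of_dvd hh0 (orderOf_dvd_of_pow_eq_one e1)
    rw [hσ] at this; omega
  set N := Subgroup.zpowers z with hN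
  have hNmem : ∀ g, g ∈ N ↔ g = 1 ∨ g = z := fun g => by
    constructor
    · intro hg
      obtain ⟨j, hj⟩ := mem_powers_iff_mem_zpowers.2 hg
      have hj' : z ^ j = g := hj
      rw [← hj', ← pow_mod_orderOf, hzord]
      rcases Nat.mod_two_eq_zero_or_one j with e1 | e1 <;> rw [e1] <;> simp
    · rintro (rfl | rfl)
      exacts [one_mem _, Subgroup.mem_zpowers _]
  haveI : N.Normal := ⟨fun n hn g => by
    rcases (hNmem n).1 hn with rfl | rfl
    · simp
    · rw [← hzc g, mul_inv_cancel_right]; exact hn⟩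
  have hNZ : N ≤ Subgroup.center H :=
    Subgroup.zpowers_le.2 (Subgroup.mem_center_iff.2 fun g => (hzc g).symm)
  have hNp : IsPGroup 2 N :=
    IsPGroup.of_card (n := 1) (by rw [hN, Nat.card_zpowers, hzord, pow_one])
  haveI : Fintype (H ⧸ N) := Fintype.ofFinite _
  haveI : Fintype (Quot.below (N := N) f) := Fintype.ofFinite _
  obtain ⟨hbel, hdef⟩ := isPBlock_eq_below hM hNZ hNp hf
  rw [show (Nat.card N).factorization 2 = 1 by
    rw [hN, Nat.card_zpowers, hzord, Nat.prime_two.factorization_self]] at hdef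
  have hd' : 2 ^ blockDefect 2 (Quot.below (N := N) f) = 4 * (h / 2) := by
    rw [hdef, pow_add, pow_one] at hd
    omega
  -- the defect group of the quotient
  obtain ⟨Bb, hBb, hsub, hdefG⟩ := Quot.exists_block_map_defectGroup hM hNp hf
  have heq : Quot.below (N := N) f = Bb := by
    obtain ⟨χ, hχ⟩ := exists_mem_block hBb
    exact Set.ext fun ψ =>
      (sameBlock_iff_mem hbel (show χ ∈ Quot.below (N := N) f from hsub χ hχ)).trans
        (sameBlock_iff_mem hBb hχ).symm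
  set π := QuotientGroup.mk' N with hπ
  set Db := D'.map π with hDb
  have hDef : IsDefectGroup 2 M (Quot.below (N := N) f) Db := by
    rw [heq]; exact (hdefG _).2 ⟨D', hD', rfl⟩
  obtain ⟨e, hmax⟩ := exists_isMaxPair (isBlk_idem hM hbel) (isDef_of_isDefectGroup hM hbel hDef)
  have hker : ∀ g, π g = 1 ↔ g = 1 ∨ g = z := fun g => by
    rw [hπ, QuotientGroup.mk'_apply, QuotientGroup.eq_one_iff, hNmem]
  have hordσ : orderOf (π σ) = 2 * (h / 2) := by
    rw [← h2m]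
    refine (orderOf_eq_iff hh0).2 ⟨?_, fun j hj hj0 e1 => ?_⟩
    · rw [← map_pow]; exact (hker _).2 (Or.inr rfl)
    · rw [← map_pow] at e1
      rcases (hker _).1 e1 with e2 | e2
      · have := Nat.le_of_dvd hj0 (orderOf_dvd_of_pow_eq_one e2)
        rw [hσ] at this; omega
      · exact absurd (pow_injOn_Iio_orderOf (show j ∈ Set.Iio (orderOf σ) by rw [hσ]; simp; omega)
          (show h ∈ Set.Iio (orderOf σ) by rw [hσ]; simp; omega) e2) (by omega)
  have hτ2 : τ * τ = 1 := CfsgLib.Invol.mul_self_eq_one hτ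
  have hτb : π τ ∉ Subgroup.zpowers (π σ) := fun hm' => by
    obtain ⟨i, hi⟩ := Subgroup.mem_zpowers_iff.1 hm'
    rw [← map_zpow] at hi
    have h1 : π ((σ ^ i)⁻¹ * τ) = 1 := by rw [map_mul, map_inv, hi, inv_mul_cancel]
    have hzm : z ∈ Subgroup.zpowers σ := Subgroup.npow_mem_zpowers σ h
    rcases (hker _).1 h1 with e1 | e1
    · exact hτn (Subgroup.mem_zpowers_iff.2 ⟨i, inv_mul_eq_one.1 e1⟩)
    · rw [inv_mul_eq_iff_eq_mul] at e1
      exact hτn (e1 ▸ mul_mem (Subgroup.zpow_mem _ (Subgroup.mem_zpowers σ) i) hzm)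
  have S : DihData (M := M) (Quot.below (N := N) f) Db e (π σ) (π τ) (h / 2) :=
    { hM := hM
      hB := hbel
      hmax := hmax
      hh := ⟨k, hm⟩
      ordσ := hordσ
      ordτ := CfsgLib.Invol.orderOf_eq_two (by rw [← map_mul, hτ2, map_one])
        (fun e1 => hτb (e1 ▸ one_mem _))
      rel := by
        rw [← map_inv, ← map_mul, ← map_mul, hrel, zpow_sub, zpow_natCast, zpow_one, map_mul,
          (hker _).2 (Or.inr rfl), one_mul, map_inv]
      σ_mem := ⟨σ, hσD, rfl⟩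
      τ_mem := ⟨τ, hτD, rfl⟩
      cases := by
        rintro _ ⟨g, hg, rfl⟩
        obtain ⟨i, rfl | rfl⟩ := hcases g hg
        · exact ⟨i, Or.inl (map_zpow _ _ _)⟩
        · exact ⟨i, Or.inr (by rw [map_mul, map_zpow])⟩
      card := by rw [card_defectGroup hM hbel hDef, hd']
      τ_not := hτb
      defect := hd' }
  have hnc : ∀ g : H ⧸ N, g * π τ * g⁻¹ ≠ π σ ^ (h / 2) := by
    intro g e1
    obtain ⟨g, rfl⟩ := QuotientGroup.mk'_surjective N g
    rw [← hπ, ← map_inv, ← map_mul, ← map_mul, ← map_pow, ← inv_mul_eq_one, ← map_inv,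
      ← map_mul] at e1
    have hsq : g * τ * g⁻¹ * (g * τ * g⁻¹) = 1 := by
      rw [show g * τ * g⁻¹ * (g * τ * g⁻¹) = g * (τ * τ) * g⁻¹ by group, hτ2, mul_one,
        mul_inv_cancel]
    have hw : σ ^ (h / 2) * σ ^ (h / 2) = z := by rw [hz, ← pow_add, ← two_mul, ← h2m]
    have hz1 : z ≠ 1 := fun e2 => by rw [e2, orderOf_one] at hzord; omega
    rcases (hker _).1 e1 with e2 | e2
    · rw [inv_mul_eq_one] at e2
      rw [e2, hw] at hsq
      exact hz1 hsq
    · rw [inv_mul_eq_iff_eq_mul] at e2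
      rw [e2] at hw
      refine hz1 ?_
      calc z = g * τ * g⁻¹ * z * (g * τ * g⁻¹ * z) := hw.symm
        _ = g * τ * g⁻¹ * (z * (g * τ * g⁻¹)) * z := by group
        _ = g * τ * g⁻¹ * ((g * τ * g⁻¹) * z) * z := by rw [hzc]
        _ = g * τ * g⁻¹ * (g * τ * g⁻¹) * (z * z) := by group
        _ = 1 := by rw [hsq, hz2, one_mul]
  haveI : Fintype (Subgroup.centralizer (Subgroup.zpowers (π σ ^ (h / 2)) : Set (H ⧸ N))) :=
    Fintype.ofFinite _
  obtain ⟨f₁, e₁, χ₁, Φ₁, T⟩ := S.exists_locData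
  obtain ⟨hle, hminor⟩ := dihedral_minor S T (dihedral_card S T) hnc
  have hrk := blockRank_below hM hNZ hNp hf
  have h1le := CfsgLib.Block.GapOneElementary.one_le_blockRank hM hf
  rcases (show blockRank 2 f = 1 ∨ blockRank 2 f = 2 by omega) with hl | hl
  · obtain ⟨d, -, hR, -, -⟩ := exists_decomposition_vector hM hf hl
    refine ⟨fun ξ => if hξ : ξ ∈ f then d ⟨ξ, hξ⟩ else 0, fun _ => 0, Or.inl hl, ?_,
      fun _ _ => rfl, fun e1 => by omega⟩
    intro ξ hξ η hη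
    rw [dif_pos hξ, dif_pos hη, mul_zero, mul_zero, add_zero]
    exact hR ⟨ξ, hξ⟩ ⟨η, hη⟩
  obtain ⟨p, a, ε, hε, hpp, haa, hpa, hdiv⟩ := hminor (hrk ▸ hl)
  have hform := rank_two_form hM hbel hd' (hrk ▸ hl) hε hpp haa hpa
  choose c hc hexp using fun ξ : f => exists_regPart_coeff hM hNZ hNp hf ξ.2
  -- the reduced matrix by the coefficients
  have h4h : ((2 : ℕ) : ℂ) ^ blockDefect 2 f = ((4 * h : ℕ) : ℂ) := by rw [← Nat.cast_pow, hd]
  have hcol : ∀ η η' : Quot.below (N := N) f,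
      (redInt 2 (Quot.below (N := N) f) η.1 η'.1 : ℂ) = ((4 * h : ℕ) : ℂ) *
        classInner (regPart 2 (Quot.inflIrr η.1 : H → ℂ))
          (regPart 2 (Quot.inflIrr η'.1 : H → ℂ)) := by
    intro η η'
    rw [redInt_eq_regMat hM hbel, ← classInner_regPart_regPart,
      ← classInner_regPart_inflIrr (p := 2) hNZ hNp,
      show Nat.card N = 2 by rw [hN, Nat.card_zpowers, hzord],
      ← Nat.cast_pow, hd']
    push_cast
    rw [show (h : ℂ) = 2 * ((h / 2 : ℕ) : ℂ) by exact_mod_cast h2m]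
    ring
  have hlin : ∀ (ξ : f) (F : H → ℂ), classInner (regPart 2 (ξ.1 : H → ℂ)) F =
      ∑ η, c ξ η * classInner (regPart 2 (Quot.inflIrr η.1 : H → ℂ)) F := by
    intro ξ F
    rw [hexp ξ, classInner_sum_left univ]
    exact sum_congr rfl fun η _ => classInner_smul_left _ _ _
  set pf : f := ⟨Quot.inflIrr p.1, p.2⟩
  set af : f := ⟨Quot.inflIrr a.1, a.2⟩
  have hrow : ∀ (ξ : f) (q : Quot.below (N := N) f),
      (redInt 2 f ξ.1 (Quot.inflIrr q.1) : ℂ) =
        ∑ η, c ξ η * (redInt 2 (Quot.below (N := N) f) η.1 q.1 : ℂ) := by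
    intro ξ q
    rw [show (redInt 2 f ξ.1 (Quot.inflIrr q.1) : ℂ) = _ from
      redInt_eq_regMat hM hf ξ (⟨Quot.inflIrr q.1, q.2⟩ : f), ← classInner_regPart_regPart, h4h,
      hlin, mul_sum]
    exact sum_congr rfl fun η _ => by rw [hcol]; ring
  set R' : IrrCharacter (H ⧸ N) → IrrCharacter (H ⧸ N) → ℤ :=
    fun x y => redInt 2 (Quot.below (N := N) f) x y
  set U : IrrCharacter H → ℤ := fun ξ =>
    redInt 2 f ξ (Quot.inflIrr p.1) + ε * redInt 2 f ξ (Quot.inflIrr a.1) with hU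
  set V : IrrCharacter H → ℤ := fun ξ =>
    redInt 2 f ξ (Quot.inflIrr p.1) - ε * redInt 2 f ξ (Quot.inflIrr a.1) with hV
  choose q hq hq2 using hdiv
  have hMc : ∀ (j : ℤ), MemLocalRing M (j : ℂ) := fun j => intCast_mem (localRing M) j
  -- divisibility of the columns
  have hVdiv : ∀ ξ : f, ∃ x : ℤ, V ξ.1 = 2 * (h / 2 : ℕ) * x ∧
      (x : ℂ) = ∑ η, c ξ η * (q η : ℂ) := by
    intro ξ
    have hloc : MemLocalRing M (∑ η, c ξ η * (q η : ℂ)) :=
      sum_mem (S := localRing M) fun η _ => memLocalRing_mul (hc ξ η) (hMc _)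
    have heqV : (V ξ.1 : ℂ) = (2 : ℂ) ^ (k + 2) * ∑ η, c ξ η * (q η : ℂ) := by
      simp only [hV]
      push_cast
      rw [hrow, hrow, mul_sum, ← sum_sub_distrib, mul_sum]
      refine sum_congr rfl fun η _ => ?_
      have h1 := congrArg (Int.cast (R := ℂ)) (hq η)
      rw [hm] at h1
      push_cast at h1
      linear_combination (c ξ η) * h1
    obtain ⟨x, hx⟩ := pow_dvd_of_local hM (k + 2) hloc heqV
    refine ⟨x, by rw [hx, hm]; push_cast; ring, ?_⟩
    refine mul_left_cancel₀ (pow_ne_zero (k + 2) (two_ne_zero (α := ℂ))) ?_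
    rw [← heqV, hx]
    push_cast; ring
  have hUdiv : ∀ ξ : f, ∃ y : ℤ, U ξ.1 = 2 * y ∧
      y = redInt 2 f ξ.1 (Quot.inflIrr p.1) - (h / 2 : ℕ) * (hVdiv ξ).choose := by
    intro ξ
    refine ⟨_, ?_, rfl⟩
    have := (hVdiv ξ).choose_spec.1
    simp only [hU, hV] at this ⊢
    linarith
  choose y hy hyv using hUdiv
  set x' := fun ξ => (hVdiv ξ).choose
  have hx : ∀ ξ : f, V ξ.1 = 2 * (h / 2 : ℕ) * x' ξ := fun ξ => (hVdiv ξ).choose_spec.1
  have hxc : ∀ ξ : f, (x' ξ : ℂ) = ∑ η, c ξ η * (q η : ℂ) := fun ξ => (hVdiv ξ).choose_spec.2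
  refine ⟨fun ξ => if hξ : ξ ∈ f then y ⟨ξ, hξ⟩ else 0,
    fun ξ => if hξ : ξ ∈ f then x' ⟨ξ, hξ⟩ else 0, Or.inr hl, ?_, fun e1 => by omega, ?_⟩
  · intro ξ hξ η hη
    rw [dif_pos hξ, dif_pos hη, dif_pos hξ, dif_pos hη]
    set a₁ : f := ⟨ξ, hξ⟩
    set a₂ : f := ⟨η, hη⟩
    obtain ⟨mm, hmm⟩ : ∃ mm, mm = h / 2 := ⟨_, rfl⟩
    have hform' := hform
    simp only [← hmm] at hx hform' ⊢
    have key : 4 * (mm : ℤ) * redInt 2 f ξ η = (mm : ℤ) * (U ξ * U η) + V ξ * V η := by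
      apply Int.cast_injective (α := ℂ)
      push_cast
      simp only [hU, hV]
      push_cast
      rw [show (redInt 2 f ξ η : ℂ) = _ from redInt_eq_regMat hM hf a₁ a₂,
        ← classInner_regPart_regPart, h4h, hlin, mul_sum, mul_sum,
        hrow a₁ p, hrow a₁ a, mul_sum (a := (ε : ℂ)), ← sum_add_distrib, ← sum_sub_distrib,
        sum_mul, sum_mul, mul_sum, ← sum_add_distrib]
      refine sum_congr rfl fun η' _ => ?_
      have e1 : classInner (regPart 2 (Quot.inflIrr η'.1 : H → ℂ))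
          (regPart 2 (a₂.1 : H → ℂ)) * ((4 * h : ℕ) : ℂ) =
          ∑ η'', conj (c a₂ η'') * (redInt 2 (Quot.below (N := N) f) η'.1 η''.1 : ℂ) := by
        rw [hexp a₂, classInner_sum_right univ, sum_mul]
        refine sum_congr rfl fun η'' _ => ?_
        rw [classInner_smul_right, hcol]; ring
      have ereal : ∀ q' : Quot.below (N := N) f, (redInt 2 f η (Quot.inflIrr q'.1) : ℂ) =
          ∑ η'', conj (c a₂ η'') * (redInt 2 (Quot.below (N := N) f) η''.1 q'.1 : ℂ) := by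
        intro q'
        rw [← map_intCast (starRingEnd ℂ), hrow a₂ q', map_sum]
        exact sum_congr rfl fun η'' _ => by rw [map_mul, map_intCast]
      rw [ereal p, ereal a, mul_sum (a := (ε : ℂ)), ← sum_add_distrib, ← sum_sub_distrib,
        mul_sum, mul_sum, mul_sum, ← sum_add_distrib,
        show 4 * (mm : ℂ) * (((4 * h : ℕ) : ℂ) * (c a₁ η' *
          classInner (regPart 2 (Quot.inflIrr η'.1 : H → ℂ)) (regPart 2 (a₂.1 : H → ℂ)))) =
          4 * (mm : ℂ) * c a₁ η' * (classInner (regPart 2 (Quot.inflIrr η'.1 : H → ℂ))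
            (regPart 2 (a₂.1 : H → ℂ)) * ((4 * h : ℕ) : ℂ)) by ring, e1, mul_sum]
      refine sum_congr rfl fun η'' _ => ?_
      have h1 := congrArg (Int.cast (R := ℂ)) (hform' η' η'')
      push_cast at h1
      linear_combination (c a₁ η' * conj (c a₂ η'')) * h1
    rw [hy a₁, hy a₂, hx a₁, hx a₂] at key
    refine mul_left_cancel₀ (show (4 : ℤ) * (mm : ℤ) ≠ 0 by
      have : 0 < mm := hmm ▸ hm ▸ Nat.two_pow_pos _
      positivity) ?_
    linear_combination key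
  · intro _ ξ hξ
    rw [dif_pos hξ, dif_pos hξ]
    set a₁ : f := ⟨ξ, hξ⟩
    rw [hyv a₁]
    have hev : (2 : ℤ) ∣ ((h / 2 : ℕ) : ℤ) * x' a₁ :=
      Dvd.dvd.mul_right ⟨2 ^ k, by rw [hm]; push_cast; ring⟩ _
    have h1 : MemLocalIdeal M ((x' a₁ - redInt 2 f ξ (Quot.inflIrr p.1) : ℤ) : ℂ) := by
      push_cast
      rw [show (x' a₁ : ℂ) = _ from hxc a₁, hrow a₁ p, ← sum_sub_distrib]
      refine memLocalIdeal_sum fun η _ => ?_
      rw [← mul_sub, ← Int.cast_sub]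
      exact memLocalIdeal_mul_left (hc a₁ η)
        ((memLocalIdeal_intCast_iff hM).2 (by exact_mod_cast hq2 η))
    have h2 : (2 : ℤ) ∣ x' a₁ - redInt 2 f ξ (Quot.inflIrr p.1) := by
      exact_mod_cast (memLocalIdeal_intCast_iff hM).1 h1
    have h3 : x' a₁ - (redInt 2 f a₁.1 (Quot.inflIrr p.1) - ((h / 2 : ℕ) : ℤ) * x' a₁) =
      (x' a₁ - redInt 2 f ξ (Quot.inflIrr p.1)) + ((h / 2 : ℕ) : ℤ) * x' a₁ := by ring
    rw [h3]
    exact dvd_add h2 hev

variable {B : Set (IrrCharacter G)} {D : Subgroup G} {e : MonoidAlgebra (Residue M) G}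
  {σ τ : G} {h : ℕ}

/-- The scaled contribution at the central involution and its two columns. -/
structure ZData (S : SDData (M := M) B D e σ τ h) [Fintype B] (lz : ℕ) (t s : B → ℤ) : Prop where
  rank : lz = 1 ∨ lz = 2
  trace : ∑ χ : B, contribR 2 χ.1 χ.1 (σ ^ h) (subBlk 2 D e (σ ^ h)) = (lz : ℂ)
  form : ∀ χ ψ : B, ((4 * h : ℕ) : ℂ) * contribR 2 χ.1 ψ.1 (σ ^ h) (subBlk 2 D e (σ ^ h)) =
    ((t χ * t ψ + ((h / 2 : ℕ) : ℤ) * (s χ * s ψ) : ℤ) : ℂ)
  sum_t : ∑ χ : B, t χ ^ 2 = 4 * h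
  sum_s : lz = 2 → ∑ χ : B, s χ ^ 2 = 8 ∧ ∑ χ : B, s χ * t χ = 0
  s_zero : lz = 1 → ∀ χ, s χ = 0
  zero_odd : ∀ χ : B, blockHeight 2 B ((χ : IrrCharacter G) : G → ℂ) = 0 →
    Odd (t χ) ∧ (lz = 2 → Odd (s χ))
  pos_even : ∀ χ : B, blockHeight 2 B ((χ : IrrCharacter G) : G → ℂ) ≠ 0 →
    Even (t χ) ∧ Even (s χ) ∧ (t χ ≠ 0 ∨ s χ ≠ 0)
  height : ∀ χ ψ : B, blockHeight 2 B ((ψ : IrrCharacter G) : G → ℂ) = 0 →
    (2 : ℤ) ^ blockHeight 2 B ((χ : IrrCharacter G) : G → ℂ) ∣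
        t χ * t ψ + ((h / 2 : ℕ) : ℤ) * (s χ * s ψ) ∧
      ¬ (2 : ℤ) ^ (blockHeight 2 B ((χ : IrrCharacter G) : G → ℂ) + 1) ∣
        t χ * t ψ + ((h / 2 : ℕ) : ℤ) * (s χ * s ψ)

/-- **The columns at the central involution exist.** -/
theorem SDData.exists_zData (S : SDData (M := M) B D e σ τ h) [Fintype B] :
    ∃ lz t s, ZData S lz t s := by
  have hM := S.hM
  have hh := S.h_pos
  have hzD := S.pow_mem_D h
  haveI : Fintype C[Z[σ ^ h]] := Fintype.ofFinite _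
  obtain ⟨f, hf, hfe, hind⟩ := exists_sub hM S.hB S.hmax hzD
  obtain ⟨hbd, e', hemb, hmax'⟩ :=
    exists_local_maxPair hM S.hB S.hmax hzD S.le_centralizer hf hfe
  have hD' : IsDefectGroup 2 M f (D.subgroupOf C[Z[σ ^ h]]) :=
    isDefectGroup_of_isDef hM hf (hmax'.isDef (isBlk_idem hM hf))
  set σ' : C[Z[σ ^ h]] := ⟨σ, S.le_centralizer S.σ_mem⟩ with hσ'
  set τ' : C[Z[σ ^ h]] := ⟨τ, S.le_centralizer S.τ_mem⟩ with hτ'
  have hval : ∀ i : ℤ, ((σ' ^ i : C[Z[σ ^ h]]) : G) = σ ^ i := fun i => by simp [hσ']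
  obtain ⟨tf, sf, F⟩ := exists_formData hM hf hD' (σ := σ') (τ := τ') S.hh
    (by rw [← Subgroup.orderOf_coe]; exact S.ordσ) (by rw [← Subgroup.orderOf_coe]; exact S.ordτ)
    (Subtype.ext (by rw [hval]; simpa [hσ', hτ'] using S.rel))
    (fun g hg => by
      obtain ⟨i, hi | hi⟩ := S.cases g (Subgroup.mem_subgroupOf.1 hg)
      · exact ⟨i, Or.inl (Subtype.ext (by rw [hval]; exact hi))⟩
      · exact ⟨i, Or.inr (Subtype.ext (by rw [Subgroup.coe_mul, hval]; exact hi))⟩)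
    (Subgroup.mem_subgroupOf.2 S.σ_mem) (Subgroup.mem_subgroupOf.2 S.τ_mem)
    (fun hm => by
      obtain ⟨i, hi⟩ := Subgroup.mem_zpowers_iff.1 hm
      exact S.τ_not (Subgroup.mem_zpowers_iff.2 ⟨i, by rw [← hval, hi]⟩))
    (by rw [hbd, S.defect])
    (fun g => Subtype.ext (by simpa [hσ'] using (mem_cz.1 g.2).symm))
  haveI : Fintype f := Fintype.ofFinite f
  have hH := CfsgLib.BlockB.centralizer_zpowers_eq (σ ^ h)
  have hord : orderOf (σ ^ h) = 2 ^ 1 := by rw [S.orderOf_z, pow_one]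
  choose L N hL _ _ hLN using fun (φ : IrrCharacter G) (ξ : f) =>
    exists_section_coeff (M := M) hM hH hord φ ξ.1
  have hint : ∀ (φ : IrrCharacter G) (ξ : f), ∃ n : ℤ, classInner (secFun C[Z[σ ^ h]] (σ ^ h) φ)
      ((ξ : IrrCharacter C[Z[σ ^ h]]) : C[Z[σ ^ h]] → ℂ) = (n : ℂ) := by
    intro φ ξ
    have h1 := hL φ ξ
    rw [pow_one, pow_two] at h1
    rcases mul_self_eq_one_iff.1 h1 with e1 | e1
    · exact ⟨N φ ξ, by rw [hLN, e1, one_mul, Int.cast_natCast]⟩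
    · exact ⟨-(N φ ξ : ℤ), by rw [hLN, e1, neg_one_mul, Int.cast_neg, Int.cast_natCast]⟩
  choose n hn using hint
  set t : B → ℤ := fun χ => ∑ ξ : f, n χ.1 ξ * tf ξ.1 with ht
  set s : B → ℤ := fun χ => ∑ ξ : f, n χ.1 ξ * sf ξ.1 with hs
  set m : B → B → ℤ := fun χ ψ => t χ * t ψ + ((h / 2 : ℕ) : ℤ) * (s χ * s ψ) with hm
  have hd : ((2 : ℕ) : ℂ) ^ blockDefect 2 B = ((4 * h : ℕ) : ℂ) := by
    rw [← Nat.cast_pow, S.defect]
  have hcon : ∀ χ ψ : IrrCharacter G, contribR 2 χ ψ (σ ^ h) (subBlk 2 D e (σ ^ h)) =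
      BlockB.contrib 2 f (σ ^ h) χ ψ := fun χ ψ => by
    rw [← hfe]
    convert contribR_idemIn hM χ ψ (mem_pSet_of_mem S.pair hzD) hf using 2
  have hform : ∀ χ ψ : B, ((4 * h : ℕ) : ℂ) *
      contribR 2 χ.1 ψ.1 (σ ^ h) (subBlk 2 D e (σ ^ h)) = (m χ ψ : ℂ) := by
    intro χ ψ
    rw [hcon, contrib_eq_sum hM hf, mul_sum]
    simp only [hm, ht, hs]
    simp only [Int.cast_sum, Int.cast_mul, Int.cast_add, Int.cast_pow, Int.cast_natCast, Nat.cast_mul, Nat.cast_ofNat, Int.cast_ofNat]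
    rw [sum_mul_sum, sum_mul_sum, mul_sum, ← sum_add_distrib]
    refine sum_congr rfl fun ξ _ => ?_
    rw [mul_sum, mul_sum, ← sum_add_distrib]
    refine sum_congr rfl fun η _ => ?_
    have h1 := redInt_eq_regMat hM hf ξ η
    rw [F.form ξ.1 ξ.2 η.1 η.2, hbd, hd] at h1
    simp only [Int.cast_sum, Int.cast_mul, Int.cast_add, Int.cast_pow, Int.cast_natCast, Nat.cast_mul, Nat.cast_ofNat, Int.cast_ofNat] at h1
    rw [hn, hn, map_intCast]
    linear_combination (-((n χ.1 ξ : ℂ) * (n ψ.1 η : ℂ))) * h1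
  have htrace : ∑ χ : B, contribR 2 χ.1 χ.1 (σ ^ h) (subBlk 2 D e (σ ^ h)) =
      (blockRank 2 f : ℂ) := sum_contribR_self hM S.hB S.hmax hzD hf hfe
  have hmtr : ∑ χ : B, m χ χ = 4 * h * blockRank 2 f := by
    apply Int.cast_injective (α := ℂ)
    simp only [Int.cast_sum, Int.cast_mul, Int.cast_add, Int.cast_pow, Int.cast_natCast, Nat.cast_mul, Nat.cast_ofNat, Int.cast_ofNat]
    rw [← htrace, mul_sum]
    exact sum_congr rfl fun χ _ => by rw [← hform, Nat.cast_mul, Nat.cast_ofNat]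
  have hmsq : ∀ χ φ : B, ∑ ψ : B, m χ ψ * m ψ φ = 4 * h * m χ φ := by
    intro χ φ
    apply Int.cast_injective (α := ℂ)
    simp only [Int.cast_sum, Int.cast_mul, Int.cast_add, Int.cast_pow, Int.cast_natCast, Nat.cast_mul, Nat.cast_ofNat, Int.cast_ofNat]
    simp only [← hform]
    rw [← contribR_idem hM S.hB S.hmax hzD χ.1 φ.1, mul_sum, mul_sum]
    exact sum_congr rfl fun ψ _ => by simp only [Int.cast_sum, Int.cast_mul, Int.cast_add, Int.cast_pow, Int.cast_natCast, Nat.cast_mul, Nat.cast_ofNat, Int.cast_ofNat]; ring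
  have hzero1 : blockRank 2 f = 1 → ∀ χ, s χ = 0 := fun e1 χ => by
    simp [hs, F.s_zero e1]
  have hA : ∑ χ : B, m χ χ = ∑ χ : B, t χ ^ 2 + ((h / 2 : ℕ) : ℤ) * ∑ χ : B, s χ ^ 2 := by
    rw [mul_sum, ← sum_add_distrib]
    exact sum_congr rfl fun χ _ => by simp only [hm]; ring
  have h2m : (h : ℤ) = 2 * ((h / 2 : ℕ) : ℤ) := by exact_mod_cast S.h_two
  set a := ∑ χ : B, t χ ^ 2 with ha
  set b := ∑ χ : B, s χ * t χ with hb
  set c := ∑ χ : B, s χ ^ 2 with hc
  set m' : ℤ := ((h / 2 : ℕ) : ℤ) with hm'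
  have hm0 : 0 < m' := by have := S.four_le; simp only [hm']; omega
  have hB2 : blockRank 2 f = 2 → a = 4 * h ∧ c = 8 ∧ b = 0 := by
    intro e1
    rw [hA, e1] at hmtr
    push_cast at hmtr
    have h2 : a * a + 2 * m' * (b * b) + m' * m' * (c * c) = 4 * h * (8 * h) := by
      rw [show (8 * h : ℤ) = a + m' * c by rw [hmtr]; ring]
      conv_rhs => rw [← hA, mul_sum]
      simp only [← hmsq]
      simp only [hm, ha, hb, hc, mul_sum, sum_mul, ← sum_add_distrib]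
      exact sum_congr rfl fun χ _ => sum_congr rfl fun ψ _ => by ring
    have hz2 : (a - m' * c) ^ 2 + 4 * m' * b ^ 2 = 0 := by
      linear_combination 2 * h2 - (a + m' * c + 8 * h) * hmtr
    have h3 : a - m' * c = 0 := by
      nlinarith [sq_nonneg (a - m' * c), mul_nonneg hm0.le (sq_nonneg b)]
    have h4 : b = 0 := by
      rw [h3] at hz2
      have h5 : 4 * m' * b ^ 2 = 0 := by linarith
      exact (pow_eq_zero_iff two_ne_zero).1 ((mul_eq_zero.1 h5).resolve_left (by positivity))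
    refine ⟨by linarith, ?_, h4⟩
    refine mul_left_cancel₀ hm0.ne' ?_
    linarith
  have hpar : blockRank 2 f = 2 → ∀ χ : B, (2 : ℤ) ∣ s χ - t χ := fun e1 χ => by
    simp only [hs, ht, ← sum_sub_distrib, ← mul_sub]
    exact dvd_sum fun ξ _ => (F.parity e1 ξ.1 ξ.2).mul_left _
  have hscal : ∀ χ ψ : B,
      MemLocalRing M ((m χ ψ : ℂ) / (2 : ℂ) ^ blockHeight 2 B ((χ : IrrCharacter G) : G → ℂ)) ∧
      (MemLocalIdeal M ((m χ ψ : ℂ) / (2 : ℂ) ^ blockHeight 2 B ((χ : IrrCharacter G) : G → ℂ)) ↔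
        blockHeight 2 B ((ψ : IrrCharacter G) : G → ℂ) ≠ 0) := by
    intro χ ψ
    have key := scaled_contrib_height hM hH hord hind hbd χ.2 ψ.2
    rw [← hcon, hd, hform] at key
    push_cast at key
    exact key
  have hheight : ∀ χ ψ : B, blockHeight 2 B ((ψ : IrrCharacter G) : G → ℂ) = 0 →
      (2 : ℤ) ^ blockHeight 2 B ((χ : IrrCharacter G) : G → ℂ) ∣ m χ ψ ∧
        ¬ (2 : ℤ) ^ (blockHeight 2 B ((χ : IrrCharacter G) : G → ℂ) + 1) ∣ m χ ψ := by
    intro χ ψ h0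
    obtain ⟨k1, k2⟩ := hscal χ ψ
    refine ⟨pow_dvd_of_local hM _ k1 (by field_simp), ?_⟩
    rintro ⟨q, hq⟩
    refine k2.not.2 (not_not.2 h0) ?_
    rw [hq]
    simp only [Int.cast_sum, Int.cast_mul, Int.cast_add, Int.cast_pow, Int.cast_natCast, Nat.cast_mul, Nat.cast_ofNat, Int.cast_ofNat]
    rw [pow_succ, mul_assoc, mul_div_assoc, mul_div_assoc, mul_comm (2 : ℂ) ((q : ℂ) / _),
      ← mul_assoc, mul_div_cancel₀ _ (pow_ne_zero _ two_ne_zero), mul_comm, ← Int.cast_ofNat,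
      ← Int.cast_mul]
    exact (memLocalIdeal_intCast_iff hM).2 (by exact_mod_cast dvd_mul_right 2 q)
  have hmev : (2 : ℤ) ∣ m' := by
    obtain ⟨k, hk⟩ := S.hh
    exact ⟨2 ^ k, by simp only [hm']; rw [hk, pow_succ]; push_cast [Nat.mul_div_cancel]; ring⟩
  have hoddt : ∀ χ : B, blockHeight 2 B ((χ : IrrCharacter G) : G → ℂ) = 0 → Odd (t χ) := by
    intro χ h0
    rw [← Int.not_even_iff_odd, even_iff_two_dvd]
    intro h2
    refine (hheight χ χ h0).2 ?_
    rw [h0, zero_add, pow_one]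
    exact dvd_add (h2.mul_right _) (hmev.mul_right _)
  obtain ⟨ψ₀, hψ₀, h00⟩ := exists_height_zero hM S.hB
  refine ⟨blockRank 2 f, t, s, ⟨F.rank, htrace, hform, ?_, fun e1 => ⟨(hB2 e1).2.1, (hB2 e1).2.2⟩,
    hzero1, ?_, ?_, hheight⟩⟩
  · rcases F.rank with e1 | e1
    · rw [← ha]
      have hc0 : c = 0 := by simp [hc, hzero1 e1]
      rw [hA, e1, hc0] at hmtr
      push_cast at hmtr
      linarith
    · exact (hB2 e1).1
  · intro χ h0
    refine ⟨hoddt χ h0, fun e1 => ?_⟩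
    have h1 := hpar e1 χ
    have h2 := hoddt χ h0
    rw [Int.odd_iff] at h2 ⊢
    omega
  · intro χ hne
    have h1 := hheight χ ⟨ψ₀, hψ₀⟩ h00
    have h2 : (2 : ℤ) ∣ m χ ⟨ψ₀, hψ₀⟩ :=
      (dvd_pow_self 2 hne).trans h1.1
    have h3 : (2 : ℤ) ∣ t χ * t ⟨ψ₀, hψ₀⟩ := (dvd_add_left (hmev.mul_right _)).1 h2
    have h4 : (2 : ℤ) ∣ t χ := (Int.prime_two.dvd_mul.1 h3).resolve_right fun h5 => by
      have := hoddt ⟨ψ₀, hψ₀⟩ h00
      rw [Int.odd_iff] at this
      omega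
    refine ⟨even_iff_two_dvd.2 h4, ?_, ?_⟩
    · rcases F.rank with e1 | e1
      · rw [hzero1 e1]; exact Even.zero
      · have := hpar e1 χ
        rw [Int.even_iff]
        omega
    · by_contra hn
      push Not at hn
      refine h1.2 ?_
      simp only [hm, hn.1, hn.2, zero_mul, mul_zero, add_zero]
      exact dvd_zero _

end CfsgLib.SDDefect
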