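import Cfsg.Agent.BlocksB.QuatDefect.Setup
import Cfsg.Agent.BlocksB.QuatDefect.Generic

/-!
# The identity matrix of a block along representatives of its subsections

If a set of elements of the defect group meets every class of nontrivial subsections once, the
regular part and the contributions at these elements are orthogonal idempotents with sum one.
-/

set_option autoImplicit false
set_option linter.style.haveILetI false
set_option linter.unusedSectionVars false

namespace CfsgLib.SDDefect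

open Cfsg Finset CfsgLib.Block CfsgLib.Block.Chr CfsgLib.BrauerPairs CfsgLib.BlockStar
  CfsgLib.BlockB
open CfsgLib.QuatDefect (Fus)
open CfsgLib.DihDefect (pairSet mem_pairSet orb mem_orb orb_subset orb_eq_of_inter card_orb)
open scoped ComplexConjugate
open scoped Classical

universe u

variable {M : Ideal AlgInt} [M.IsPrime] [Fact (Nat.Prime 2)] [CharP (Residue M) 2]
  {G : Type u} [Group G] [Fintype G]

local notation "𝕜" => Residue M
local notation "Z[" x "]" => Subgroup.zpowers x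
local notation "C[" Q "]" => Subgroup.centralizer (SetLike.coe Q)

/-- A set of representatives of the nontrivial subsections of a maximal pair. -/
structure IsReps (D : Subgroup G) (e : MonoidAlgebra 𝕜 G) (R : Finset G) : Prop where
  mem : ∀ v ∈ R, v ∈ D ∧ v ≠ 1
  inj : ∀ u ∈ R, ∀ v ∈ R, Fus D e u v → u = v
  cover : ∀ u ∈ D, u ≠ 1 → ∃ v ∈ R, Fus D e u v

variable {B : Set (IrrCharacter G)} {D : Subgroup G} {e : MonoidAlgebra (Residue M) G}

/-- The matrix of a subsection, with the regular part at the identity. -/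
noncomputable def secMat (B : Set (IrrCharacter G)) (D : Subgroup G) (e : MonoidAlgebra 𝕜 G)
    (v : G) (χ ψ : B) : ℂ :=
  if v = 1 then regMat 2 B χ ψ else contribR 2 χ.1 ψ.1 v (subBlk 2 D e v)

theorem secMat_of_ne {v : G} (hv : v ≠ 1) (χ ψ : B) :
    secMat B D e v χ ψ = contribR 2 χ.1 ψ.1 v (subBlk 2 D e v) := if_neg hv

theorem secMat_one (χ ψ : B) : secMat B D e (1 : G) χ ψ = regMat 2 B χ ψ := if_pos rfl

namespace IsReps

variable {R : Finset G} (hR : IsReps D e R)
include hR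

theorem one_notMem : (1 : G) ∉ R := fun h => (hR.mem 1 h).2 rfl

/-- **The identity along the subsections.** -/
theorem delta_eq (hM : IsPModular 2 M) (hB : IsPBlock M B) (hmax : IsMaxPair 2 (idem M B) (D, e))
    (χ ψ : B) : (if χ = ψ then 1 else 0 : ℂ) =
      regMat 2 B χ ψ + ∑ v ∈ R, contribR 2 χ.1 ψ.1 v (subBlk 2 D e v) := by
  have hG : (Nat.card G : ℂ) ≠ 0 := Nat.cast_ne_zero.2 Nat.card_pos.ne'
  have h1 : (if χ = ψ then 1 else 0 : ℂ) = (Nat.card G : ℂ)⁻¹ *
      ∑ x ∈ pSet 2 G, (Nat.card C[Z[x]] : ℂ) * ∑ f ∈ blks M x, contribR 2 χ.1 ψ.1 x f := by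
    have h := classInner_starFun' hM (fun _ (_ : MonoidAlgebra 𝕜 G) => (1 : ℂ))
      (fun _ (_ : MonoidAlgebra 𝕜 G) => (1 : ℂ)) χ.1 ψ.1
    simp only [starFun_const_one (M := M) hM, map_one, one_mul, classInner_irr,
      ← Subtype.ext_iff] at h
    exact h
  set c : (_ : G) × MonoidAlgebra 𝕜 G → ℂ := fun t =>
    (Nat.card G : ℂ)⁻¹ * (Nat.card C[Z[t.1]] : ℂ) * contribR 2 χ.1 ψ.1 t.1 t.2 with hc
  have h2 : (if χ = ψ then 1 else 0 : ℂ) = ∑ t ∈ pairSet 2 M G, c t := by
    rw [h1, pairSet, sum_sigma, mul_sum]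
    exact sum_congr rfl fun x _ => by
      rw [← mul_assoc, mul_sum]
  rw [h2, ← sum_filter_add_sum_filter_not (pairSet 2 M G) (fun t => t.1 = 1)]
  congr 1
  · -- the trivial element
    rw [CfsgLib.QuatDefect.regMat_eq_sum hM χ ψ]
    have h1m : (1 : G) ∈ pSet 2 G := mem_pSet.2 ⟨0, by simp⟩
    have hC : Nat.card C[Z[(1 : G)]] = Nat.card G := by
      rw [Subgroup.zpowers_one_eq_bot, centralizer_bot, Subgroup.card_top]
    refine sum_bij' (fun t _ => t.2) (fun d _ => ⟨1, d⟩) ?_ ?_ ?_ ?_ ?_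
    · rintro ⟨x, d⟩ ht
      obtain ⟨h1, h2⟩ := mem_filter.1 ht
      have h3 : x = 1 := h2
      subst h3
      exact (mem_sigma.1 h1).2
    · intro d hd
      exact mem_filter.2 ⟨mem_sigma.2 ⟨h1m, hd⟩, rfl⟩
    · rintro ⟨x, d⟩ ht
      have h3 : x = 1 := (mem_filter.1 ht).2
      subst h3
      rfl
    · intro d _; rfl
    · rintro ⟨x, d⟩ ht
      have h3 : x = 1 := (mem_filter.1 ht).2
      subst h3
      simp only [hc, hC, inv_mul_cancel₀ hG, one_mul]
  · -- the other elements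
    have hP : IsPair 2 (D, e) := hmax.1.1
    have hblk : ∀ v ∈ R, IsBlk 𝕜 C[Z[v]] (subBlk 2 D e v) := fun v hv =>
      (PLE.isPair (subBlk_ple hP (hR.mem v hv).1) hP).2
    have hdisj : (R : Set G).PairwiseDisjoint fun v => orb v (subBlk 2 D e v) := by
      intro u hu v hv hne
      rw [Function.onFun, disjoint_left]
      rintro ⟨x, d⟩ h3 h4
      obtain ⟨g, hg, hgf⟩ := orb_eq_of_inter h3 h4
      exact hne (hR.inj u hu v hv ⟨g, hg, hgf⟩)
    have hsub : R.biUnion (fun v => orb v (subBlk 2 D e v)) ⊆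
        (pairSet 2 M G).filter fun t => ¬ t.1 = 1 := by
      intro t ht
      obtain ⟨v, hv, hvt⟩ := mem_biUnion.1 ht
      refine mem_filter.2
        ⟨orb_subset (mem_pSet_of_mem hP (hR.mem v hv).1) (hblk v hv) hvt, fun e1 => ?_⟩
      obtain ⟨x, d⟩ := t
      obtain ⟨g, hx, -⟩ := mem_orb.1 hvt
      exact (hR.mem v hv).2 (conj_eq_one_iff.1 (hx.trans e1))
    rw [← sum_subset hsub, sum_biUnion hdisj]
    · refine sum_congr rfl fun v hv => ?_
      have h4 : ∀ t ∈ orb v (subBlk 2 D e v), c t = (Nat.card G : ℂ)⁻¹ *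
          (Nat.card C[Z[v]] : ℂ) * contribR 2 χ.1 ψ.1 v (subBlk 2 D e v) := by
        rintro ⟨x, d⟩ ht
        obtain ⟨g, rfl, rfl⟩ := mem_orb.1 ht
        have hC : C[Z[v]].map (MulAut.conj g).toMonoidHom = C[Z[g * v * g⁻¹]] := by
          rw [map_conj_centralizer, MonoidHom.map_zpowers]; rfl
        simp only [hc]
        rw [contribR_conj hM _ _ (mem_pSet_of_mem hP (hR.mem v hv).1) (hblk v hv), ← hC,
          Subgroup.card_map_of_injective (MulEquiv.injective _)]
      rw [sum_congr rfl h4, sum_const, nsmul_eq_mul]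
      have h5 : ((orb v (subBlk 2 D e v)).card : ℂ) * Nat.card C[Z[v]] = Nat.card G := by
        exact_mod_cast card_orb (hblk v hv)
      rw [← mul_assoc, ← mul_assoc, mul_comm ((orb v (subBlk 2 D e v)).card : ℂ), mul_assoc (_⁻¹),
        h5, inv_mul_cancel₀ hG, one_mul]
    · rintro ⟨x, d⟩ ht hnot
      obtain ⟨ht1, hx1⟩ := mem_filter.1 ht
      obtain ⟨hx, hd⟩ := mem_pairSet.1 ht1
      by_cases hp : IsPairOf 2 (idem M B) (Z[x], d)
      · exfalso
        obtain ⟨g, hg⟩ := exists_conj_ple_max (isBlk_idem hM hB) hmax hp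
        have hu := conj_mem_of_ple hg
        have hu1 : g * x * g⁻¹ ≠ 1 := fun e1 => hx1 (conj_eq_one_iff.1 e1)
        rw [cjPair_zpowers] at hg
        have hde : cj 𝕜 g d = subBlk 2 D e (g * x * g⁻¹) := ple_unique hP hg (subBlk_ple hP hu)
        obtain ⟨v, hv, a, ha, hav⟩ := hR.cover _ hu hu1
        refine hnot (mem_biUnion.2 ⟨v, hv, mem_orb.2 ⟨(a * g)⁻¹, ?_, ?_⟩⟩)
        · rw [← ha]; group
        · rw [← hav, ← hde, ← cj_mul, ← cj_mul, mul_assoc, inv_mul_cancel, cj_one]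
      · simp only [hc]
        rw [contribR_eq_zero hM hB (Or.inl χ.2) hx hd hp, mul_zero]

theorem sum_secMat (hM : IsPModular 2 M) (hB : IsPBlock M B)
    (hmax : IsMaxPair 2 (idem M B) (D, e)) (χ ψ : B) :
    ∑ v ∈ insert 1 R, secMat B D e v χ ψ = if χ = ψ then 1 else 0 := by
  rw [hR.delta_eq hM hB hmax χ ψ, sum_insert hR.one_notMem, secMat_one]
  congr 1
  exact sum_congr rfl fun v hv => secMat_of_ne (hR.mem v hv).2 χ ψ

omit hR in
theorem conj_regMat (χ ψ : B) : conj (regMat 2 B χ ψ) = regMat 2 B ψ χ := by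
  rw [regMat_symm ψ, regMat_eq, map_div₀, map_natCast, map_intCast]

theorem secMat_mem {v : G} (hv : v ∈ insert 1 R) : v = 1 ∨ (v ∈ D ∧ v ≠ 1) := by
  rcases mem_insert.1 hv with rfl | hv
  exacts [Or.inl rfl, Or.inr (hR.mem v hv)]

theorem secMat_idem (hM : IsPModular 2 M) (hB : IsPBlock M B)
    (hmax : IsMaxPair 2 (idem M B) (D, e)) [Fintype B] {v : G} (hv : v ∈ insert 1 R) (χ φ : B) :
    ∑ ψ : B, secMat B D e v χ ψ * secMat B D e v ψ φ = secMat B D e v χ φ := by
  rcases hR.secMat_mem hv with rfl | ⟨hvD, hv1⟩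
  · simp only [secMat_one]
    exact (Matrix.mul_apply.symm.trans (congrFun (congrFun (regMat_mul_self hM hB) χ) φ))
  · simp only [secMat_of_ne hv1]
    exact CfsgLib.QuatDefect.contribR_idem hM hB hmax hvD χ.1 φ.1

theorem secMat_herm {v : G} (hv : v ∈ insert 1 R) (χ ψ : B) :
    conj (secMat B D e v χ ψ) = secMat B D e v ψ χ := by
  rcases hR.secMat_mem hv with rfl | ⟨-, hv1⟩
  · simp only [secMat_one]; exact conj_regMat χ ψ
  · simp only [secMat_of_ne hv1]; exact CfsgLib.QuatDefect.conj_contribR _ _ _ _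

/-- **Different subsections are orthogonal.** -/
theorem orth (hM : IsPModular 2 M) (hB : IsPBlock M B) (hmax : IsMaxPair 2 (idem M B) (D, e))
    [Fintype B] {u v : G} (hu : u ∈ insert 1 R) (hv : v ∈ insert 1 R) (hne : u ≠ v) (χ φ : B) :
    ∑ ψ : B, secMat B D e u χ ψ * secMat B D e v ψ φ = 0 :=
  CfsgLib.QuatDefect.proj_orth (insert 1 R) (fun v => secMat B D e v)
    (fun _ hw a c => hR.secMat_idem hM hB hmax hw a c) (fun _ hw a b => hR.secMat_herm hw a b)
    (fun a b => by convert hR.sum_secMat hM hB hmax a b) hu hv hne χ φ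

theorem contrib_orth (hM : IsPModular 2 M) (hB : IsPBlock M B)
    (hmax : IsMaxPair 2 (idem M B) (D, e)) [Fintype B] {u v : G} (hu : u ∈ R) (hv : v ∈ R)
    (hne : u ≠ v) (χ φ : B) :
    ∑ ψ : B, contribR 2 χ.1 ψ.1 u (subBlk 2 D e u) * contribR 2 ψ.1 φ.1 v (subBlk 2 D e v) = 0 := by
  rw [← hR.orth hM hB hmax (mem_insert_of_mem hu) (mem_insert_of_mem hv) hne χ φ]
  exact sum_congr rfl fun ψ _ => by
    rw [secMat_of_ne (hR.mem u hu).2, secMat_of_ne (hR.mem v hv).2]

theorem reg_orth (hM : IsPModular 2 M) (hB : IsPBlock M B)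
    (hmax : IsMaxPair 2 (idem M B) (D, e)) [Fintype B] {v : G} (hv : v ∈ R) (χ φ : B) :
    ∑ ψ : B, regMat 2 B χ ψ * contribR 2 ψ.1 φ.1 v (subBlk 2 D e v) = 0 := by
  rw [← hR.orth hM hB hmax (mem_insert_self 1 R) (mem_insert_of_mem hv) (hR.mem v hv).2.symm χ φ]
  exact sum_congr rfl fun ψ _ => by rw [secMat_of_ne (hR.mem v hv).2, secMat_one]

/-- The number of members is the rank and the ranks of the other subsections. -/
theorem card_eq (hM : IsPModular 2 M) (hB : IsPBlock M B) (hmax : IsMaxPair 2 (idem M B) (D, e))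
    [Fintype B] : (Nat.card B : ℂ) =
      (blockRank 2 B : ℂ) + ∑ v ∈ R, ∑ χ : B, contribR 2 χ.1 χ.1 v (subBlk 2 D e v) := by
  rw [Nat.card_eq_fintype_card, ← card_univ, card_eq_sum_ones, Nat.cast_sum, Nat.cast_one,
    blockRank_eq_trace hM hB, sum_comm (s := R), ← sum_add_distrib]
  exact sum_congr rfl fun χ _ => by rw [← hR.delta_eq hM hB hmax χ χ, if_pos rfl]

end IsReps

end CfsgLib.SDDefect
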