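import Cfsg.Agent.BlocksB.SemidihedralDefect.Relations
import Cfsg.Agent.BlocksB.DihedralDefect.Main

/-!
# A block with dihedral defect group and a reflection apart from the central involution

The rank is at most two, and in rank two the reduced matrix is `t t + h s s`.
-/

set_option autoImplicit false
set_option linter.style.haveILetI false
set_option linter.unusedSectionVars false

namespace CfsgLib.SDDefect

open Cfsg Finset CfsgLib.Block CfsgLib.Block.Chr CfsgLib.BrauerPairs CfsgLib.BlockStar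
  CfsgLib.BlockB
open CfsgLib.QuatDefect (Fus fus_conj fus_of_carries exists_sub isDefectGroup_sub contribR_idem
  conj_contribR sum_contribR_self proj_row_zero contribR_self_nonneg)
open CfsgLib.DihDefect (DihData om om_spec)
open scoped ComplexConjugate
open scoped Classical

universe u

/-- Parseval for integral Fourier coefficients. -/
theorem parseval_int {h : ℕ} (hh : 0 < h) (F F' : ℕ → ℂ) (c c' : ℕ → ℤ)
    (hc : ∀ j, ∑ i ∈ range (2 * h), F i * om h ^ (i * j) = ((2 * h : ℕ) : ℂ) * (c j : ℂ))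
    (hc' : ∀ j, ∑ i ∈ range (2 * h), F' i * om h ^ (i * j) = ((2 * h : ℕ) : ℂ) * (c' j : ℂ)) :
    ∑ i ∈ range (2 * h), F i * conj (F' i) =
        ((2 * h : ℕ) : ℂ) * ((∑ j ∈ range (2 * h), c j * c' j : ℤ) : ℂ) ∧
      F 0 = ((∑ j ∈ range (2 * h), c j : ℤ) : ℂ) := by
  have hne : ((2 * h : ℕ) : ℂ) ≠ 0 := Nat.cast_ne_zero.2 (by omega)
  have hinv : ∀ k, k < 2 * h → ∑ j ∈ range (2 * h),
      ((2 * h : ℕ) : ℂ) * (c j : ℂ) * conj (om h ^ (j * k)) = ((2 * h : ℕ) : ℂ) * F k := by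
    intro k hk
    simp only [← hc, sum_mul]
    rw [sum_comm, sum_eq_single_of_mem k (mem_range.2 hk) fun i hi hne' => ?_]
    · simp only [mul_assoc]
      rw [← mul_sum, sum_congr rfl fun j _ => by rw [mul_comm k j], sum_om_conj hh hk hk,
        if_pos rfl, mul_comm]
    · simp only [mul_assoc]
      rw [← mul_sum, sum_congr rfl fun j _ => by rw [mul_comm i j],
        sum_om_conj hh (mem_range.1 hi) hk, if_neg hne', mul_zero]
  constructor
  · refine mul_left_cancel₀ hne ?_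
    push_cast
    rw [mul_sum, mul_sum, mul_sum]
    calc ∑ i ∈ range (2 * h), 2 * (h : ℂ) * (F i * conj (F' i))
        = ∑ i ∈ range (2 * h),
            (∑ j ∈ range (2 * h), ((2 * h : ℕ) : ℂ) * (c j : ℂ) * conj (om h ^ (j * i))) *
              conj (F' i) := by
          refine sum_congr rfl fun i hi => ?_
          rw [hinv i (mem_range.1 hi)]
          push_cast
          ring
      _ = ∑ j ∈ range (2 * h), ((2 * h : ℕ) : ℂ) * (c j : ℂ) *
            conj (∑ i ∈ range (2 * h), F' i * om h ^ (i * j)) := by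
          simp only [map_sum, sum_mul, mul_sum, map_mul]
          rw [sum_comm]
          exact sum_congr rfl fun j _ => sum_congr rfl fun i _ => by rw [mul_comm i j]; ring
      _ = _ := by
          refine sum_congr rfl fun j _ => ?_
          rw [hc', map_mul, map_natCast, map_intCast]
          push_cast
          ring
  · refine mul_left_cancel₀ hne ?_
    rw [← hinv 0 (by omega), Int.cast_sum, mul_sum]
    simp

variable {M : Ideal AlgInt} [M.IsPrime] [Fact (Nat.Prime 2)] [CharP (Residue M) 2]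
  {G : Type u} [Group G] [Fintype G]

local notation "𝕜" => Residue M
local notation "Z[" x "]" => Subgroup.zpowers x
local notation "C[" Q "]" => Subgroup.centralizer (SetLike.coe Q)

/-- Representatives can be completed. -/
theorem exists_isReps_extend {D : Subgroup G} {e : MonoidAlgebra 𝕜 G} {R₀ : Finset G}
    (hmem : ∀ v ∈ R₀, v ∈ D ∧ v ≠ 1) (hinj : ∀ u ∈ R₀, ∀ v ∈ R₀, Fus D e u v → u = v) :
    ∃ R, R₀ ⊆ R ∧ IsReps D e R ∧ ∀ v ∈ R, v ∉ R₀ → ∀ u ∈ R₀, ¬ Fus D e v u := by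
  let s : Setoid D :=
    ⟨fun a b => Fus D e a b, ⟨fun a => Fus.refl _, fun h => h.symm, fun h h' => h.trans h'⟩⟩
  let rep : D → G := fun a => ((Quotient.mk s a).out : D)
  have hrep : ∀ a : D, Fus D e (rep a) a := fun a => Quotient.mk_out (s := s) a
  set T := ((univ : Finset D).filter fun a : D => (a : G) ≠ 1 ∧ ∀ v ∈ R₀, ¬ Fus D e a v).image rep
    with hT
  have hTmem : ∀ v ∈ T, v ∈ D ∧ v ≠ 1 ∧ ∀ u ∈ R₀, ¬ Fus D e v u := by
    intro v hv
    obtain ⟨a, ha, rfl⟩ := mem_image.1 hv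
    obtain ⟨-, ha1, ha2⟩ := mem_filter.1 ha
    refine ⟨SetLike.coe_mem _, fun e1 => ha1 ?_, fun u hu hf => ha2 u hu ((hrep a).symm.trans hf)⟩
    have h1 := (hrep a).orderOf_eq
    rw [e1, orderOf_one] at h1
    exact orderOf_eq_one_iff.1 h1.symm
  refine ⟨R₀ ∪ T, subset_union_left, ⟨?_, ?_, ?_⟩, ?_⟩
  · intro v hv
    rcases mem_union.1 hv with hv | hv
    exacts [hmem v hv, ⟨(hTmem v hv).1, (hTmem v hv).2.1⟩]
  · intro u hu v hv hf
    rcases mem_union.1 hu with hu | hu <;> rcases mem_union.1 hv with hv | hv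
    · exact hinj u hu v hv hf
    · exact absurd hf.symm ((hTmem v hv).2.2 u hu)
    · exact absurd hf ((hTmem u hu).2.2 v hv)
    · obtain ⟨a, -, rfl⟩ := mem_image.1 hu
      obtain ⟨b, -, rfl⟩ := mem_image.1 hv
      have hab : Fus D e a b := ((hrep a).symm.trans hf).trans (hrep b)
      show ((Quotient.mk s a).out : G) = ((Quotient.mk s b).out : G)
      rw [Quotient.sound (s := s) hab]
  · intro u hu hu1
    by_cases hc : ∃ v ∈ R₀, Fus D e u v
    · obtain ⟨v, hv, hf⟩ := hc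
      exact ⟨v, mem_union_left _ hv, hf⟩
    · push Not at hc
      exact ⟨rep ⟨u, hu⟩, mem_union_right _ (mem_image_of_mem _
        (mem_filter.2 ⟨mem_univ _, hu1, hc⟩)), (hrep ⟨u, hu⟩).symm⟩
  · intro v hv hn u hu
    exact (hTmem v ((mem_union.1 hv).resolve_left hn)).2.2 u hu

variable {B : Set (IrrCharacter G)} {D : Subgroup G} {e : MonoidAlgebra (Residue M) G}
  {σ τ : G} {h : ℕ}

section dih

variable (S : DihData (M := M) B D e σ τ h) [Fintype C[Z[σ ^ h]]]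
  {f : Set (IrrCharacter C[Z[σ ^ h]])} {e' : MonoidAlgebra (Residue M) C[Z[σ ^ h]]}
  {χ₀ : IrrCharacter C[Z[σ ^ h]]} {Φ : IrrCharacter (D.subgroupOf C[Z[σ ^ h]]) ≃ f}
  (T : DihDefect.LocData S f e' χ₀ Φ)
include T

/-- The integral form of the contributions of the rotations. -/
noncomputable def rotInt (T : DihDefect.LocData S f e' χ₀ Φ) (χ ψ : IrrCharacter G) : ℤ :=
  2 * h * ∑ j ∈ range (2 * h), T.co χ j * T.co ψ j -
    (∑ j ∈ range (2 * h), T.co χ j) * ∑ j ∈ range (2 * h), T.co ψ j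

theorem sum_rot_eq (χ ψ : IrrCharacter G) :
    ((4 * h : ℕ) : ℂ) * ∑ i ∈ Icc 1 h, contribR 2 χ ψ (σ ^ i) (subBlk 2 D e (σ ^ i)) =
      (rotInt S T χ ψ : ℂ) := by
  have hh := S.h_pos
  obtain ⟨h1, h0⟩ := parseval_int hh (fun i => (T.th χ i : ℂ)) (fun i => (T.th ψ i : ℂ))
    (T.co χ) (T.co ψ) (T.co_spec χ) (T.co_spec ψ)
  obtain ⟨-, h0'⟩ := parseval_int hh (fun i => (T.th ψ i : ℂ)) (fun i => (T.th ψ i : ℂ))
    (T.co ψ) (T.co ψ) (T.co_spec ψ) (T.co_spec ψ)
  simp only [Complex.conj_ofReal] at h1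
  set P : ℕ → ℂ := fun i => (T.th χ i : ℂ) * (T.th ψ i : ℂ) with hP
  have hI : (rotInt S T χ ψ : ℂ) = ∑ i ∈ range (2 * h), P i - P 0 := by
    rw [rotInt, hP, h1]
    push_cast
    rw [h0, h0']
    push_cast
    ring
  rw [hI, sum_fold' P hh, mul_sum, show Icc 1 h = insert h (Ico 1 h) from
    (Ico_insert_right (by omega : 1 ≤ h)).symm, sum_insert (by simp)]
  have hc : ∀ i ∈ Icc 1 h, contribR 2 χ ψ (σ ^ i) (subBlk 2 D e (σ ^ i)) =
      P i * ((if i = h then 4 * h else 2 * h : ℕ) : ℂ)⁻¹ := fun i hi => by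
    rw [T.contrib_rot χ ψ (T.rot_ne_one hi), T.card_rot hi]
  rw [hc h (mem_Icc.2 ⟨hh, le_rfl⟩), if_pos rfl]
  have hne : ((4 * h : ℕ) : ℂ) ≠ 0 := Nat.cast_ne_zero.2 (by omega)
  have hsum : ∑ i ∈ Ico 1 h, ((4 * h : ℕ) : ℂ) * contribR 2 χ ψ (σ ^ i) (subBlk 2 D e (σ ^ i)) =
      ∑ i ∈ Ico 1 h, (P i + P (2 * h - i)) := by
    refine sum_congr rfl fun i hi => ?_
    obtain ⟨i1, i2⟩ := mem_Ico.1 hi
    rw [hc i (mem_Icc.2 ⟨i1, i2.le⟩), if_neg i2.ne]
    simp only [hP, T.th_neg _ (show i ≤ 2 * h by omega)]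
    have : (h : ℂ) ≠ 0 := Nat.cast_ne_zero.2 hh.ne'
    push_cast
    field_simp
    ring
  rw [hsum, mul_left_comm, mul_inv_cancel₀ hne]
  ring

theorem rotInt_self (χ : IrrCharacter G) :
    rotInt S T χ χ = 2 * h * (T.vec χ h ^ 2 + 2 * ∑ l ∈ Ico 1 h, T.vec χ l ^ 2) -
      (T.vec χ h + 2 * ∑ l ∈ Ico 1 h, T.vec χ l) ^ 2 := by
  have hh := S.h_pos
  have hsymm : ∀ l ∈ Ico 1 h, T.co χ (2 * h - l) = T.co χ l := fun l hl =>
    T.co_symm χ (by have := (mem_Ico.1 hl).2; omega)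
  rw [rotInt, sum_fold' (fun j => T.co χ j * T.co χ j) hh, sum_fold' (fun j => T.co χ j) hh,
    sum_congr rfl fun l hl => show T.co χ l * T.co χ l + T.co χ (2 * h - l) * T.co χ (2 * h - l) =
      2 * T.co χ l ^ 2 by rw [hsymm l hl]; ring,
    sum_congr rfl fun l hl => show T.co χ l + T.co χ (2 * h - l) = 2 * T.co χ l by
      rw [hsymm l hl]; ring]
  simp only [DihDefect.LocData.vec, sub_sq, sum_add_distrib, sum_sub_distrib, ← mul_sum,
    ← sum_mul, sum_const, Nat.card_Ico, nsmul_eq_mul]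
  push_cast [Nat.cast_sub (show 1 ≤ h by omega)]
  ring

variable [Fintype B]

theorem exists_reps : ∃ R, (Icc 1 h).image (fun i => σ ^ i) ⊆ R ∧ IsReps D e R ∧
    ∀ v ∈ R, v ∉ (Icc 1 h).image (fun i => σ ^ i) →
      ∀ i ∈ Icc 1 h, ¬ Fus D e v (σ ^ i) := by
  obtain ⟨R, h1, h2, h3⟩ := exists_isReps_extend (D := D) (e := e)
    (R₀ := (Icc 1 h).image fun i => σ ^ i)
    (fun v hv => by
      obtain ⟨i, hi, rfl⟩ := mem_image.1 hv
      exact ⟨S.pow_mem_D i, T.rot_ne_one hi⟩)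
    (fun u hu v hv hf => by
      obtain ⟨i, hi, rfl⟩ := mem_image.1 hu
      obtain ⟨j, hj, rfl⟩ := mem_image.1 hv
      obtain ⟨g, hg, hgf⟩ := hf
      rw [T.rot_not_conj hi hj hg hgf])
  exact ⟨R, h1, h2, fun v hv hn i hi => h3 v hv hn _ (mem_image_of_mem _ hi)⟩

omit [Fintype B] in
theorem refl_of_not_fus {v : G} (hv : v ∈ D) (hv1 : v ≠ 1)
    (hn : ∀ i ∈ Icc 1 h, ¬ Fus D e v (σ ^ i)) : v ∉ Z[σ] := fun hm => by
  obtain ⟨j, hj⟩ := mem_powers_iff_mem_zpowers.2 hm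
  have hj' : σ ^ (j % (2 * h)) = v := by rw [← S.ordσ, pow_mod_orderOf]; exact hj
  set i := j % (2 * h)
  have hi : i < 2 * h := Nat.mod_lt _ (by have := S.h_pos; omega)
  have hi0 : i ≠ 0 := fun e1 => hv1 (by rw [← hj', e1, pow_zero])
  rcases Nat.lt_or_ge h i with h1 | h1
  · refine hn (2 * h - i) (mem_Icc.2 ⟨by omega, by omega⟩) ?_
    have h2 := fus_conj S.pair hv S.τ_mem
    rw [← hj', ← zpow_natCast, S.τ_rot, zpow_natCast] at h2
    rwa [show σ ^ (-(i : ℤ)) = σ ^ (2 * h - i) by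
      rw [zpow_neg, zpow_natCast]
      exact inv_eq_of_mul_eq_one_right (by
        rw [← pow_add, Nat.add_sub_cancel' hi.le, S.pow_eq_one]), hj'] at h2
  · exact hn i (mem_Icc.2 ⟨by omega, h1⟩) (hj' ▸ Fus.refl _)

omit [Fintype B] in
/-- At a reflection outside the classes of the rotations four times the contribution is integral. -/
theorem integral_refl {v : G} (hv : v ∈ D) (hn : v ∉ Z[σ])
    (hnf : ∀ i ∈ Icc 1 h, ¬ Fus D e v (σ ^ i)) (χ ψ : IrrCharacter G) :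
    IsIntegral ℤ ((4 : ℂ) * contribR 2 χ ψ v (subBlk 2 D e v)) := by
  haveI : Fintype C[Z[v]] := Fintype.ofFinite _
  have hM := S.hM
  obtain ⟨fv, hfv, hfve, -⟩ := exists_sub hM S.hB S.hmax hv
  have hcard : ∀ u ∈ D, u ∉ Z[σ] → Nat.card (D ⊓ C[Z[u]] : Subgroup G) = 4 := fun u hu hu' => by
    obtain ⟨i, rfl⟩ := S.exists_refl hu hu'
    exact S.card_centralizer_refl i
  have hord : orderOf v = 2 :=
    CfsgLib.Invol.orderOf_eq_two (S.refl_sq hv hn) fun e1 => hn (e1 ▸ one_mem _)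
  obtain ⟨-, hd⟩ := isDefectGroup_sub hM S.hB S.hmax hv hfv hfve fun g hg => by
    obtain ⟨hvD, hfus⟩ := fus_of_carries S.pair hv hg
    rw [hcard v hv hn, hcard _ hvD fun hm => ?_]
    have h2 : g * v * g⁻¹ * (g * v * g⁻¹) = 1 := by
      rw [show g * v * g⁻¹ * (g * v * g⁻¹) = g * (v * v) * g⁻¹ by group, S.refl_sq hv hn, mul_one,
        mul_inv_cancel]
    rcases S.eq_z hm h2 with e1 | e1
    · exact hn (conj_eq_one_iff.1 e1 ▸ one_mem _)
    · exact hnf h (mem_Icc.2 ⟨S.h_pos, le_rfl⟩) (e1 ▸ hfus)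
  rw [hcard v hv hn] at hd
  have h1 := (scaled_contrib_mem hM (CfsgLib.BlockB.centralizer_zpowers_eq v) (k := 1)
    (by rw [hord, pow_one]) hfv (le_refl 1) χ ψ).2
  rw [← Nat.cast_pow, hd, Nat.cast_ofNat] at h1
  convert h1 using 2
  rw [← hfve]
  convert contribR_idemIn hM χ ψ (mem_pSet_of_mem S.pair hv) hfv using 2

/-- What annihilates the values annihilates the vectors. -/
theorem sum_mul_vec (F : B → ℂ)
    (hF : ∀ i ∈ Icc 1 h, ∑ ψ : B, F ψ * (T.th ψ.1 i : ℂ) = 0) (j : ℕ) :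
    ∑ ψ : B, F ψ * (T.vec ψ.1 j : ℂ) = 0 := by
  refine (mul_eq_zero.1 (show ((2 * h : ℕ) : ℂ) * ∑ ψ : B, F ψ * (T.vec ψ.1 j : ℂ) = 0 from
    ?_)).resolve_left T.two_h_ne
  rw [mul_sum]
  calc ∑ ψ : B, ((2 * h : ℕ) : ℂ) * (F ψ * (T.vec ψ.1 j : ℂ))
      = ∑ i ∈ range (2 * h), (om h ^ (i * j) - 1) * ∑ ψ : B, F ψ * (T.th ψ.1 i : ℂ) := by
        simp only [mul_left_comm _ (F _), ← T.vec_spec, mul_sum]
        rw [sum_comm]
        exact sum_congr rfl fun i _ => sum_congr rfl fun ψ _ => by ring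
    _ = 0 := by
        refine sum_eq_zero fun i hi => ?_
        by_cases hi0 : i = 0
        · subst hi0; simp
        have hlt := mem_range.1 hi
        rw [sum_congr rfl fun ψ _ => by rw [T.th_red ψ.1 hlt hi0],
          hF _ (mem_Icc.2 ⟨by omega, by omega⟩), mul_zero]

/-- Orthogonality to one subsection gives orthogonality to the values. -/
theorem sum_th_zero {i : ℕ} (hi : i ∈ Icc 1 h) (F : B → ℂ)
    (hF : ∀ φ : B, ∑ ψ : B, F ψ * contribR 2 ψ.1 φ.1 (σ ^ i) (subBlk 2 D e (σ ^ i)) = 0) :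
    ∑ ψ : B, F ψ * (T.th ψ.1 i : ℂ) = 0 := by
  obtain ⟨φ, hφ, h0⟩ := exists_height_zero S.hM S.hB
  have hne := contribR_ne_zero S.hM S.hB hφ h0 S.hmax (S.pow_mem_D i)
  rw [T.contrib_rot φ φ (T.rot_ne_one hi)] at hne
  have h4 := hF ⟨φ, hφ⟩
  simp only [T.contrib_rot _ _ (T.rot_ne_one hi), ← mul_assoc] at h4
  rw [← sum_mul, ← sum_mul, mul_eq_zero, mul_eq_zero] at h4
  rcases h4 with (h5 | h5) | h5
  · exact h5
  · exact absurd h5 (right_ne_zero_of_mul (left_ne_zero_of_mul hne))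
  · exact absurd h5 (right_ne_zero_of_mul hne)

/-- The vectors of a block with `h + 3` members. -/
theorem vec_shape (hk : Nat.card B = h + 3) : ∃ (Z S' : Finset B) (x : ℕ → B) (s : ℕ → ℤ),
    (∀ i, i ∈ Z ↔ blockHeight 2 B ((i : IrrCharacter G) : G → ℂ) = 0) ∧ Z.card = 4 ∧ S' ⊆ Z ∧
    S'.card = 2 ∧ (∀ i ∈ Z, T.vec i.1 h * T.vec i.1 h = 1) ∧ (∀ i, i ∉ Z → T.vec i.1 h = 0) ∧
    (∀ l ∈ Ico 1 h, x l ∉ Z ∧ s l * s l = 1 ∧ ∀ i,
      T.vec i.1 l = (if i ∈ S' then T.vec i.1 h else 0) + (if i = x l then s l else 0)) ∧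
    Set.InjOn x ↑(Ico 1 h) ∧ ∀ i, i ∉ Z → ∃ l ∈ Ico 1 h, x l = i := by
  let V : DihDefect.Vectors.Data B h :=
    { v := fun χ j => T.vec χ.1 j
      dz := fun χ => T.dz χ.1
      ht := fun χ => blockHeight 2 B ((χ : IrrCharacter G) : G → ℂ)
      hh := S.hh
      gram := fun j hj k hk => T.gram hj hk
      dz_eq := fun χ => T.dz_eq_vec χ.1
      sum_sq := T.sum_dz_sq
      ne_zero := fun χ => (T.dz_props χ).1
      odd := fun χ => (T.dz_props χ).2.1
      four := fun χ => (T.dz_props χ).2.2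
      exists_zero := by
        obtain ⟨χ, hχ, h0⟩ := exists_height_zero S.hM S.hB
        exact ⟨⟨χ, hχ⟩, h0⟩ }
  obtain ⟨h4, hone, hzero⟩ := V.zeros_props
  haveI : Nonempty B := by
    obtain ⟨χ, hχ⟩ := exists_mem_block S.hB
    exact ⟨⟨χ, hχ⟩⟩
  choose! Sl x s hS hS2 hx hs hv using fun l (hl : l ∈ Ico 1 h) => V.shape hl
  have hcover : ∀ i, i ∉ V.zeros → ∃ l ∈ Ico 1 h, x l = i := by
    intro i hi
    by_contra hn
    push Not at hn
    refine V.ne_zero i ?_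
    rw [V.dz_eq, hzero i hi, sum_eq_zero fun l hl => ?_]
    · ring
    · rw [hv l hl, if_neg (fun e => hi (hS l hl e)), if_neg (fun e => hn l hl e.symm)]; simp
  have himg : V.zerosᶜ = (Ico 1 h).image x := by
    ext i
    simp only [mem_compl, mem_image]
    exact ⟨fun hi => hcover i hi, fun ⟨l, hl, e⟩ => e ▸ hx l hl⟩
  have hinj : Set.InjOn x ↑(Ico 1 h) := by
    refine card_image_iff.1 ?_
    rw [← himg, card_compl, h4, ← Nat.card_eq_fintype_card, hk, Nat.card_Ico]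
    omega
  obtain ⟨S', hS', hS'c, hS'z⟩ : ∃ S' : Finset B, (∀ l ∈ Ico 1 h, Sl l = S') ∧ S'.card = 2 ∧
      S' ⊆ V.zeros := by
    have h1 : 1 ∈ Ico 1 h := mem_Ico.2 ⟨le_rfl, by
      obtain ⟨k, hk'⟩ := S.hh
      rw [hk']
      exact one_lt_pow₀ one_lt_two (by omega)⟩
    refine ⟨Sl 1, fun l hl => ?_, hS2 1 h1, hS 1 h1⟩
    by_cases hne : l = 1
    · rw [hne]
    have hg := V.gram l (mem_Icc.2 ⟨(mem_Ico.1 hl).1, (mem_Ico.1 hl).2.le⟩) 1
      (mem_Icc.2 ⟨le_rfl, (mem_Ico.1 h1).2.le⟩)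
    rw [if_neg hne, if_neg (fun e => (mem_Ico.1 hl).2.ne e.1), add_zero, add_zero] at hg
    have hxne : x l ≠ x 1 := fun e => hne (hinj (mem_coe.2 hl) (mem_coe.2 h1) e)
    have e : ∀ i, V.v i l * V.v i 1 = if i ∈ Sl l ∩ Sl 1 then (1 : ℤ) else 0 := fun i => by
      rw [hv l hl, hv 1 h1]
      by_cases hi : i ∈ V.zeros
      · have a1 : i ≠ x l := fun e => hx l hl (e ▸ hi)
        have a2 : i ≠ x 1 := fun e => hx 1 h1 (e ▸ hi)
        by_cases a : i ∈ Sl l <;> by_cases b : i ∈ Sl 1 <;> simp [a1, a2, a, b, hone i hi]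
      · have a1 : i ∉ Sl l := fun e => hi (hS l hl e)
        have a2 : i ∉ Sl 1 := fun e => hi (hS 1 h1 e)
        by_cases a : i = x l <;> by_cases b : i = x 1 <;> simp [a1, a2, a, b] <;> simp_all
    simp only [e, sum_ite_mem, univ_inter, sum_const, nsmul_one] at hg
    have hc : (Sl l ∩ Sl 1).card = 2 := by exact_mod_cast hg
    exact (eq_of_subset_of_card_le inter_subset_left (by rw [hc, hS2 l hl])).symm.trans
      (eq_of_subset_of_card_le inter_subset_right (by rw [hc, hS2 1 h1]))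
  exact ⟨V.zeros, S', x, s, fun i => V.mem_zeros, h4, hS'z, hS'c, hone, hzero,
    fun l hl => ⟨hx l hl, hs l hl, fun i => by rw [← hS' l hl]; convert hv l hl i⟩, hinj, hcover⟩

/-- The rotation norm at the members of height zero. -/
theorem rotInt_zero {Z S' : Finset B} {x : ℕ → B} {s : ℕ → ℤ}
    (hone : ∀ i ∈ Z, T.vec i.1 h * T.vec i.1 h = 1)
    (hv : ∀ l ∈ Ico 1 h, x l ∉ Z ∧ s l * s l = 1 ∧ ∀ i : B,
      T.vec i.1 l = (if i ∈ S' then T.vec i.1 h else 0) + (if i = x l then s l else 0))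
    {p : B} (hp : p ∈ Z) : rotInt S T p.1 p.1 = 2 * h - 1 := by
  have hh := S.h_pos
  have hvl : ∀ l ∈ Ico 1 h, T.vec p.1 l = if p ∈ S' then T.vec p.1 h else 0 := fun l hl => by
    obtain ⟨h1, -, h3⟩ := hv l hl
    rw [h3 p, if_neg (show p ≠ x l from fun e1 => h1 (e1 ▸ hp)), add_zero]
  rw [rotInt_self, sum_congr rfl fun l hl => by rw [hvl l hl], sum_congr rfl hvl, sum_const,
    sum_const, Nat.card_Ico, nsmul_eq_mul, nsmul_eq_mul]
  have h1 := hone p hp
  push_cast [Nat.cast_sub (show 1 ≤ h by omega)]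
  split_ifs
  · linear_combination ((2 * (h : ℤ)) * (2 * h - 1) - (2 * h - 1) ^ 2) * h1
  · linear_combination (2 * (h : ℤ) - 1) * h1

/-- **The rank is at most two and rank two determines a minor of the reduced matrix.** -/
theorem dihedral_minor (hk : Nat.card B = h + 3) (hτ : ∀ g : G, g * τ * g⁻¹ ≠ σ ^ h) :
    blockRank 2 B ≤ 2 ∧ (blockRank 2 B = 2 → ∃ (p a : B) (ε : ℤ), ε * ε = 1 ∧
      redInt 2 B p.1 p.1 = h + 1 ∧ redInt 2 B a.1 a.1 = h + 1 ∧
      redInt 2 B p.1 a.1 = ε * (1 - h) ∧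
      ∀ η : B, ∃ q : ℤ, redInt 2 B η.1 p.1 - ε * redInt 2 B η.1 a.1 = 2 * h * q ∧
        2 ∣ q - redInt 2 B η.1 p.1) := by
  have hM := S.hM
  have hh := S.h_pos
  obtain ⟨R, hR0, hR, hR1⟩ := exists_reps S T
  set R₀ := (Icc 1 h).image fun i => σ ^ i with hR₀
  have hinj0 : Set.InjOn (fun i => σ ^ i) ↑(Icc 1 h) := fun i hi j hj e1 =>
    pow_injOn_Iio_orderOf (show i ∈ Set.Iio (orderOf σ) by
      rw [S.ordσ]; simp at hi ⊢; omega) (show j ∈ Set.Iio (orderOf σ) by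
      rw [S.ordσ]; simp at hj ⊢; omega) e1
  have hctr : ∀ v ∈ R, ∃ r : ℕ, 1 ≤ r ∧
      ∑ χ : B, contribR 2 χ.1 χ.1 v (subBlk 2 D e v) = (r : ℂ) := by
    intro v hv
    haveI : Fintype C[Z[v]] := Fintype.ofFinite _
    obtain ⟨fv, hfv, hfve, -⟩ := exists_sub hM S.hB S.hmax (hR.mem v hv).1
    exact ⟨_, CfsgLib.Block.GapOneElementary.one_le_blockRank hM hfv,
      sum_contribR_self hM S.hB S.hmax (hR.mem v hv).1 hfv hfve⟩
  choose! r hr1 hr using hctr
  have hrot1 : ∀ i ∈ Icc 1 h, r (σ ^ i) = 1 := by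
    intro i hi
    have h1 := hr _ (hR0 (mem_image_of_mem _ hi))
    rw [sum_congr rfl fun χ _ => T.contrib_rot χ.1 χ.1 (T.rot_ne_one hi), ← sum_mul] at h1
    have h2 := T.sum_sq hi
    rw [← T.card_rot hi] at h2
    have h3 : ∑ χ : B, (T.th χ.1 i : ℂ) * (T.th χ.1 i : ℂ) =
        (Nat.card (D ⊓ C[Z[σ ^ i]] : Subgroup G) : ℂ) := by
      rw [← Complex.ofReal_natCast, ← h2, Complex.ofReal_sum]
      exact sum_congr rfl fun χ _ => by push_cast; ring
    rw [h3, mul_inv_cancel₀ (Nat.cast_ne_zero.2 Nat.card_pos.ne')] at h1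
    exact_mod_cast h1.symm
  have hτR : ∃ v ∈ R, v ∉ R₀ := by
    obtain ⟨v, hv, hf⟩ := hR.cover τ S.τ_mem fun e1 => S.τ_not (e1 ▸ one_mem _)
    refine ⟨v, hv, fun hv0 => ?_⟩
    obtain ⟨i, hi, rfl⟩ := mem_image.1 hv0
    have h2 : σ ^ i * σ ^ i = 1 := by
      have h3 := hf.orderOf_eq
      rw [S.ordτ] at h3
      exact CfsgLib.Invol.mul_self_eq_one h3.symm
    rcases S.eq_z (Subgroup.npow_mem_zpowers σ i) h2 with e1 | e1
    · exact T.rot_ne_one hi e1
    · obtain ⟨g, hg, -⟩ := hf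
      exact hτ g (hg.trans e1)
  have hcount : blockRank 2 B + h + ∑ v ∈ R \ R₀, r v = h + 3 := by
    have h1 := hR.card_eq hM S.hB S.hmax
    rw [sum_congr rfl hr, ← sum_sdiff hR0, hk] at h1
    have h2 : ∑ v ∈ R₀, (r v : ℂ) = (h : ℂ) := by
      rw [hR₀, sum_image hinj0, sum_congr rfl fun i hi => by rw [hrot1 i hi]]
      simp
    rw [h2] at h1
    have h3 : ((h + 3 : ℕ) : ℂ) = ((blockRank 2 B + h + ∑ v ∈ R \ R₀, r v : ℕ) : ℂ) := by
      rw [h1]; push_cast; ring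
    exact (Nat.cast_injective h3).symm
  obtain ⟨v, hv, hv0⟩ := hτR
  have hvmem : v ∈ R \ R₀ := mem_sdiff.2 ⟨hv, hv0⟩
  have hle : r v ≤ ∑ v ∈ R \ R₀, r v := single_le_sum (fun _ _ => Nat.zero_le _) hvmem
  have hv1 := hr1 v hv
  refine ⟨by omega, fun hl => ?_⟩
  have hrest : R \ R₀ = {v} ∧ r v = 1 := by
    refine ⟨eq_singleton_iff_unique_mem.2 ⟨hvmem, fun w hw => ?_⟩, by omega⟩
    by_contra hne
    have h1 : r w + r v ≤ ∑ v ∈ R \ R₀, r v := by
      rw [← sum_pair hne]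
      exact sum_le_sum_of_subset (by simp [insert_subset_iff, hw, hvmem])
    have := hr1 w (mem_sdiff.1 hw).1
    omega
  -- four times the contributions of the single further subsection
  set c : B → B → ℂ := fun χ ψ => contribR 2 χ.1 ψ.1 v (subBlk 2 D e v) with hc
  have hvD := (hR.mem v hv).1
  have hnf : ∀ i ∈ Icc 1 h, ¬ Fus D e v (σ ^ i) := hR1 v hv hv0
  have hvn := refl_of_not_fus S T hvD (hR.mem v hv).2 hnf
  have hd : ((2 : ℕ) : ℂ) ^ blockDefect 2 B = ((4 * h : ℕ) : ℂ) := by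
    rw [← Nat.cast_pow, S.defect]
  have hsplit : ∀ χ ψ : B, ((4 * h : ℕ) : ℂ) * (if χ = ψ then 1 else 0) =
      (redInt 2 B χ.1 ψ.1 : ℂ) + (rotInt S T χ.1 ψ.1 : ℂ) + ((4 * h : ℕ) : ℂ) * c χ ψ := by
    intro χ ψ
    rw [hR.delta_eq hM S.hB S.hmax χ ψ, ← sum_sdiff hR0, hrest.1, sum_singleton, hR₀,
      sum_image hinj0, redInt_eq_regMat hM S.hB, hd, ← sum_rot_eq S T]
    ring
  have hint : ∀ χ ψ : B, ∃ K : ℤ, 4 * c χ ψ = (K : ℂ) := by
    intro χ ψ
    obtain ⟨n, hn, -⟩ := CfsgLib.Char.exists_int_of_isIntegral_rat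
      (((4 * h * (if χ = ψ then 1 else 0) - redInt 2 B χ.1 ψ.1 - rotInt S T χ.1 ψ.1 : ℤ) : ℚ) /
        (h : ℚ))
      (integral_refl S T hvD hvn hnf χ.1 ψ.1) (by
        have h1 := hsplit χ ψ
        have h0 : (h : ℂ) ≠ 0 := Nat.cast_ne_zero.2 hh.ne'
        split_ifs at h1 ⊢ with hx <;> push_cast at h1 ⊢ <;> rw [eq_div_iff h0] <;>
          linear_combination (-1 : ℂ) * h1)
    exact ⟨n, hn⟩
  choose K hK using hint
  have hsumK : ∑ χ : B, K χ χ = 4 := by
    have h1 : ((∑ χ : B, K χ χ : ℤ) : ℂ) = ((4 : ℤ) : ℂ) := by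
      push_cast
      rw [← sum_congr rfl fun χ _ => hK χ χ, ← mul_sum, hr v hv, hrest.2, Nat.cast_one, mul_one]
    exact_mod_cast h1
  have hKnn : ∀ χ : B, 0 ≤ K χ χ := fun χ => by
    have h1 : 0 ≤ ((K χ χ : ℂ)).re := by
      rw [← hK χ χ, hc]
      have h2 := contribR_self_nonneg (p := 2) χ.1 v (subBlk 2 D e v)
      simpa using h2
    rw [Complex.intCast_re] at h1
    exact_mod_cast h1
  obtain ⟨Z, S', x, s, hZ, hZ4, hS'Z, hS'2, hone, hzero, hvl, hxinj, hcover⟩ := vec_shape S T hk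
  have hKpos : ∀ p ∈ Z, 1 ≤ K p p := fun p hp => by
    refine Int.add_one_le_iff.2 (lt_of_le_of_ne (hKnn p) fun e1 => ?_)
    have h1 := hK p p
    rw [← e1, Int.cast_zero, mul_eq_zero, hc] at h1
    exact contribR_ne_zero hM S.hB p.2 ((hZ p).1 hp) S.hmax hvD (h1.resolve_left (by norm_num : ¬ (4 : ℂ) = 0))
  have hKone : ∀ p ∈ Z, K p p = 1 := by
    intro p hp
    have h1 : ∑ q ∈ Z, K q q ≤ 4 :=
      hsumK ▸ sum_le_sum_of_subset_of_nonneg (subset_univ Z) fun q _ _ => hKnn q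
    have h2 : ∑ q ∈ Z.erase p, (1 : ℤ) ≤ ∑ q ∈ Z.erase p, K q q :=
      sum_le_sum fun q hq => hKpos q (mem_of_mem_erase hq)
    rw [← add_sum_erase _ _ hp] at h1
    rw [sum_const, card_erase_of_mem hp, hZ4, nsmul_one] at h2
    have := hKpos p hp
    push_cast at h2
    omega
  have hKmul : ∀ χ φ : B, ∑ ψ : B, K χ ψ * K ψ φ = 4 * K χ φ := by
    intro χ φ
    apply Int.cast_injective (α := ℂ)
    push_cast
    simp only [← hK]
    rw [show c χ φ = ∑ ψ : B, c χ ψ * c ψ φ from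
      (contribR_idem hM S.hB S.hmax hvD χ.1 φ.1).symm, mul_sum, mul_sum]
    exact sum_congr rfl fun ψ _ => by ring
  have hKsymm : ∀ χ ψ : B, K χ ψ = K ψ χ := fun χ ψ => by
    have h1 : ((K χ ψ : ℤ) : ℂ) = (K ψ χ : ℂ) := by
      rw [← map_intCast (starRingEnd ℂ) (K χ ψ), ← hK, ← hK, map_mul, map_ofNat, hc,
        conj_contribR]
    exact_mod_cast h1
  have hKvec : ∀ (χ : B) (j : ℕ), ∑ ψ : B, K χ ψ * T.vec ψ.1 j = 0 := by
    intro χ j
    have h1 := sum_mul_vec S T (fun ψ => c χ ψ) (fun i hi => sum_th_zero S T hi _ fun φ =>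
      hR.contrib_orth hM S.hB S.hmax hv (hR0 (mem_image_of_mem _ hi))
        (fun e1 => hv0 (e1 ▸ mem_image_of_mem _ hi)) χ φ) j
    apply Int.cast_injective (α := ℂ)
    push_cast
    simp only [← hK, mul_assoc, ← mul_sum, h1, mul_zero]
  have hRvec : ∀ (χ : B) (j : ℕ), ∑ ψ : B, redInt 2 B χ.1 ψ.1 * T.vec ψ.1 j = 0 := by
    intro χ j
    have h1 := sum_mul_vec S T (fun ψ => regMat 2 B χ ψ) (fun i hi => sum_th_zero S T hi _ fun φ =>
      hR.reg_orth hM S.hB S.hmax (hR0 (mem_image_of_mem _ hi)) χ φ) j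
    apply Int.cast_injective (α := ℂ)
    push_cast
    simp only [redInt_eq_regMat hM S.hB, mul_assoc, ← mul_sum, h1, mul_zero]
  have hRK : ∀ χ φ : B, ∑ ψ : B, redInt 2 B χ.1 ψ.1 * K ψ φ = 0 := by
    intro χ φ
    apply Int.cast_injective (α := ℂ)
    push_cast
    simp only [redInt_eq_regMat hM S.hB, ← hK]
    calc ∑ ψ : B, ((2 : ℕ) : ℂ) ^ blockDefect 2 B * regMat 2 B χ ψ * (4 * c ψ φ)
        = ((2 : ℕ) : ℂ) ^ blockDefect 2 B * 4 * ∑ ψ : B, regMat 2 B χ ψ * c ψ φ := by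
          rw [mul_sum]
          exact sum_congr rfl fun ψ _ => by ring
      _ = 0 := by rw [hc, hR.reg_orth hM S.hB S.hmax hv χ φ, mul_zero]
  have hRdiag : ∀ p ∈ Z, redInt 2 B p.1 p.1 = h + 1 := by
    intro p hp
    have h1 := hsplit p p
    rw [if_pos rfl, rotInt_zero S T hone hvl hp] at h1
    have h2 := hK p p
    rw [hKone p hp] at h2
    apply Int.cast_injective (α := ℂ)
    push_cast at h1 h2 ⊢
    linear_combination (-1 : ℂ) * h1 + (h : ℂ) * (-1 : ℂ) * h2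
  have hRmul : ∀ p : B, ∑ ψ : B, redInt 2 B p.1 ψ.1 ^ 2 = 4 * h * redInt 2 B p.1 p.1 := by
    intro p
    apply Int.cast_injective (α := ℂ)
    push_cast
    simp only [redInt_eq_regMat hM S.hB, hd]
    have h1 := congrFun (congrFun (regMat_mul_self hM S.hB) p) p
    rw [Matrix.mul_apply] at h1
    push_cast
    conv_rhs => rw [← h1, mul_sum, mul_sum]
    exact sum_congr rfl fun ψ _ => by rw [regMat_symm ψ p]; ring
  -- the four members of height zero
  obtain ⟨p, a, hpa, hS'eq⟩ := card_eq_two.1 hS'2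
  obtain ⟨b, c', hbc, hbc'⟩ := card_eq_two.1 (show (Z \ S').card = 2 by
    rw [card_sdiff_of_subset hS'Z, hZ4, hS'2])
  have hZeq : ∀ F : B → ℤ, ∑ i ∈ Z, F i = F p + F a + (F b + F c') := fun F => by
    rw [← sum_sdiff hS'Z, hbc', hS'eq, sum_pair hpa, sum_pair hbc, add_comm]
  have hpZ : p ∈ Z := hS'Z (by rw [hS'eq]; simp)
  have haZ : a ∈ Z := hS'Z (by rw [hS'eq]; simp)
  have hbm : b ∈ Z \ S' := by rw [hbc']; simp
  have hcm : c' ∈ Z \ S' := by rw [hbc']; simp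
  have hbZ := (mem_sdiff.1 hbm).1
  have hcZ := (mem_sdiff.1 hcm).1
  -- the entries outside, by orthogonality to the vectors
  have hout : ∀ F : B → ℤ, (∀ j, ∑ ψ : B, F ψ * T.vec ψ.1 j = 0) →
      F p * T.vec p.1 h + F a * T.vec a.1 h + (F b * T.vec b.1 h + F c' * T.vec c'.1 h) = 0 ∧
        ∑ ψ : B, F ψ ^ 2 = F p ^ 2 + F a ^ 2 + (F b ^ 2 + F c' ^ 2) +
          ((h : ℤ) - 1) * (F p * T.vec p.1 h + F a * T.vec a.1 h) ^ 2 := by
    intro F hF
    constructor
    · rw [← hZeq fun i => F i * T.vec i.1 h, ← hF h]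
      exact sum_subset (subset_univ _) fun i _ hi => by rw [hzero i hi, mul_zero]
    · have hx : ∀ l ∈ Ico 1 h, F (x l) ^ 2 = (F p * T.vec p.1 h + F a * T.vec a.1 h) ^ 2 := by
        intro l hl
        obtain ⟨hxl, hs, hform⟩ := hvl l hl
        have h1 := hF l
        simp only [hform, mul_add, sum_add_distrib, mul_ite, mul_zero, sum_ite_mem, univ_inter,
          sum_ite_eq', mem_univ, if_true, hS'eq, sum_pair hpa] at h1
        linear_combination (F (x l) * s l - (F p * T.vec p.1 h + F a * T.vec a.1 h)) * h1 -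
          F (x l) ^ 2 * hs
      have himg : Zᶜ = (Ico 1 h).image x := by
        ext i
        simp only [mem_compl, mem_image]
        exact ⟨fun hi => hcover i hi, fun ⟨l, hl, e⟩ => e ▸ (hvl l hl).1⟩
      rw [← sum_add_sum_compl Z, hZeq fun i => F i ^ 2, himg, sum_image hxinj,
        sum_congr rfl hx, sum_const, Nat.card_Ico, nsmul_eq_mul]
      push_cast [Nat.cast_sub (show 1 ≤ h by omega)]
      ring
  set ep := T.vec p.1 h with hep
  set ea := T.vec a.1 h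
  set eb := T.vec b.1 h
  set ec := T.vec c'.1 h
  have p1 : ep * ep = 1 := hone p hpZ
  have a1 : ea * ea = 1 := hone a haZ
  have b1 : eb * eb = 1 := hone b hbZ
  have c1 : ec * ec = 1 := hone c' hcZ
  -- the row of the further subsection
  set Ka := K p a * ep * ea
  set Kb := K p b * ep * eb
  set Kc := K p c' * ep * ec
  obtain ⟨k0, k1⟩ := hout (fun ψ => K p ψ) (hKvec p)
  have kp := hKone p hpZ
  have hnorm : ∑ ψ : B, K p ψ ^ 2 = 4 := by
    rw [show (4 : ℤ) = 4 * K p p by rw [kp, mul_one], ← hKmul p p]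
    exact sum_congr rfl fun ψ _ => by rw [hKsymm ψ p]; ring
  rw [hnorm, kp] at k1
  simp only [kp] at k0
  have hsum0 : 1 + Ka + (Kb + Kc) = 0 := by
    simp only [Ka, Kb, Kc]
    linear_combination ep * k0 - p1
  have hnorm' : 4 = 1 + Ka ^ 2 + (Kb ^ 2 + Kc ^ 2) + ((h : ℤ) - 1) * (1 + Ka) ^ 2 := by
    simp only [Ka, Kb, Kc]
    linear_combination k1 - (K p a ^ 2 * ea ^ 2 + K p b ^ 2 * eb ^ 2 + K p c' ^ 2 * ec ^ 2) * p1 -
      K p a ^ 2 * a1 - K p b ^ 2 * b1 - K p c' ^ 2 * c1 +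
      ((h : ℤ) - 1) * (1 - K p a ^ 2 * ea ^ 2) * p1
  have h2le : 2 ∣ (h : ℤ) ∧ 2 ≤ (h : ℤ) := by
    obtain ⟨k, hk'⟩ := S.hh
    exact ⟨⟨2 ^ k, by rw [hk']; push_cast; ring⟩, by
      have := Nat.two_pow_pos k
      rw [hk', pow_succ]; push_cast; nlinarith⟩
  obtain ⟨hKa, hKbc⟩ : Ka = -1 ∧ ((Kb = 1 ∧ Kc = -1) ∨ (Kb = -1 ∧ Kc = 1)) := by
    obtain ⟨⟨q, hq⟩, hq2⟩ := h2le
    have bb : ∀ X : ℤ, X ^ 2 ≤ 3 → -1 ≤ X ∧ X ≤ 1 := fun X hX => by constructor <;> nlinarith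
    have nn : 0 ≤ ((h : ℤ) - 1) * (1 + Ka) ^ 2 := mul_nonneg (by omega) (sq_nonneg _)
    obtain ⟨a0, a0'⟩ := bb Ka (by nlinarith [sq_nonneg Kb, sq_nonneg Kc])
    obtain ⟨b0, b0'⟩ := bb Kb (by nlinarith [sq_nonneg Ka, sq_nonneg Kc])
    obtain ⟨c0, c0'⟩ := bb Kc (by nlinarith [sq_nonneg Ka, sq_nonneg Kb])
    interval_cases Ka <;> interval_cases Kb <;> interval_cases Kc <;> norm_num at * <;> omega
  -- the row of the reduced matrix
  set r' := redInt 2 B p.1 a.1 * ep * ea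
  set Rb := redInt 2 B p.1 b.1 * ep * eb
  set Rc := redInt 2 B p.1 c'.1 * ep * ec
  obtain ⟨q0, q1⟩ := hout (fun ψ => redInt 2 B p.1 ψ.1) (hRvec p)
  have rp := hRdiag p hpZ
  rw [hRmul p, rp] at q1
  simp only [rp] at q0
  have hR0' : (h + 1 : ℤ) + r' + (Rb + Rc) = 0 := by
    simp only [r', Rb, Rc]
    linear_combination ep * q0 - (h + 1 : ℤ) * p1
  have hR1' : 4 * (h : ℤ) * (h + 1) = ((h : ℤ) + 1) ^ 2 + r' ^ 2 + (Rb ^ 2 + Rc ^ 2) +
      ((h : ℤ) - 1) * ((h + 1) + r') ^ 2 := by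
    simp only [r', Rb, Rc]
    linear_combination q1 -
      (redInt 2 B p.1 a.1 ^ 2 * ea ^ 2 + redInt 2 B p.1 b.1 ^ 2 * eb ^ 2 +
        redInt 2 B p.1 c'.1 ^ 2 * ec ^ 2) * p1 -
      redInt 2 B p.1 a.1 ^ 2 * a1 - redInt 2 B p.1 b.1 ^ 2 * b1 - redInt 2 B p.1 c'.1 ^ 2 * c1 +
      ((h : ℤ) - 1) * (((h : ℤ) + 1) ^ 2 - redInt 2 B p.1 a.1 ^ 2 * ea ^ 2) * p1
  -- orthogonality of the two rows
  have hRK' : (h + 1 : ℤ) + r' * Ka + (Rb * Kb + Rc * Kc) = 0 := by
    have h1 : ∑ ψ : B, redInt 2 B p.1 ψ.1 * K p ψ = 0 := by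
      rw [← hRK p p]
      exact sum_congr rfl fun ψ _ => by rw [hKsymm ψ p]
    obtain ⟨-, w1⟩ := hout (fun ψ => redInt 2 B p.1 ψ.1 + K p ψ) fun j => by
      simp only [add_mul, sum_add_distrib, hRvec, hKvec, add_zero]
    have h2 : ∑ ψ : B, (redInt 2 B p.1 ψ.1 + K p ψ) ^ 2 =
        ∑ ψ : B, redInt 2 B p.1 ψ.1 ^ 2 + 2 * ∑ ψ : B, redInt 2 B p.1 ψ.1 * K p ψ +
          ∑ ψ : B, K p ψ ^ 2 := by
      rw [mul_sum, ← sum_add_distrib, ← sum_add_distrib]
      exact sum_congr rfl fun ψ _ => by ring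
    rw [h2, h1, hRmul p, rp, hnorm] at w1
    simp only [kp, rp] at w1
    have hU : ((h + 1 : ℤ) * ep + redInt 2 B p.1 a.1 * ea) * (1 + Ka) = 0 := by rw [hKa]; ring
    simp only [Ka, Kb, Kc, r', Rb, Rc] at hU ⊢
    have h3 : 2 * ((h + 1 : ℤ) + redInt 2 B p.1 a.1 * K p a + (redInt 2 B p.1 b.1 * K p b +
        redInt 2 B p.1 c'.1 * K p c') +
        ((h : ℤ) - 1) * ((h + 1 : ℤ) * ep + redInt 2 B p.1 a.1 * ea) * (ep + K p a * ea)) = 0 := by
      linear_combination q1 + k1 - w1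
    have h4 : (ep + K p a * ea) = ep * (1 + K p a * ep * ea) := by
      linear_combination (-(K p a * ea)) * p1
    rw [h4] at h3
    linear_combination (1 / 2 : ℤ) * 0 + (mul_eq_zero.1 h3).resolve_left two_ne_zero -
      ((h : ℤ) - 1) * ep * hU + redInt 2 B p.1 a.1 * K p a * ea ^ 2 * p1 +
      redInt 2 B p.1 a.1 * K p a * a1 + redInt 2 B p.1 b.1 * K p b * eb ^ 2 * p1 +
      redInt 2 B p.1 b.1 * K p b * b1 + redInt 2 B p.1 c'.1 * K p c' * ec ^ 2 * p1 +
      redInt 2 B p.1 c'.1 * K p c' * c1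
  have hr' : r' = 1 - (h : ℤ) := by
    rw [hKa] at hRK'
    have hsq : (r' - (1 - (h : ℤ))) ^ 2 * ((h : ℤ) + 1) = 0 := by
      rcases hKbc with ⟨e1, e2⟩ | ⟨e1, e2⟩ <;> rw [e1, e2] at hRK'
      · have eRb : Rb = -((h : ℤ) + 1) := by linarith
        have eRc : Rc = -r' := by linarith
        rw [eRb, eRc] at hR1'
        linear_combination -hR1'
      · have eRc : Rc = -((h : ℤ) + 1) := by linarith
        have eRb : Rb = -r' := by linarith
        rw [eRb, eRc] at hR1'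
        linear_combination -hR1'
    have := pow_eq_zero_iff two_ne_zero |>.1
      ((mul_eq_zero.1 hsq).resolve_right (by omega))
    omega
  have hε : ep * ea * (ep * ea) = 1 := by linear_combination ea ^ 2 * p1 + a1
  have hra : redInt 2 B p.1 a.1 = ep * ea * (1 - h) := by
    rw [← hr']
    simp only [r']
    linear_combination (-(redInt 2 B p.1 a.1 * ea ^ 2)) * p1 - redInt 2 B p.1 a.1 * a1
  refine ⟨p, a, ep * ea, hε, rp, hRdiag a haZ, hra, ?_⟩
  -- the difference of the two rows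
  set ε := ep * ea with hεdef
  set F : B → ℤ := fun η => redInt 2 B p.1 η.1 - ε * redInt 2 B a.1 η.1 with hF
  have hsymm : ∀ x y : B, redInt 2 B x.1 y.1 = redInt 2 B y.1 x.1 := fun x y =>
    redInt_comm x.1 y.1
  have hFp : F p = 2 * h := by
    simp only [hF]
    rw [rp, hsymm a p, hra]
    linear_combination (-(1 - (h : ℤ))) * hε
  have hFa : F a = -(ε * (2 * h)) := by
    simp only [hF]
    rw [hra, hRdiag a haZ]; ring
  obtain ⟨f0, f1⟩ := hout F fun j => by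
    simp only [hF, sub_mul, mul_assoc, sum_sub_distrib, ← mul_sum, hRvec, mul_zero, sub_zero]
  have hsq : ∑ η : B, F η ^ 2 = 16 * (h : ℤ) ^ 2 := by
    have hmixed : ∀ x y : B, ∑ η : B, redInt 2 B x.1 η.1 * redInt 2 B y.1 η.1 =
        4 * h * redInt 2 B x.1 y.1 := fun x y => by
      apply Int.cast_injective (α := ℂ)
      push_cast
      simp only [redInt_eq_regMat hM S.hB, hd]
      have h1 := congrFun (congrFun (regMat_mul_self hM S.hB) x) y
      rw [Matrix.mul_apply] at h1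
      push_cast
      conv_rhs => rw [← h1, mul_sum, mul_sum]
      exact sum_congr rfl fun η _ => by rw [regMat_symm y η]; ring
    calc ∑ η : B, F η ^ 2
        = ∑ η : B, redInt 2 B p.1 η.1 * redInt 2 B p.1 η.1 +
            ε * ε * ∑ η : B, redInt 2 B a.1 η.1 * redInt 2 B a.1 η.1 -
            2 * ε * ∑ η : B, redInt 2 B p.1 η.1 * redInt 2 B a.1 η.1 := by
          rw [mul_sum, mul_sum, ← sum_add_distrib, ← sum_sub_distrib]
          exact sum_congr rfl fun η _ => by simp only [hF]; ring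
      _ = _ := by
          rw [hmixed, hmixed, hmixed, rp, hRdiag a haZ, hra]
          linear_combination (4 * (h : ℤ) * ((h : ℤ) + 1) - 8 * (h : ℤ) * (1 - h)) * hε
  have hU : F p * ep + F a * ea = 0 := by
    rw [hFp, hFa, hεdef]
    linear_combination (-(2 * (h : ℤ) * ep)) * a1
  rw [hsq, hU] at f1
  have hb2 : F b ^ 2 = (2 * (h : ℤ)) ^ 2 ∧ F c' ^ 2 = (2 * (h : ℤ)) ^ 2 := by
    rw [hFp, hFa] at f1
    have hbc2 : F b ^ 2 = F c' ^ 2 := by
      linear_combination (F b * eb - F c' * ec) * f0 - (F b * eb - F c' * ec) * hU -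
        F b ^ 2 * b1 + F c' ^ 2 * c1
    have h2 : 2 * F b ^ 2 = 2 * (2 * (h : ℤ)) ^ 2 := by
      linear_combination hbc2 - f1 - 4 * (h : ℤ) ^ 2 * hε
    exact ⟨mul_left_cancel₀ two_ne_zero h2, by rw [← hbc2]; exact mul_left_cancel₀ two_ne_zero h2⟩
  have hzero' : ∀ η : B, η ∉ Z → F η = 0 := by
    intro η hη
    have h1 := sum_add_sum_compl Z fun η => F η ^ 2
    rw [hsq, hZeq fun η => F η ^ 2, hb2.1, hb2.2, hFp, hFa] at h1
    have h2 : ∑ η ∈ Zᶜ, F η ^ 2 = 0 := by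
      linear_combination h1 - (2 * (h : ℤ)) ^ 2 * hε
    exact (pow_eq_zero_iff two_ne_zero).1
      ((sum_eq_zero_iff_of_nonneg fun _ _ => sq_nonneg _).1 h2 η (mem_compl.2 hη))
  have hpar : ∀ η : B, (2 : ℤ) ∣ redInt 2 B η.1 p.1 ↔ η ∉ Z := fun η => by
    have h1 := (pow_dvd_redInt hM S.hB η.2 p.2).2
    rw [(hZ p).1 hpZ, zero_add, pow_one] at h1
    rw [hZ η]
    exact_mod_cast h1
  intro η
  have hFη : redInt 2 B η.1 p.1 - ε * redInt 2 B η.1 a.1 = F η := by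
    rw [hsymm η p, hsymm η a]
  rw [hFη]
  by_cases hη : η ∈ Z
  · have hodd : ¬ (2 : ℤ) ∣ redInt 2 B η.1 p.1 := fun hd' => (hpar η).1 hd' hη
    have hmem : η = p ∨ η = a ∨ η = b ∨ η = c' := by
      by_cases hs : η ∈ S'
      · rw [hS'eq, mem_insert, mem_singleton] at hs; tauto
      · have h3 : η ∈ Z \ S' := mem_sdiff.2 ⟨hη, hs⟩
        rw [hbc', mem_insert, mem_singleton] at h3; tauto
    have hsq' : F η ^ 2 = (2 * (h : ℤ)) ^ 2 := by
      rcases hmem with rfl | rfl | rfl | rfl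
      · rw [hFp]
      · rw [hFa]; linear_combination (2 * (h : ℤ)) ^ 2 * hε
      · exact hb2.1
      · exact hb2.2
    rcases sq_eq_sq_iff_eq_or_eq_neg.1 hsq' with e1 | e1
    · exact ⟨1, by rw [e1, mul_one], by omega⟩
    · exact ⟨-1, by rw [e1]; ring, by omega⟩
  · have := (hpar η).2 hη
    exact ⟨0, by rw [hzero' η hη, mul_zero], by omega⟩

end dih

/-- The data give the number of members. -/
theorem dihedral_card (S : DihData (M := M) B D e σ τ h) [Fintype C[Z[σ ^ h]]] [Fintype B]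
    {f : Set (IrrCharacter C[Z[σ ^ h]])} {e' : MonoidAlgebra (Residue M) C[Z[σ ^ h]]}
    {χ₀ : IrrCharacter C[Z[σ ^ h]]} {Φ : IrrCharacter (D.subgroupOf C[Z[σ ^ h]]) ≃ f}
    (T : DihDefect.LocData S f e' χ₀ Φ) : Nat.card B = h + 3 := by
  let V : DihDefect.Vectors.Data B h :=
    { v := fun χ j => T.vec χ.1 j
      dz := fun χ => T.dz χ.1
      ht := fun χ => blockHeight 2 B ((χ : IrrCharacter G) : G → ℂ)
      hh := S.hh
      gram := fun j hj k hk => T.gram hj hk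
      dz_eq := fun χ => T.dz_eq_vec χ.1
      sum_sq := T.sum_dz_sq
      ne_zero := fun χ => (T.dz_props χ).1
      odd := fun χ => (T.dz_props χ).2.1
      four := fun χ => (T.dz_props χ).2.2
      exists_zero := by
        obtain ⟨χ, hχ, h0⟩ := exists_height_zero S.hM S.hB
        exact ⟨⟨χ, hχ⟩, h0⟩ }
  obtain ⟨-, -, hup, hlow⟩ := V.main
  have hlow' : h + 3 ≤ Fintype.card B := by
    refine hlow.resolve_right fun hex => ?_
    obtain ⟨hh4, hcard, hspec⟩ := hex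
    have h1 := T.rank_add_le
    have h2 := CfsgLib.Block.GapOneElementary.one_le_blockRank S.hM S.hB
    rw [Nat.card_eq_fintype_card, hcard, hh4] at h1
    exact T.contradiction hh4 (by rw [Nat.card_eq_fintype_card, hcard]; omega) (by omega) hspec
  rw [Nat.card_eq_fintype_card]
  omega

/-- **A two by two minor determines a matrix of rank two.** -/
theorem rank_two_form (hM : IsPModular 2 M) (hB : IsPBlock M B) [Fintype B]
    (hd : 2 ^ blockDefect 2 B = 4 * h) (hl : blockRank 2 B = 2) {p a : B} {ε : ℤ} (hε : ε * ε = 1)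
    (hpp : redInt 2 B p.1 p.1 = h + 1) (haa : redInt 2 B a.1 a.1 = h + 1)
    (hpa : redInt 2 B p.1 a.1 = ε * (1 - h)) (χ ψ : B) :
    4 * (h : ℤ) * redInt 2 B χ.1 ψ.1 =
      (h : ℤ) * ((redInt 2 B χ.1 p.1 + ε * redInt 2 B χ.1 a.1) *
        (redInt 2 B ψ.1 p.1 + ε * redInt 2 B ψ.1 a.1)) +
      (redInt 2 B χ.1 p.1 - ε * redInt 2 B χ.1 a.1) *
        (redInt 2 B ψ.1 p.1 - ε * redInt 2 B ψ.1 a.1) := by
  have hh : (h : ℂ) ≠ 0 := Nat.cast_ne_zero.2 fun e1 => by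
    have := Nat.two_pow_pos (blockDefect 2 B); rw [hd, e1] at this; omega
  set P : B → B → ℂ := fun x y => regMat 2 B x y with hP
  have hred : ∀ x y : B, (redInt 2 B x.1 y.1 : ℂ) = 4 * (h : ℂ) * P x y := fun x y => by
    rw [redInt_eq_regMat hM hB, ← Nat.cast_pow, hd]; push_cast; ring
  have hPsymm : ∀ x y, P x y = P y x := fun x y => regMat_symm x y
  have hPmul : ∀ x z, ∑ y : B, P x y * P y z = P x z := fun x z => by
    rw [hP]; exact Matrix.mul_apply.symm.trans (congrFun (congrFun (regMat_mul_self hM hB) x) z)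
  have hε' : (ε : ℂ) * ε = 1 := by exact_mod_cast hε
  have cpp : P p p = ((h : ℂ) + 1) / (4 * h) := by
    rw [eq_div_iff (mul_ne_zero (by norm_num : (4 : ℂ) ≠ 0) hh)]
    have h1 := hred p p; rw [hpp] at h1; push_cast at h1; linear_combination -h1
  have caa : P a a = ((h : ℂ) + 1) / (4 * h) := by
    rw [eq_div_iff (mul_ne_zero (by norm_num : (4 : ℂ) ≠ 0) hh)]
    have h1 := hred a a; rw [haa] at h1; push_cast at h1; linear_combination -h1
  have cpa : P p a = (ε : ℂ) * (1 - (h : ℂ)) / (4 * h) := by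
    rw [eq_div_iff (mul_ne_zero (by norm_num : (4 : ℂ) ≠ 0) hh)]
    have h1 := hred p a; rw [hpa] at h1; push_cast at h1; linear_combination -h1
  set u : B → ℂ := fun x => P x p + (ε : ℂ) * P x a with hu
  set v : B → ℂ := fun x => P x p - (ε : ℂ) * P x a with hv
  have hmul : ∀ (x q : B), ∑ y : B, P x y * P y q = P x q := hPmul
  have hPu : ∀ x, ∑ y : B, P x y * u y = u x := fun x => by
    simp only [hu, mul_add, mul_left_comm _ (ε : ℂ), sum_add_distrib, ← mul_sum, hmul]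
  have hPv : ∀ x, ∑ y : B, P x y * v y = v x := fun x => by
    simp only [hv, mul_sub, mul_left_comm _ (ε : ℂ), sum_sub_distrib, ← mul_sum, hmul]
  have hdot : ∀ q q' : B, ∑ y : B, P y q * P y q' = P q q' := fun q q' => by
    simp only [hPsymm _ q]; exact hmul q q'
  have huu : ∑ y : B, u y * u y = 1 / (h : ℂ) := by
    calc ∑ y : B, u y * u y = ∑ y : B, P y p * P y p + 2 * (ε : ℂ) * ∑ y : B, P y p * P y a +
          (ε : ℂ) * ε * ∑ y : B, P y a * P y a := by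
          rw [mul_sum, mul_sum, ← sum_add_distrib, ← sum_add_distrib]
          exact sum_congr rfl fun y _ => by simp only [hu]; ring
      _ = 1 / (h : ℂ) := by
          rw [hdot, hdot, hdot, cpp, cpa, caa]
          field_simp
          linear_combination (2 * (1 - (h : ℂ)) + ((h : ℂ) + 1)) * hε'
  have hvv : ∑ y : B, v y * v y = 1 := by
    calc ∑ y : B, v y * v y = ∑ y : B, P y p * P y p - 2 * (ε : ℂ) * ∑ y : B, P y p * P y a +
          (ε : ℂ) * ε * ∑ y : B, P y a * P y a := by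
          rw [mul_sum, mul_sum, ← sum_sub_distrib, ← sum_add_distrib]
          exact sum_congr rfl fun y _ => by simp only [hv]; ring
      _ = 1 := by
          rw [hdot, hdot, hdot, cpp, cpa, caa]
          field_simp
          linear_combination (-2 * (1 - (h : ℂ)) + ((h : ℂ) + 1)) * hε'
  have huv : ∑ y : B, u y * v y = 0 := by
    calc ∑ y : B, u y * v y = ∑ y : B, P y p * P y p -
          (ε : ℂ) * ε * ∑ y : B, P y a * P y a := by
          rw [mul_sum, ← sum_sub_distrib]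
          exact sum_congr rfl fun y _ => by simp only [hu, hv]; ring
      _ = 0 := by rw [hdot, hdot, cpp, caa, hε', one_mul, sub_self]
  set E : B → B → ℂ := fun x y => P x y - (h : ℂ) * (u x * u y) - v x * v y with hE
  have hEidem : ∀ x z, ∑ y : B, E x y * E y z = E x z := by
    intro x z
    have e1 : ∀ y, E x y * E y z = P x y * P y z - (h : ℂ) * u z * (P x y * u y) -
        v z * (P x y * v y) - (h : ℂ) * u x * (P z y * u y) - v x * (P z y * v y) +
        (h : ℂ) * (h : ℂ) * u x * u z * (u y * u y) + v x * v z * (v y * v y) +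
        (h : ℂ) * (u x * v z + v x * u z) * (u y * v y) := fun y => by
      simp only [hE, hPsymm y z]; ring
    rw [sum_congr rfl fun y _ => e1 y]
    simp only [sum_add_distrib, sum_sub_distrib, ← mul_sum, hPmul, hPu, hPv, huu, hvv, huv, hE]
    field_simp
    ring
  have hconjP : ∀ x y, conj (P x y) = P x y := fun x y => by
    simp only [hP, regMat_eq, map_div₀, map_natCast, map_intCast]
  have hEherm : ∀ x y, conj (E x y) = E y x := fun x y => by
    simp only [hE, hu, hv, map_sub, map_mul, map_add, map_natCast, map_intCast, hconjP]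
    rw [hPsymm x y]; ring
  have htr : ∑ x : B, E x x = 0 := by
    simp only [hE, sum_sub_distrib, ← mul_sum, huu, hvv]
    rw [← blockRank_eq_trace hM hB, hl]
    field_simp
    norm_num
  have hdiag : ∀ x, E x x = 0 := by
    intro x
    have h1 : ∀ y, E y y = ((∑ z : B, ‖E y z‖ ^ 2 : ℝ) : ℂ) := fun y => by
      rw [Complex.ofReal_sum]
      conv_lhs => rw [← hEidem y y]
      exact sum_congr rfl fun z _ => by
        rw [Complex.ofReal_pow, ← Complex.mul_conj', hEherm]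
    simp only [h1, ← Complex.ofReal_sum, Complex.ofReal_eq_zero] at htr ⊢
    exact (sum_eq_zero_iff_of_nonneg fun y _ => sum_nonneg fun z _ => sq_nonneg _).1 htr x
      (mem_univ _)
  have h0 := proj_row_zero E hEidem hEherm (hdiag χ) ψ
  apply Int.cast_injective (α := ℂ)
  push_cast
  simp only [hred]
  simp only [hE, hu, hv] at h0
  linear_combination (16 * (h : ℂ) ^ 2) * h0

end CfsgLib.SDDefect
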