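import Cfsg.Agent.BlocksB.SemidihedralDefect.Setup
import Cfsg.Agent.BlocksB.QuatDefect.Local

/-!
# A block with semidihedral defect group: the block at the rotation of order four
-/

set_option autoImplicit false
set_option linter.style.haveILetI false
set_option linter.unusedSectionVars false

namespace CfsgLib.SDDefect

open Cfsg Finset CfsgLib.Block CfsgLib.Block.Chr CfsgLib.BrauerPairs CfsgLib.BlockStar
  CfsgLib.BlockB CfsgLib.Cyclic CfsgLib.Char
open CfsgLib.DihDefect (theta theta_eq om om_spec sum_om)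
open CfsgLib.QuatDefect (Fus fus_conj fus_of_carries emb_domCongr exists_sub isDefectGroup_sub
  eq_idem_of_pair val_central)
open scoped ComplexConjugate
open scoped Classical

universe u

variable {M : Ideal AlgInt} [M.IsPrime] [Fact (Nat.Prime 2)] [CharP (Residue M) 2]
  {G : Type u} [Group G] [Fintype G]

local notation "𝕜" => Residue M
local notation "Z[" x "]" => Subgroup.zpowers x
local notation "C[" Q "]" => Subgroup.centralizer (SetLike.coe Q)

variable {B : Set (IrrCharacter G)} {D : Subgroup G} {e : MonoidAlgebra (Residue M) G}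
  {σ τ : G} {h : ℕ}

local notation "H'" => Subgroup.centralizer (SetLike.coe (Subgroup.zpowers (σ ^ (h / 2))))
local notation "P'" => Subgroup.subgroupOf Z[σ] H'

/-- The data of the block at the rotation of order four. -/
structure LocData (S : SDData (M := M) B D e σ τ h) [Fintype C[Z[σ ^ (h / 2)]]]
    (f : Set (IrrCharacter C[Z[σ ^ (h / 2)]])) (e' : MonoidAlgebra 𝕜 C[Z[σ ^ (h / 2)]])
    (χ₀ : IrrCharacter C[Z[σ ^ (h / 2)]])
    (Φ : IrrCharacter (Z[σ].subgroupOf C[Z[σ ^ (h / 2)]]) ≃ f) : Prop where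
  hf : IsPBlock M f
  hfe : idemIn M C[Z[σ ^ (h / 2)]] f = subBlk 2 D e (σ ^ (h / 2))
  emb_e : emb C[Z[σ ^ (h / 2)]] e' = subBlk 2 D e σ
  hmax' : IsMaxPair 2 (idem M f) (Z[σ].subgroupOf C[Z[σ ^ (h / 2)]], e')
  hnil : IsNil 2 (idem M f)
  mem₀ : χ₀ ∈ f
  h0 : blockHeight 2 f (χ₀ : C[Z[σ ^ (h / 2)]] → ℂ) = 0
  hΦ : ∀ ζ : IrrCharacter (Z[σ].subgroupOf C[Z[σ ^ (h / 2)]]),
    ((Φ ζ : IrrCharacter C[Z[σ ^ (h / 2)]]) : C[Z[σ ^ (h / 2)]] → ℂ) =
      starFun 2 (weight 2 (Z[σ].subgroupOf C[Z[σ ^ (h / 2)]]) e'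
        (extendByZero (Z[σ].subgroupOf C[Z[σ ^ (h / 2)]])
          (ζ : Z[σ].subgroupOf C[Z[σ ^ (h / 2)]] → ℂ))) χ₀

namespace SDData

variable (S : SDData (M := M) B D e σ τ h)
include S

theorem le_centralizer_w : Z[σ] ≤ C[Z[σ ^ (h / 2)]] := fun _ hg =>
  mem_cz.2 (S.rot_comm hg (Subgroup.pow_mem _ (Subgroup.mem_zpowers σ) _))

theorem conj_τ_mem {x : G} (hx : x ∈ C[Z[σ ^ (h / 2)]]) :
    τ * x * τ⁻¹ ∈ C[Z[σ ^ (h / 2)]] ∧ τ⁻¹ * x * τ ∈ C[Z[σ ^ (h / 2)]] := by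
  have h1 : ∀ t : G, t * σ ^ (h / 2) * t⁻¹ = (σ ^ (h / 2))⁻¹ →
      t * x * t⁻¹ ∈ C[Z[σ ^ (h / 2)]] := by
    intro t ht
    refine mem_cz.2 ?_
    have hc : Commute x (σ ^ (h / 2))⁻¹ := (show Commute x (σ ^ (h / 2)) from mem_cz.1 hx).inv_right
    have h2 : Commute (t * x * t⁻¹) (σ ^ (h / 2))⁻¹⁻¹ := by
      have h3 : t * x * t⁻¹ * (σ ^ (h / 2))⁻¹ = (σ ^ (h / 2))⁻¹ * (t * x * t⁻¹) := by
        rw [← ht, show t * x * t⁻¹ * (t * σ ^ (h / 2) * t⁻¹) = t * (x * σ ^ (h / 2)) * t⁻¹ by group,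
          mem_cz.1 hx]
        group
      exact (show Commute _ _ from h3).inv_right
    rw [inv_inv] at h2
    exact h2
  refine ⟨h1 τ S.τ_w, ?_⟩
  have h2 := h1 τ⁻¹ (by
    have h3 := congrArg (fun y => τ⁻¹ * y⁻¹ * τ) S.τ_w
    simp only [inv_inv] at h3
    rw [inv_inv, ← h3]; group)
  rwa [inv_inv] at h2

/-- Conjugation by `τ` on the centralizer of `w`. -/
def τAut : C[Z[σ ^ (h / 2)]] ≃* C[Z[σ ^ (h / 2)]] where
  toFun x := ⟨τ * x * τ⁻¹, (S.conj_τ_mem x.2).1⟩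
  invFun x := ⟨τ⁻¹ * x * τ, (S.conj_τ_mem x.2).2⟩
  left_inv x := Subtype.ext (by simp [mul_assoc])
  right_inv x := Subtype.ext (by simp [mul_assoc])
  map_mul' x y := Subtype.ext (by simp [mul_assoc])

@[simp] theorem coe_τAut (x : C[Z[σ ^ (h / 2)]]) :
    ((S.τAut x : C[Z[σ ^ (h / 2)]]) : G) = τ * x * τ⁻¹ := rfl

/-- A rotation inside the centralizer of `w`. -/
def rot (i : ℕ) : Z[σ].subgroupOf C[Z[σ ^ (h / 2)]] :=
  ⟨⟨σ ^ i, S.le_centralizer_w (Subgroup.npow_mem_zpowers σ i)⟩,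
    Subgroup.mem_subgroupOf.2 (Subgroup.npow_mem_zpowers σ i)⟩

@[simp] theorem coe_rot (i : ℕ) : (((S.rot i : Z[σ].subgroupOf C[Z[σ ^ (h / 2)]]) :
    C[Z[σ ^ (h / 2)]]) : G) = σ ^ i := rfl

theorem centralizer_le_w {a : G} (ha : a ∈ Z[σ]) (ha1 : a * a ≠ 1) :
    (C[Z[a]] : Subgroup G) ≤ C[Z[σ ^ (h / 2)]] := by
  obtain ⟨r, hr⟩ := S.exists_pow_w ha ha1
  exact Subgroup.centralizer_le (SetLike.coe_subset_coe.mpr
    (Subgroup.zpowers_le.2 (hr ▸ Subgroup.pow_mem _ (Subgroup.mem_zpowers a) r)))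

/-- **The block at the rotation of order four is nilpotent.** -/
theorem exists_locData [Fintype C[Z[σ ^ (h / 2)]]] : ∃ f e' χ₀ Φ, LocData S f e' χ₀ Φ := by
  have hM := S.hM
  have hwσ : σ ^ (h / 2) ∈ Z[σ] := Subgroup.npow_mem_zpowers σ _
  have hw2 : σ ^ (h / 2) * σ ^ (h / 2) ≠ 1 := by rw [S.w_sq]; exact S.z_ne_one
  have hwD := S.rot_mem hwσ
  obtain ⟨f, hf, hfe, hind⟩ := exists_sub hM S.hB S.hmax hwD
  have hinf := S.inf_centralizer_rot hwσ hw2
  obtain ⟨hdf, hcard⟩ := isDefectGroup_sub hM S.hB S.hmax hwD hf hfe fun g hg => by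
    rw [S.card_centralizer_rot hwσ hw2]
    obtain ⟨hvD, hfus⟩ := fus_of_carries S.pair hwD hg
    by_cases hv : g * σ ^ (h / 2) * g⁻¹ ∈ Z[σ]
    · rw [S.card_centralizer_rot hv]
      rw [show g * σ ^ (h / 2) * g⁻¹ * (g * σ ^ (h / 2) * g⁻¹) =
        g * (σ ^ (h / 2) * σ ^ (h / 2)) * g⁻¹ by group]
      exact fun e1 => hw2 (conj_eq_one_iff.1 e1)
    · rw [S.card_centralizer_refl hvD hv]
      have := S.four_le; omega
  rw [hinf] at hdf
  have hsσ := subBlk_ple S.pair S.σ_mem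
  have hPσ : IsPair 2 (Z[σ], subBlk 2 D e σ) := PLE.isPair hsσ S.pair
  have hCσ : (C[Z[σ]] : Subgroup G) ≤ C[Z[σ ^ (h / 2)]] :=
    Subgroup.centralizer_le (SetLike.coe_subset_coe.mpr (Subgroup.zpowers_le.2 hwσ))
  have hmap : (P').map (H').subtype = Z[σ] := Subgroup.map_subgroupOf_eq_of_le S.le_centralizer_w
  set e' := restr H' (subBlk 2 D e σ) with he'
  have hemb : emb H' e' = subBlk 2 D e σ := emb_restr _ (hPσ.suppIn.mono hCσ)
  have hP' : IsPair 2 (P', e') := by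
    refine (isPair_embPair_iff (x := (P', e')) _ (by rw [hmap]; exact hCσ)).mp ?_
    rw [show embPair H' (P', e') = (Z[σ], subBlk 2 D e σ) from Prod.ext hmap hemb]
    exact hPσ
  have hmax' : IsMaxPair 2 (idem M f) (P', e') := by
    refine (isMaxPair_iff_card (isBlk_idem hM hf) (isDef_of_isDefectGroup hM hf hdf)).2
      ⟨⟨hP', ?_⟩, rfl⟩
    show br P' (idem M f) * e' = e'
    apply emb_injective H'
    rw [map_mul, ← br_emb_eq, hmap, ← idemIn_eq, hemb, hfe]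
    obtain ⟨f₁, hf₁, -⟩ := existsUnique_ple hPσ (Subgroup.zpowers_le.2 hwσ)
    rw [← ple_unique S.pair (hf₁.trans hsσ) (subBlk_ple S.pair hwD)]
    exact (PLE.nstep_of_le_normalizer hPσ hf₁
      ((S.le_centralizer_w).trans (centralizer_le_normalizer _))).2.2.2.2.2
  have hnil : IsNil 2 (idem M f) := by
    rw [isNil_iff_below hmax'.1.1 (isBlk_idem hM hf) hmax']
    intro Q f' hle t ht hodd
    have hQσ : ∀ q ∈ Q, (q : G) ∈ Z[σ] := fun q hq => Subgroup.mem_subgroupOf.1 (hle.le hq)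
    have hmem : ∀ g : H', g ∈ Z[(S.rot 1 : H')] ↔ (g : G) ∈ Z[σ] := fun g => by
      constructor
      · intro hg
        obtain ⟨i, rfl⟩ := Subgroup.mem_zpowers_iff.1 hg
        exact Subgroup.mem_zpowers_iff.2 ⟨i, by simp⟩
      · intro hg
        obtain ⟨i, hi⟩ := Subgroup.mem_zpowers_iff.1 hg
        exact Subgroup.mem_zpowers_iff.2 ⟨i, Subtype.ext (by simp [hi])⟩
    obtain ⟨k, hk⟩ := S.hh
    have hord : orderOf (S.rot 1 : H') = 2 ^ (k + 3) := by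
      rw [← Subgroup.orderOf_coe, coe_rot, pow_one, S.ordσ, hk]; ring
    have htz : t * (S.rot h : H') * t⁻¹ = (S.rot h : H') := by
      refine mul_inv_eq_iff_eq_mul.2 (Subtype.ext ?_)
      show (t : G) * σ ^ h = σ ^ h * (t : G)
      have hc : Commute (t : G) (σ ^ (h / 2)) := mem_cz.1 t.2
      rw [← S.w_sq]
      exact (hc.mul_right hc).eq
    have key := CfsgLib.DihDefect.centralizes_of_dihedral (σ := (S.rot 1 : H'))
      (z := (S.rot h : H')) (t := t) (Q := Q) hord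
      (fun a ha h2 => by
        rcases S.eq_z ((hmem a).1 ha) (congrArg Subtype.val h2) with e1 | e1
        · exact Or.inl (Subtype.ext e1)
        · exact Or.inr (Subtype.ext e1))
      (fun g hg hn => absurd ((hmem g).2 (hQσ g hg)) hn)
      (fun g hg g' _ hn _ => absurd ((hmem g).2 (hQσ g hg)) hn)
      (fun g hg => (Subgroup.mem_normalizer_iff.1 ht.1 g).1 hg) htz hodd
    exact Subgroup.mem_centralizer_iff.2 fun g hg => (mul_inv_eq_iff_eq_mul.1 (key g hg)).symm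
  obtain ⟨χ₀, hχ₀, h0⟩ := exists_height_zero hM hf
  obtain ⟨Φ, -, hΦ⟩ := exists_characters hM hf hnil hmax' hχ₀ h0
  exact ⟨f, e', χ₀, Φ, hf, hfe, hemb, hmax', hnil, hχ₀, h0, hΦ⟩

end SDData

namespace LocData

variable {S : SDData (M := M) B D e σ τ h} [Fintype C[Z[σ ^ (h / 2)]]]
  {f : Set (IrrCharacter C[Z[σ ^ (h / 2)]])}
  {e' : MonoidAlgebra (Residue M) C[Z[σ ^ (h / 2)]]}
  {χ₀ : IrrCharacter C[Z[σ ^ (h / 2)]]}
  {Φ : IrrCharacter (Z[σ].subgroupOf C[Z[σ ^ (h / 2)]]) ≃ f}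
  (T : LocData S f e' χ₀ Φ)
include T


theorem hP' : IsPair 2 (P', e') := T.hmax'.1.1

theorem isBlk_sub {u : H'} (hu : u ∈ P') : IsBlk 𝕜 C[Z[u]] (subBlk 2 P' e' u) :=
  (PLE.isPair (subBlk_ple T.hP' hu) T.hP').2

theorem val_self (ζ : IrrCharacter P') (u : P') (s : H') (hs : PElt 2 (u : H') s) :
    val (Φ ζ : IrrCharacter H') (u : H') s (subBlk 2 P' e' u) =
      (ζ : P' → ℂ) u * val χ₀ (u : H') s (subBlk 2 P' e' u) := by
  have hM := S.hM
  haveI := Fintype.ofFinite C[Z[(u : H')]]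
  obtain ⟨d, hd, hde⟩ := exists_idemIn_eq hM (T.isBlk_sub u.2)
  rw [← hde, val_idemIn hM _ hs hd, val_idemIn hM _ hs hd,
    subPart_starFun hM (T.hΦ ζ) (mem_pSet.2 hs.pow) hd, Pi.smul_apply, smul_eq_mul, hde,
    weight_of_ple (stable_extend (exists_conj_mem hM T.hf T.hnil T.hmax') (isClassFunction_irr ζ))
      (subBlk_ple T.hP' u.2)]
  congr 1
  exact extend_apply_mem (ζ : P' → ℂ) u

theorem emb_sub {u : P'} (hC : (C[Z[((u : H') : G)]] : Subgroup G) ≤ H') :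
    emb H' (subBlk 2 P' e' u) = subBlk 2 D e ((u : H') : G) := by
  have hmapZ : Z[(u : H')].map (H').subtype = Z[((u : H') : G)] := MonoidHom.map_zpowers _ _
  have h1 := ple_embPair H' (x := (Z[(u : H')], subBlk 2 P' e' u))
    (by rw [hmapZ]; exact hC) (subBlk_ple T.hP' u.2)
  rw [show embPair H' (P', e') = (Z[σ], subBlk 2 D e σ) from
      Prod.ext (Subgroup.map_subgroupOf_eq_of_le S.le_centralizer_w) T.emb_e,
    show embPair H' (Z[(u : H')], subBlk 2 P' e' u) =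
      (Z[((u : H') : G)], emb H' (subBlk 2 P' e' u)) from Prod.ext hmapZ rfl] at h1
  exact ple_unique S.pair (h1.trans (subBlk_ple S.pair S.σ_mem))
    (subBlk_ple S.pair (S.rot_mem (Subgroup.mem_subgroupOf.1 u.2)))

/-- **The values on the rotations.** -/
theorem val_eq_theta (χ : IrrCharacter G) {u : P'}
    (hC : (C[Z[((u : H') : G)]] : Subgroup G) ≤ H') {s : H'} (hs : PElt 2 (u : H') s) :
    val χ ((u : H') : G) (s : G) (subBlk 2 D e ((u : H') : G)) =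
      theta Φ χ u * val χ₀ (u : H') s (subBlk 2 P' e' u) := by
  have hM := S.hM
  letI := irrFintype (G := H')
  haveI := Fintype.ofFinite P'
  letI := irrFintype (G := P')
  have hs' : PElt 2 ((u : H') : G) (s : G) :=
    ⟨by obtain ⟨j, hj⟩ := hs.pow; exact ⟨j, congrArg Subtype.val hj⟩,
      by rw [Subgroup.orderOf_coe]; exact hs.reg, hs.comm.map (H').subtype⟩
  have hε := T.isBlk_sub u.2
  rw [← T.emb_sub hC, val_emb hM H' χ hs hs' hε.idem (hε.fixBy.mono (sup_le_cz hs)),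
    ← sum_subset (subset_univ (univ.filter (· ∈ f))) (fun ξ _ hξ => by
      rw [val_eq_zero_of_not_pair hM (isPBlock_blockOf ξ) (mem_blockOf_self ξ) hs hε, mul_zero]
      intro hp
      refine hξ (mem_filter.2 ⟨mem_univ _, ?_⟩)
      have h1 : IsPairOf 2 (idem M f) (Z[(u : H')], subBlk 2 P' e' u) :=
        (isPairOf_iff_of_ple (isBlk_idem hM T.hf) (subBlk_ple T.hP' u.2) T.hP').2 T.hmax'.1
      have h2 := (existsUnique_isPairOf h1.1).unique
        ⟨isBlk_idem hM (isPBlock_blockOf ξ), hp⟩ ⟨isBlk_idem hM T.hf, h1⟩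
      rw [← idem_injective (isPBlock_blockOf ξ) T.hf h2]
      exact mem_blockOf_self ξ),
    sum_subtype (univ.filter (· ∈ f)) (p := (· ∈ f)) (by simp)
      (fun ξ : IrrCharacter H' =>
        classInner (fun l : H' => (χ : G → ℂ) l) (ξ : H' → ℂ) *
          val ξ (u : H') s (subBlk 2 P' e' u)),
    theta, finsum_eq_sum_of_fintype, sum_mul, ← Φ.sum_comp]
  exact sum_congr rfl fun ζ _ => by rw [T.val_self ζ u s hs, mul_assoc]

/-- The contribution of the reference character. -/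
theorem contrib_ref (u : P') :
    (Nat.card (P' ⊓ C[Z[(u : H')]] : Subgroup H') : ℂ) *
      contribR 2 χ₀ χ₀ (u : H') (subBlk 2 P' e' u) = 1 :=
  aFun_eq_one S.hM T.hf T.hnil T.hmax' T.mem₀ T.h0 u.2

/-- **The contributions of the rotations.** -/
theorem contribR_eq (χ ψ : IrrCharacter G) {u : P'}
    (hC : (C[Z[((u : H') : G)]] : Subgroup G) ≤ H') :
    contribR 2 χ ψ ((u : H') : G) (subBlk 2 D e ((u : H') : G)) =
      theta Φ χ u * conj (theta Φ ψ u) * ((2 * h : ℕ) : ℂ)⁻¹ := by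
  have hM := S.hM
  have hmapZ : Z[(u : H')].map (H').subtype = Z[((u : H') : G)] := MonoidHom.map_zpowers _ _
  have hcz : (C[Z[(u : H')]]).map (H').subtype = C[Z[((u : H') : G)]] := by
    rw [map_centralizer_subtype H' _ (by rw [hmapZ]; exact hC), hmapZ]
  have hinf : (P' ⊓ C[Z[(u : H')]] : Subgroup H') = P' := inf_eq_left.2 fun g hg =>
    mem_cz.2 (Subtype.ext (S.rot_comm (Subgroup.mem_subgroupOf.1 hg)
      (Subgroup.mem_subgroupOf.1 u.2)))
  have hcard : Nat.card (P' ⊓ C[Z[(u : H')]] : Subgroup H') = 2 * h := by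
    rw [hinf, Nat.card_congr (Subgroup.subgroupOfEquivOfLe S.le_centralizer_w).toEquiv,
      Nat.card_zpowers, S.ordσ]
  have hone : contribR 2 χ₀ χ₀ (u : H') (subBlk 2 P' e' u) = ((2 * h : ℕ) : ℂ)⁻¹ := by
    have h1 := T.contrib_ref u
    rw [hcard] at h1
    exact eq_inv_of_mul_eq_one_right h1
  rw [← hone, contribR, contribR, ← hcz,
    Subgroup.card_map_of_injective (H').subtype_injective, mul_left_comm]
  congr 1
  rw [mul_sum, hcz]
  symm
  refine sum_bij (fun s _ => (s : G)) ?_ ?_ ?_ ?_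
  · intro s hs
    obtain ⟨-, h1, h2⟩ := mem_filter.1 hs
    refine mem_filter.2 ⟨mem_univ _, hcz ▸ ⟨s, h1, rfl⟩, ?_⟩
    rwa [Subgroup.orderOf_coe]
  · exact fun _ _ _ _ e1 => Subtype.ext e1
  · intro g hg
    obtain ⟨-, h1, h2⟩ := mem_filter.1 hg
    obtain ⟨s, hs, rfl⟩ := hcz.ge h1
    exact ⟨s, mem_filter.2 ⟨mem_univ _, hs,
      by rwa [Subgroup.coe_subtype, Subgroup.orderOf_coe] at h2⟩, rfl⟩
  · intro s hs
    obtain ⟨-, h1, h2⟩ := mem_filter.1 hs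
    have hp : PElt 2 (u : H') s :=
      ⟨mem_pSet.1 (mem_pSet_of_mem T.hP' u.2), h2, (mem_cz.1 h1).symm⟩
    rw [T.val_eq_theta χ hC hp, T.val_eq_theta ψ hC hp, map_mul]
    ring

/-- The twist by `τ`. -/
theorem exists_twist : ∃ ζ : IrrCharacter P', ∀ (u : P') (s : H'),
    (C[Z[((u : H') : G)]] : Subgroup G) ≤ H' → PElt 2 (u : H') s →
    ∀ u' : P', ((u' : H') : G) = τ * ((u : H') : G) * τ⁻¹ →
      val χ₀ (u' : H') (S.τAut s) (subBlk 2 P' e' u') =
        (ζ : P' → ℂ) u * val χ₀ (u : H') s (subBlk 2 P' e' u) := by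
  have hM := S.hM
  haveI := Fintype.ofFinite P'
  have hwD : σ ^ (h / 2) ∈ D := S.pow_mem_D _
  have hdom : MonoidAlgebra.domCongr 𝕜 𝕜 S.τAut (idem M f) = idem M f := by
    refine emb_injective H' ?_
    rw [emb_domCongr τ S.τAut (fun x => rfl), ← idemIn_eq, T.hfe, subBlk_conj S.pair hwD S.τ_mem,
      S.τ_w]
    exact ple_unique S.pair (Subgroup.zpowers_inv (g := σ ^ (h / 2)) ▸
      subBlk_ple S.pair (D.inv_mem hwD)) (subBlk_ple S.pair hwD)
  set ψ := irrComp S.τAut χ₀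
  have htop : C[Z[(1 : H')]] = (⊤ : Subgroup H') := by
    rw [Subgroup.zpowers_one_eq_bot, centralizer_bot]
  have h11 : PElt 2 (1 : H') 1 :=
    ⟨⟨0, by simp⟩, by rw [orderOf_one]; exact Nat.prime_two.not_dvd_one, Commute.one_left _⟩
  have hblk : IsBlk 𝕜 C[Z[(1 : H')]] (idem M f) := htop.symm ▸ isBlk_idem hM T.hf
  have hψf : ψ ∈ f := by
    have h1 := val_mulEquiv hM S.τAut χ₀ h11 (by rw [map_one]; exact h11) hblk.idem
      (hblk.fixBy.mono (sup_le_cz h11))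
    rw [hdom, map_one, val_central hM T.hf T.mem₀ h11 htop, one_mul] at h1
    by_contra hn
    refine irr_one_ne_zero χ₀ (h1.trans ?_)
    refine val_eq_zero_of_not_pair hM (isPBlock_blockOf ψ) (mem_blockOf_self ψ) h11 hblk fun hp => ?_
    have h2 := eq_idem_of_pair hM (isPBlock_blockOf ψ) htop hblk hp
    exact hn (idem_injective T.hf (isPBlock_blockOf ψ) h2 ▸ mem_blockOf_self ψ)
  refine ⟨Φ.symm ⟨ψ, hψf⟩, fun u s hC hs u' hu' => ?_⟩
  have hu'eq : S.τAut (u : H') = (u' : H') := Subtype.ext hu'.symm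
  have hs' : PElt 2 (S.τAut (u : H')) (S.τAut s) :=
    ⟨by obtain ⟨j, hj⟩ := hs.pow; exact ⟨j, by rw [← map_pow, hj, map_one]⟩,
      by rw [S.τAut.orderOf_eq]; exact hs.reg, hs.comm.map S.τAut⟩
  have hε := T.isBlk_sub u.2
  have hC' : (C[Z[((u' : H') : G)]] : Subgroup G) ≤ H' := by
    intro x hx
    have hx' : x * (τ * ((u : H') : G) * τ⁻¹) = τ * ((u : H') : G) * τ⁻¹ * x := hu' ▸ mem_cz.1 hx
    have h1 : τ⁻¹ * x * τ ∈ C[Z[((u : H') : G)]] := mem_cz.2 (by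
      calc τ⁻¹ * x * τ * ((u : H') : G)
          = τ⁻¹ * (x * (τ * ((u : H') : G) * τ⁻¹)) * τ := by group
        _ = ((u : H') : G) * (τ⁻¹ * x * τ) := by rw [hx']; group)
    have h2 := (S.conj_τ_mem (hC h1)).1
    rwa [show τ * (τ⁻¹ * x * τ) * τ⁻¹ = x by group] at h2
  have hdu : MonoidAlgebra.domCongr 𝕜 𝕜 S.τAut (subBlk 2 P' e' u) = subBlk 2 P' e' u' := by
    refine emb_injective H' ?_
    rw [emb_domCongr τ S.τAut (fun x => rfl), T.emb_sub hC, T.emb_sub hC',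
      subBlk_conj S.pair (S.rot_mem (Subgroup.mem_subgroupOf.1 u.2)) S.τ_mem, hu']
  have h2 := val_mulEquiv hM S.τAut χ₀ hs hs' hε.idem (hε.fixBy.mono (sup_le_cz hs))
  rw [hdu, hu'eq] at h2
  rw [h2, ← T.val_self _ u s hs, Equiv.apply_symm_apply]

/-- **The twist is trivial after a linear one.** -/
theorem exists_phase : ∃ b : ℕ, ∀ (χ : IrrCharacter G) (i : ℕ), i < 2 * h →
    theta Φ χ (S.rot (sw h i)) * om h ^ (sw h i * b) = theta Φ χ (S.rot i) * om h ^ (i * b) := by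
  have hM := S.hM
  have hh := S.h_pos
  have hω := om_spec hh
  haveI : NeZero (2 * h) := ⟨by omega⟩
  obtain ⟨ζ, hζ⟩ := T.exists_twist
  haveI := Fintype.ofFinite P'
  obtain ⟨l, hl⟩ : ∃ l : P' →* ℂˣ, ∀ u, (ζ : P' → ℂ) u = (l u : ℂ) := by
    have h1 : (ζ : P' → ℂ) 1 = 1 := IsIrrCharacter.apply_one_eq_one ζ.2 fun a b =>
      Subtype.ext (Subtype.ext (S.rot_comm (Subgroup.mem_subgroupOf.1 a.2)
        (Subgroup.mem_subgroupOf.1 b.2)))
    obtain ⟨l, hl⟩ := IsCharacter.exists_hom (IsIrrCharacter.isCharacter ζ.2) h1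
    exact ⟨l, congrFun hl⟩
  have hrot : ∀ i, S.rot i = S.rot 1 ^ i := fun i => Subtype.ext (Subtype.ext (by simp))
  have hrot1 : ∀ {i}, σ ^ i = 1 → S.rot i = 1 := fun h1 => Subtype.ext (Subtype.ext (by simpa using h1))
  obtain ⟨c, -, hc⟩ := hω.eq_pow_of_pow_eq_one (ξ := (l (S.rot 1) : ℂ)) (by
    rw [← Units.val_pow_eq_pow_val, ← map_pow, ← hrot, hrot1 (S.pow_eq_one.2 dvd_rfl), map_one,
      Units.val_one])
  have hζi : ∀ i, (ζ : P' → ℂ) (S.rot i) = om h ^ (i * c) := fun i => by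
    rw [hl, hrot, map_pow, Units.val_pow_eq_pow_val, ← hc, ← pow_mul, mul_comm]
  -- the square of the twist at `w` is one
  set W : P' := S.rot (h / 2)
  have hWtop : C[Z[(W : H')]] = (⊤ : Subgroup H') :=
    eq_top_iff.2 fun g _ => mem_cz.2 (Subtype.ext (mem_cz.1 g.2))
  have hW1 : PElt 2 (W : H') 1 := ⟨mem_pSet.1 (mem_pSet_of_mem T.hP' W.2),
    by rw [orderOf_one]; exact Nat.prime_two.not_dvd_one, Commute.one_right _⟩
  have hWinv : (C[Z[((W⁻¹ : P') : H')]] : Subgroup H') = ⊤ := by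
    rw [Subgroup.coe_inv, Subgroup.zpowers_inv, hWtop]
  have hW1' : PElt 2 ((W⁻¹ : P') : H') 1 := ⟨mem_pSet.1 (mem_pSet_of_mem T.hP' W⁻¹.2),
    by rw [orderOf_one]; exact Nat.prime_two.not_dvd_one, Commute.one_right _⟩
  have hsub : ∀ V : P', C[Z[(V : H')]] = (⊤ : Subgroup H') →
      subBlk 2 P' e' (V : H') = idem M f := fun V hV =>
    eq_idem_of_pair hM T.hf hV (T.isBlk_sub V.2)
      ((isPairOf_iff_of_ple (isBlk_idem hM T.hf) (subBlk_ple T.hP' V.2) T.hP').2 T.hmax'.1)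
  have hWle : (C[Z[((W : H') : G)]] : Subgroup G) ≤ H' := le_rfl
  have hkey := hζ W 1 hWle hW1 W⁻¹ (by
    show (σ ^ (h / 2))⁻¹ = τ * σ ^ (h / 2) * τ⁻¹
    rw [S.τ_w])
  rw [map_one, hsub _ hWinv, hsub _ hWtop, val_central hM T.hf T.mem₀ hW1' hWinv,
    val_central hM T.hf T.mem₀ hW1 hWtop, mul_one, mul_one] at hkey
  obtain ⟨μ, -, hμ⟩ := exists_central_scalar χ₀.2 (z := (W : H'))
    (fun g => Subtype.ext (mem_cz.1 g.2).symm)
  have hμ1 := hμ ((W : H')⁻¹)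
  rw [mul_inv_cancel] at hμ1
  have hμ2 := hμ 1
  rw [mul_one] at hμ2
  have hd0 := irr_one_ne_zero χ₀
  have hμ4 : μ ^ 4 = 1 := by
    have h4 : (W : H') * ((W : H') * ((W : H') * (W : H'))) = 1 := Subtype.ext (by
      show σ ^ (h / 2) * (σ ^ (h / 2) * (σ ^ (h / 2) * σ ^ (h / 2))) = 1
      rw [← mul_assoc, S.w_sq, S.z_sq])
    have h5 := congrArg (χ₀ : H' → ℂ) h4
    rw [hμ, hμ, hμ, hμ2] at h5
    refine mul_right_cancel₀ hd0 ?_
    linear_combination h5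
  have hμ0 : μ ≠ 0 := fun e1 => by rw [e1] at hμ4; norm_num at hμ4
  have hsq : (ζ : P' → ℂ) W * μ ^ 2 = 1 := by
    refine mul_right_cancel₀ hd0 ?_
    rw [Subgroup.coe_inv] at hkey
    rw [hμ2] at hkey
    rw [one_mul]
    linear_combination -hμ1 - μ * hkey
  have heven : 2 ∣ c := by
    have h1 : om h ^ (h * c) = 1 := by
      have h2 : ((ζ : P' → ℂ) W) ^ 2 = 1 := by
        have h3 : ((ζ : P' → ℂ) W * μ ^ 2) ^ 2 = 1 := by rw [hsq, one_pow]
        rw [mul_pow, ← pow_mul] at h3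
        rwa [show μ ^ (2 * 2) = 1 from hμ4, mul_one] at h3
      rw [hζi, ← pow_mul, mul_right_comm, mul_comm (h / 2), ← S.h_two] at h2
      exact h2
    have h2 := (hω.pow_eq_one_iff_dvd _).1 h1
    rw [mul_comm 2 h] at h2
    exact (Nat.mul_dvd_mul_iff_left hh).1 h2
  obtain ⟨d, rfl⟩ := heven
  refine ⟨d * (h / 2 - 1), fun χ i hi => ?_⟩
  -- the values at the rotations exchanged by the reflection
  have hrel : theta Φ χ (S.rot (sw h i)) * (ζ : P' → ℂ) (S.rot i) = theta Φ χ (S.rot i) := by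
    by_cases h2 : σ ^ i * σ ^ i = 1
    · rcases S.eq_z (Subgroup.npow_mem_zpowers σ i) h2 with e3 | e3
      · obtain rfl : i = 0 := S.pow_inj hi (by omega) (by rw [e3, pow_zero])
        rw [sw_zero, hrot1 (i := 0) (pow_zero σ), hl, map_one, Units.val_one, mul_one]
      · obtain rfl : i = h := S.pow_inj hi (by omega) e3
        rw [sw_half S.h_even hh, hζi, ← mul_assoc, pow_mul, mul_comm i 2, hω.pow_eq_one, one_pow,
          mul_one]
    set u := S.rot i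
    have hC : (C[Z[((u : H') : G)]] : Subgroup G) ≤ H' :=
      S.centralizer_le_w (Subgroup.npow_mem_zpowers σ i) h2
    obtain ⟨s, hs, hne⟩ : ∃ s : H', PElt 2 (u : H') s ∧
        val χ₀ (u : H') s (subBlk 2 P' e' u) ≠ 0 := by
      by_contra hall
      simp only [not_exists, not_and, not_not] at hall
      have h1 := T.contrib_ref u
      rw [contribR, sum_eq_zero fun s hs => ?_, mul_zero, mul_zero] at h1
      · exact zero_ne_one h1
      · obtain ⟨-, h3, h4⟩ := mem_filter.1 hs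
        rw [hall s ⟨mem_pSet.1 (mem_pSet_of_mem T.hP' u.2), h4, (mem_cz.1 h3).symm⟩, zero_mul]
    set v := S.rot (sw h i)
    have hv : ((v : H') : G) = τ * ((u : H') : G) * τ⁻¹ := (S.τ_sw i).symm
    have hK := hζ u s hC hs v hv
    have hv2 : σ ^ sw h i * σ ^ sw h i ≠ 1 := by
      rw [← S.τ_sw, show τ * σ ^ i * τ⁻¹ * (τ * σ ^ i * τ⁻¹) = τ * (σ ^ i * σ ^ i) * τ⁻¹ by group]
      exact fun e1 => h2 (conj_eq_one_iff.1 e1)
    have hC' : (C[Z[((v : H') : G)]] : Subgroup G) ≤ H' :=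
      S.centralizer_le_w (Subgroup.npow_mem_zpowers σ _) hv2
    have hs' : PElt 2 (v : H') (S.τAut s) := by
      have he : S.τAut (u : H') = (v : H') := Subtype.ext hv.symm
      rw [← he]
      exact ⟨by obtain ⟨j, hj⟩ := hs.pow; exact ⟨j, by rw [← map_pow, hj, map_one]⟩,
        by rw [S.τAut.orderOf_eq]; exact hs.reg, hs.comm.map S.τAut⟩
    have hsG : PElt 2 ((u : H') : G) (s : G) :=
      ⟨by obtain ⟨j, hj⟩ := hs.pow; exact ⟨j, congrArg Subtype.val hj⟩,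
        by rw [Subgroup.orderOf_coe]; exact hs.reg, hs.comm.map (H').subtype⟩
    have hD : ((u : H') : G) ∈ D := S.pow_mem_D i
    have hblk : IsBlk 𝕜 C[Z[((u : H') : G)]] (subBlk 2 D e ((u : H') : G)) :=
      (PLE.isPair (subBlk_ple S.pair hD) S.pair).2
    have h3 := T.val_eq_theta χ hC' hs'
    rw [hK] at h3
    have h4 : val χ ((v : H') : G) ((S.τAut s : H') : G) (subBlk 2 D e ((v : H') : G)) =
        val χ ((u : H') : G) (s : G) (subBlk 2 D e ((u : H') : G)) := by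
      rw [hv, S.coe_τAut, ← subBlk_conj S.pair hD S.τ_mem,
        val_conj hM χ hsG τ hblk.idem (hblk.fixBy.mono (sup_le_cz hsG))]
    rw [h4, T.val_eq_theta χ hC hs, ← mul_assoc] at h3
    exact (mul_right_cancel₀ hne h3).symm
  conv_rhs => rw [← hrel]
  rw [hζi, mul_assoc, ← pow_add]
  refine congrArg (theta Φ χ (S.rot (sw h i)) * ·) ?_
  rw [pow_eq_pow_mod (sw h i * _) hω.pow_eq_one, pow_eq_pow_mod (i * _ + _) hω.pow_eq_one]
  congr 1
  obtain ⟨c₄, hc₄⟩ := S.four_dvd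
  obtain ⟨g, rfl⟩ : ∃ g, c₄ = g + 1 := ⟨c₄ - 1, by omega⟩
  refine ((sw_modEq h i).mul_right _).trans ?_
  subst hc₄
  rw [show 4 * (g + 1) / 2 - 1 = 2 * g + 1 by omega, show 4 * (g + 1) - 1 = 4 * g + 3 by omega]
  refine Nat.modEq_iff_dvd.2 ⟨-((i : ℤ) * d * g), ?_⟩
  push_cast; ring

end LocData

/-- The symmetrical values on the rotations. -/
structure RotVals (S : SDData (M := M) B D e σ τ h) (av : IrrCharacter G → ℕ → ℂ) : Prop where
  contrib : ∀ (χ ψ : IrrCharacter G) (i : ℕ), i < 2 * h → i ≠ 0 → i ≠ h →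
    contribR 2 χ ψ (σ ^ i) (subBlk 2 D e (σ ^ i)) =
      av χ i * conj (av ψ i) * ((2 * h : ℕ) : ℂ)⁻¹
  symm : ∀ (χ : IrrCharacter G) (i : ℕ), i < 2 * h → av χ (sw h i) = av χ i
  coeff : ∀ (χ : IrrCharacter G) (j : ℕ), ∃ a : ℤ,
    ∑ i ∈ range (2 * h), av χ i * om h ^ (i * j) = ((2 * h : ℕ) : ℂ) * (a : ℂ)

namespace SDData

variable (S : SDData (M := M) B D e σ τ h)
include S

/-- **The values exist.** -/
theorem exists_rotVals : ∃ av, RotVals S av := by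
  haveI : Fintype C[Z[σ ^ (h / 2)]] := Fintype.ofFinite _
  obtain ⟨f, e', χ₀, Φ, T⟩ := S.exists_locData
  obtain ⟨b, hb⟩ := T.exists_phase
  have hh := S.h_pos
  have hω := om_spec hh
  refine ⟨fun χ i => theta Φ χ (S.rot i) * om h ^ (i * b), ⟨?_, fun χ i hi => hb χ i hi, ?_⟩⟩
  · intro χ ψ i hi hi0 hih
    have hC := S.centralizer_le_w (Subgroup.npow_mem_zpowers σ i) (S.rot_sq_ne hi hi0 hih)
    have h1 := T.contribR_eq χ ψ (u := S.rot i) hC
    rw [S.coe_rot] at h1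
    rw [h1, map_mul,
      show theta Φ χ (S.rot i) * om h ^ (i * b) * (conj (theta Φ ψ (S.rot i)) *
        conj (om h ^ (i * b))) = theta Φ χ (S.rot i) * conj (theta Φ ψ (S.rot i)) *
          (om h ^ (i * b) * conj (om h ^ (i * b))) by ring,
      Complex.mul_conj', norm_pow, hω.norm'_eq_one (by omega), one_pow, Complex.ofReal_one,
      one_pow, mul_one]
  · intro χ j
    haveI := Fintype.ofFinite Z[σ]
    let κ : Z[σ] →* Z[σ].subgroupOf C[Z[σ ^ (h / 2)]] := MonoidHom.mk'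
      (fun x => ⟨⟨x, S.le_centralizer_w x.2⟩, Subgroup.mem_subgroupOf.2 x.2⟩) fun _ _ => rfl
    have hg := IsGeneralized.comp (theta_eq Φ χ) κ
    have hω' : IsPrimitiveRoot (om h)⁻¹ (orderOf σ) := by rw [S.ordσ]; exact hω.inv
    obtain ⟨μ, hμ⟩ := CfsgLib.DihPrincipal.exists_chr hω' (j + b)
    obtain ⟨a, ha⟩ := IsGeneralized.exists_classInner_eq_int hg
      (IsIrrCharacter.isGeneralized (linearCharEquiv μ).1.2)
    refine ⟨a, ?_⟩
    rw [← ha, CfsgLib.Char.classInner_def, ← mul_assoc, Nat.card_zpowers, S.ordσ,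
      mul_inv_cancel₀ (Nat.cast_ne_zero.2 (by omega)), one_mul]
    refine sum_bij (fun i _ => (⟨σ ^ i, Subgroup.npow_mem_zpowers σ i⟩ : Z[σ]))
      (fun _ _ => mem_univ _) (fun a ha b hb e1 => ?_) (fun x _ => ?_) (fun i _ => ?_)
    · rw [mem_range] at ha hb
      exact S.pow_inj ha hb (congrArg Subtype.val e1)
    · obtain ⟨i, hi, hi'⟩ := S.exists_pow x.2
      exact ⟨i, mem_range.2 hi, Subtype.ext hi'⟩
    · show _ = theta Φ χ (S.rot i) *
        conj ((μ ⟨σ ^ i, Subgroup.npow_mem_zpowers σ i⟩ : ℂˣ) : ℂ)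
      rw [hμ, Complex.inv_eq_conj (hω.norm'_eq_one (by omega))]
      simp only [map_pow, Complex.conj_conj]
      rw [mul_assoc, ← pow_add]
      congr 2
      ring

/-- **Different classes of rotations give different subsections.** -/
theorem rot_not_fus {i j : ℕ} (hi : i < 2 * h) (hi0 : i ≠ 0) (hih : i ≠ h) (hj : j < 2 * h)
    (hfus : Fus D e (σ ^ i) (σ ^ j)) : j = i ∨ j = sw h i := by
  haveI : Fintype C[Z[σ ^ (h / 2)]] := Fintype.ofFinite _
  obtain ⟨f, e', χ₀, Φ, T⟩ := S.exists_locData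
  have hiA : σ ^ i ∈ Z[σ] := Subgroup.npow_mem_zpowers σ i
  have hjA : σ ^ j ∈ Z[σ] := Subgroup.npow_mem_zpowers σ j
  have hi2' := S.rot_sq_ne hi hi0 hih
  obtain ⟨r, hr⟩ := S.exists_pow_w hiA hi2'
  obtain ⟨a, ha, hfa, har⟩ : ∃ a, (a = σ ^ j ∨ a = τ * σ ^ j * τ⁻¹) ∧ Fus D e (σ ^ i) a ∧
      a ^ r = σ ^ (h / 2) := by
    have h1 : Fus D e (σ ^ (h / 2)) ((σ ^ j) ^ r) :=
      hr ▸ hfus.pow S.pair (S.pow_mem_D i) (S.pow_mem_D j) r
    have h2 := S.sq_of_four (D.pow_mem (S.pow_mem_D j) r) (h1.orderOf_eq.symm.trans S.orderOf_w)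
    rcases S.eq_w (Subgroup.pow_mem _ hjA r) h2 with e1 | e1
    · exact ⟨_, Or.inl rfl, hfus, e1⟩
    · have h3 := fus_conj S.pair (S.pow_mem_D j) S.τ_mem
      refine ⟨_, Or.inr rfl, hfus.trans h3, ?_⟩
      rw [conj_pow, e1, ← conj_inv, S.τ_w, inv_inv]
  obtain ⟨g, hg, hgf⟩ := hfa
  have haσ : a ∈ Z[σ] := by
    rcases ha with rfl | rfl
    · exact hjA
    · rw [S.τ_sw]; exact Subgroup.npow_mem_zpowers σ _
  have hgH : g ∈ C[Z[σ ^ (h / 2)]] := by
    refine mem_cz.2 (mul_inv_eq_iff_eq_mul.1 ?_)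
    conv_lhs => rw [← hr, ← conj_pow, hg, har]
  let u : P' := S.rot i
  let v : P' := ⟨⟨a, S.le_centralizer_w haσ⟩, Subgroup.mem_subgroupOf.2 haσ⟩
  let g' : H' := ⟨g, hgH⟩
  have hu : g' * (u : H') * g'⁻¹ = (v : H') := Subtype.ext hg
  have ha2 : a * a ≠ 1 := by
    rw [← hg, show g * σ ^ i * g⁻¹ * (g * σ ^ i * g⁻¹) = g * (σ ^ i * σ ^ i) * g⁻¹ by group]
    exact fun e1 => hi2' (conj_eq_one_iff.1 e1)
  have hC : Carries 2 (P', e') Z[(u : H')] g' := by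
    refine ⟨subBlk 2 P' e' (u : H'), subBlk_ple T.hP' u.2, ?_⟩
    rw [cjPair_zpowers, hu]
    have he : cj 𝕜 g' (subBlk 2 P' e' (u : H')) = subBlk 2 P' e' (v : H') := by
      refine emb_injective H' ?_
      rw [← cj_emb, T.emb_sub (S.centralizer_le_w hiA hi2'),
        T.emb_sub (S.centralizer_le_w haσ ha2)]
      exact hgf
    rw [he]
    exact subBlk_ple T.hP' v.2
  obtain ⟨w, hw, hww⟩ := exists_conj_mem S.hM T.hf T.hnil T.hmax' _ u.2 g' hC
  rw [hu] at hww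
  have h3 : a = (w : G) * σ ^ i * (w : G)⁻¹ := congrArg Subtype.val hww
  rw [S.rot_comm (Subgroup.mem_subgroupOf.1 hw) hiA, mul_inv_cancel_right] at h3
  rcases ha with rfl | rfl
  · exact Or.inl (S.pow_inj hj hi h3)
  · right
    rw [S.τ_sw] at h3
    rw [← S.pow_inj (sw_lt S.h_pos j) hi h3, sw_sw S.h_even S.h_pos hj]

end SDData

end CfsgLib.SDDefect
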