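import Cfsg.Agent.BlocksB.SemidihedralDefect.Setup

/-!
# The orbits of `sw` on the exponents and sums over them
-/

set_option autoImplicit false

namespace CfsgLib.SDDefect

open Finset
open scoped Classical

/-- Even and odd exponents. -/
theorem sum_parity {A : Type*} [AddCommMonoid A] (F : ℕ → A) (n : ℕ) :
    ∑ j ∈ range (2 * n), F j = ∑ l ∈ range n, F (2 * l) + ∑ l ∈ range n, F (2 * l + 1) := by
  induction n with
  | zero => simp
  | succ n ih =>
    rw [show 2 * (n + 1) = 2 * n + 1 + 1 by ring, sum_range_succ, sum_range_succ, ih,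
      sum_range_succ (fun l => F (2 * l)), sum_range_succ (fun l => F (2 * l + 1))]
    abel

/-- A sum folded in the middle. -/
theorem sum_fold {A : Type*} [AddCommMonoid A] (F : ℕ → A) (q : ℕ) :
    ∑ l ∈ range (2 * q), F l = ∑ l ∈ range q, (F l + F (2 * q - 1 - l)) := by
  rw [two_mul, sum_range_add, sum_add_distrib]
  congr 1
  conv_lhs => rw [← sum_range_reflect]
  refine sum_congr rfl fun l hl => congrArg F ?_
  have := mem_range.1 hl
  omega

/-- A sum folded around zero and the middle. -/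
theorem sum_fold' {A : Type*} [AddCommMonoid A] (F : ℕ → A) {m : ℕ} (hm : 1 ≤ m) :
    ∑ l ∈ range (2 * m), F l = F 0 + F m + ∑ l ∈ Ico 1 m, (F l + F (2 * m - l)) := by
  have h2 : ∑ l ∈ Ico (m + 1) (2 * m), F l = ∑ l ∈ Ico 1 m, F (2 * m - l) := by
    refine sum_bij' (fun l _ => 2 * m - l) (fun l _ => 2 * m - l)
      (fun l hl => ?_) (fun l hl => ?_) (fun l hl => ?_) (fun l hl => ?_) fun l hl => ?_
    · simp only [mem_Ico] at hl ⊢; omega
    · simp only [mem_Ico] at hl ⊢; omega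
    · simp only [mem_Ico] at hl; omega
    · simp only [mem_Ico] at hl; omega
    · simp only [mem_Ico] at hl
      exact congrArg F (by omega)
  rw [range_eq_Ico, ← sum_Ico_consecutive _ (Nat.zero_le m) (by omega : m ≤ 2 * m),
    sum_eq_sum_Ico_succ_bot (by omega : 0 < m), sum_eq_sum_Ico_succ_bot (by omega : m < 2 * m),
    h2, sum_add_distrib]
  abel

/-- The value of `sw` at an even exponent. -/
theorem sw_even {h l : ℕ} (h2 : 2 ∣ h) (hl0 : 1 ≤ l) (hl : l < h) :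
    sw h (2 * l) = 2 * h - 2 * l := by
  obtain ⟨c, rfl⟩ := h2
  obtain ⟨d, rfl⟩ : ∃ d, c = d + 1 := ⟨c - 1, by omega⟩
  refine Nat.ModEq.eq_of_lt_of_lt ((sw_modEq _ _).trans ?_) (sw_lt (by omega) _) (by omega)
  rw [show 2 * (d + 1) - 1 = 2 * d + 1 by omega]
  refine Nat.modEq_iff_dvd.2 ⟨1 - (l : ℤ), ?_⟩
  push_cast [Nat.cast_sub (show 2 * l ≤ 2 * (2 * (d + 1)) by omega)]
  ring

/-- The value of `sw` at a small odd exponent. -/
theorem sw_odd {h j : ℕ} (h2 : 2 ∣ h) (hj : Odd j) (hlt : j < h) : sw h j = h - j := by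
  obtain ⟨c, rfl⟩ := h2
  obtain ⟨d, rfl⟩ : ∃ d, c = d + 1 := ⟨c - 1, by omega⟩
  obtain ⟨a, rfl⟩ := hj
  refine Nat.ModEq.eq_of_lt_of_lt ((sw_modEq _ _).trans ?_) (sw_lt (by omega) _) (by omega)
  rw [show 2 * (d + 1) - 1 = 2 * d + 1 by omega]
  refine Nat.modEq_iff_dvd.2 ⟨-(a : ℤ), ?_⟩
  push_cast [Nat.cast_sub (show 2 * a + 1 ≤ 2 * (d + 1) by omega)]
  ring

/-- The value of `sw` at a large odd exponent. -/
theorem sw_odd' {h j : ℕ} (h2 : 2 ∣ h) (hj : Odd j) (hlt : h < j) (hlt' : j < 2 * h) :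
    sw h j = 3 * h - j := by
  obtain ⟨c, rfl⟩ := h2
  obtain ⟨d, rfl⟩ : ∃ d, c = d + 1 := ⟨c - 1, by omega⟩
  obtain ⟨a, rfl⟩ := hj
  refine Nat.ModEq.eq_of_lt_of_lt ((sw_modEq _ _).trans ?_) (sw_lt (by omega) _) (by omega)
  rw [show 2 * (d + 1) - 1 = 2 * d + 1 by omega]
  refine Nat.modEq_iff_dvd.2 ⟨1 - (a : ℤ), ?_⟩
  push_cast [Nat.cast_sub (show 2 * a + 1 ≤ 3 * (2 * (d + 1)) by omega)]
  ring

/-- The representatives of the odd orbits. -/
def rr (m l : ℕ) : ℕ := if 2 * l + 1 < m then 2 * l + 1 else 2 * l + 1 + m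

theorem rr_zero {m : ℕ} (hm : 2 ≤ m) : rr m 0 = 1 := if_pos (by omega)

theorem rr_props {m l : ℕ} (hm : 2 ∣ m) (hl : l < m) : rr m l < 4 * m ∧ Odd (rr m l) := by
  obtain ⟨q, rfl⟩ := hm
  unfold rr
  split_ifs
  · exact ⟨by omega, l, rfl⟩
  · exact ⟨by omega, l + q, by ring⟩

theorem rr_inj {m l j : ℕ} (hm : 2 ∣ m) (hl : l < m) (hj : j < m) :
    (rr m l = rr m j ↔ l = j) ∧ rr m l ≠ sw (2 * m) (rr m j) := by
  refine ⟨⟨fun e1 => ?_, fun e1 => e1 ▸ rfl⟩, ?_⟩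
  · unfold rr at e1
    split_ifs at e1 <;> omega
  obtain ⟨q, rfl⟩ := hm
  obtain ⟨-, hodd⟩ := rr_props (dvd_mul_right 2 q) hj
  unfold rr at hodd ⊢
  split_ifs at hodd ⊢ with h1 h2 <;>
    first
    | (rw [sw_odd (dvd_mul_right 2 _) hodd (by omega)]; omega)
    | (rw [sw_odd' (dvd_mul_right 2 _) hodd (by omega) (by omega)]; omega)

/-- A symmetrical sum over the even exponents. -/
theorem sum_even_sw {A : Type*} [AddCommMonoid A] {m : ℕ} (hm : 1 ≤ m) {F : ℕ → A}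
    (hF : ∀ j, j < 4 * m → F (sw (2 * m) j) = F j) :
    ∑ l ∈ range (2 * m), F (2 * l) =
      F 0 + F (2 * m) + ∑ l ∈ Ico 1 m, (F (2 * l) + F (2 * l)) := by
  rw [sum_fold' (fun l => F (2 * l)) hm]
  congr 1
  refine sum_congr rfl fun l hl => ?_
  obtain ⟨h1, h2⟩ := mem_Ico.1 hl
  have h3 := sw_even (h := 2 * m) (dvd_mul_right 2 m) h1 (by omega)
  rw [show 2 * (2 * m - l) = sw (2 * m) (2 * l) by omega, hF _ (by omega)]

/-- A symmetrical sum over the odd exponents. -/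
theorem sum_odd_sw {A : Type*} [AddCommMonoid A] {m : ℕ} (hm : 2 ∣ m) {F : ℕ → A}
    (hF : ∀ j, j < 4 * m → F (sw (2 * m) j) = F j) :
    ∑ l ∈ range (2 * m), F (2 * l + 1) = ∑ l ∈ range m, (F (rr m l) + F (rr m l)) := by
  obtain ⟨q, rfl⟩ := hm
  rw [show 2 * (2 * q) = 2 * q + 2 * q by ring, sum_range_add,
    show range (2 * q) = range (q + q) by rw [two_mul],
    sum_range_add (fun l => F (rr (2 * q) l) + F (rr (2 * q) l)), ← two_mul q,
    sum_fold (fun l => F (2 * l + 1)), sum_fold (fun l => F (2 * (2 * q + l) + 1))]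
  congr 1
  · refine sum_congr rfl fun l hl => ?_
    have hlq := mem_range.1 hl
    have h3 := sw_odd (h := 2 * (2 * q)) (dvd_mul_right 2 _) ⟨l, rfl⟩ (by omega)
    rw [show 2 * (2 * q - 1 - l) + 1 = sw (2 * (2 * q)) (2 * l + 1) by omega, hF _ (by omega),
      show rr (2 * q) l = 2 * l + 1 from if_pos (by omega)]
  · refine sum_congr rfl fun l hl => ?_
    have hlq := mem_range.1 hl
    have h3 := sw_odd' (h := 2 * (2 * q)) (dvd_mul_right 2 _) ⟨2 * q + l, rfl⟩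
      (show 2 * (2 * q) < 2 * (2 * q + l) + 1 by omega) (by omega)
    rw [show 2 * (2 * q + (2 * q - 1 - l)) + 1 = sw (2 * (2 * q)) (2 * (2 * q + l) + 1) by omega,
      hF _ (by omega),
      show rr (2 * q) (q + l) = 2 * (2 * q + l) + 1 by
        rw [rr, if_neg (by omega)]
        omega]

/-- An antisymmetrical sum over the odd exponents. -/
theorem sum_odd_anti {m : ℕ} (hm : 2 ∣ m) {F : ℕ → ℤ}
    (hF : ∀ j, j < 4 * m → F (sw (2 * m) j) = F j) :
    ∑ l ∈ range (2 * m), (-1) ^ l * F (2 * l + 1) = 0 := by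
  obtain ⟨q, rfl⟩ := hm
  rw [show 2 * (2 * q) = 2 * q + 2 * q by ring, sum_range_add,
    sum_fold (fun l => (-1) ^ l * F (2 * l + 1)),
    sum_fold (fun l => (-1) ^ (2 * q + l) * F (2 * (2 * q + l) + 1)), sum_eq_zero, sum_eq_zero,
    add_zero]
  all_goals
    intro l hl
    have hlq := mem_range.1 hl
    have hpar : ((-1 : ℤ)) ^ (2 * q - 1 - l) = -(-1) ^ l := by
      have e1 : ((-1 : ℤ)) ^ (2 * q - 1 - l) * (-1) ^ l = -1 := by
        rw [← pow_add, show 2 * q - 1 - l + l = 2 * (q - 1) + 1 by omega, pow_add, pow_mul]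
        simp
      rcases neg_one_pow_eq_or ℤ l with h1 | h1 <;> rw [h1] at e1 ⊢ <;> linarith
    have hev : ((-1 : ℤ)) ^ (2 * q) = 1 := by rw [pow_mul]; simp
  · have h3 := sw_odd' (h := 2 * (2 * q)) (dvd_mul_right 2 _) ⟨2 * q + l, rfl⟩
      (show 2 * (2 * q) < 2 * (2 * q + l) + 1 by omega) (by omega)
    rw [show 2 * (2 * q + (2 * q - 1 - l)) + 1 = sw (2 * (2 * q)) (2 * (2 * q + l) + 1) by omega,
      hF _ (by omega), pow_add, pow_add, hev, hpar]
    ring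
  · have h3 := sw_odd (h := 2 * (2 * q)) (dvd_mul_right 2 _) ⟨l, rfl⟩ (by omega)
    rw [show 2 * (2 * q - 1 - l) + 1 = sw (2 * (2 * q)) (2 * l + 1) by omega, hF _ (by omega),
      hpar]
    ring

end CfsgLib.SDDefect
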