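import Cfsg.Agent.BlocksB.DihedralDefect.Vectors

/-!
# Integral vectors of a block with semidihedral defect group

The vectors `A₀`, `A l`, `C j` come from the rotations, `t` and `s` from the central involution,
`R` is the reduced matrix and `N` the rest of the row of a character of height zero.
-/

set_option autoImplicit false
set_option linter.unusedSimpArgs false

namespace CfsgLib.SDDefect.Vectors

open Finset
open scoped Classical

/-- The rotation part of the norm of a row. -/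
noncomputable def rotNorm {ι : Type*} (m : ℕ) (A0 : ι → ℤ) (A C : ℕ → ι → ℤ) (i : ι) : ℤ :=
  2 * (2 * m * (A0 i ^ 2 + 2 * ∑ l ∈ Ico 1 m, A l i ^ 2) - (A0 i + 2 * ∑ l ∈ Ico 1 m, A l i) ^ 2) +
    2 * (4 * m * ∑ l ∈ Ico 1 m, C l i ^ 2 - 4 * (∑ l ∈ Ico 1 m, C l i) ^ 2)

/-- The data of the vectors, for defect group of order `8 * m`. -/
structure Data (ι : Type*) [Fintype ι] (m : ℕ) where
  /-- the top vector of the even rotations -/
  A0 : ι → ℤ
  /-- the vectors of the even rotations -/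
  A : ℕ → ι → ℤ
  /-- the vectors of the odd rotations -/
  C : ℕ → ι → ℤ
  /-- the first column at the central involution -/
  t : ι → ℤ
  /-- the second column at the central involution -/
  s : ι → ℤ
  /-- the reduced matrix -/
  R : ι → ι → ℤ
  /-- the remaining part of a row -/
  N : ι → ℤ
  /-- the members of height zero -/
  zero : ι → Prop
  /-- the rank at the central involution is two -/
  two : Prop
  hm : ∃ k, m = 2 ^ (k + 1)
  g00 : ∑ i, A0 i ^ 2 = 4
  g0A : ∀ l ∈ Ico 1 m, ∑ i, A0 i * A l i = 2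
  gAA : ∀ l ∈ Ico 1 m, ∀ j ∈ Ico 1 m, ∑ i, A l i * A j i = 2 + (if l = j then 1 else 0)
  gCC : ∀ l ∈ Ico 1 m, ∀ j ∈ Ico 1 m, ∑ i, C l i * C j i = 1 + (if l = j then 1 else 0)
  g0C : ∀ j ∈ Ico 1 m, ∑ i, A0 i * C j i = 0
  gAC : ∀ l ∈ Ico 1 m, ∀ j ∈ Ico 1 m, ∑ i, A l i * C j i = 0
  t_orth : (∑ i, t i * A0 i = 0) ∧ ∀ l ∈ Ico 1 m, ∑ i, t i * A l i = 0 ∧ ∑ i, t i * C l i = 0
  s_orth : (∑ i, s i * A0 i = 0) ∧ ∀ l ∈ Ico 1 m, ∑ i, s i * A l i = 0 ∧ ∑ i, s i * C l i = 0
  R_orth : ∀ p, zero p → (∑ i, R p i * A0 i = 0) ∧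
    ∀ l ∈ Ico 1 m, ∑ i, R p i * A l i = 0 ∧ ∑ i, R p i * C l i = 0
  sum_t : ∑ i, t i ^ 2 = 8 * m
  sum_s : two → ∑ i, s i ^ 2 = 8 ∧ ∑ i, s i * t i = 0
  s_zero : ¬ two → ∀ i, s i = 0
  exists_zero : ∃ i, zero i
  zero_odd : ∀ i, zero i → Odd (A0 i) ∧ Odd (t i) ∧ (two → Odd (s i))
  pos_even : ∀ i, ¬ zero i → Even (t i) ∧ Even (s i) ∧ (t i ≠ 0 ∨ s i ≠ 0)
  R_pos : ∀ p, zero p → 1 ≤ R p p
  N_nonneg : ∀ p, zero p → 0 ≤ N p
  N_pos : ¬ two → ∀ p, zero p → 1 ≤ N p
  total : ∀ p, zero p →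
    R p p + t p ^ 2 + m * s p ^ 2 + rotNorm m A0 A C p + 2 * m * N p = 8 * m

/-- Squares of even integers. -/
theorem four_le_sq {a : ℤ} (h : Even a) (h0 : a ≠ 0) : 4 ≤ a ^ 2 := by
  obtain ⟨b, rfl⟩ := h
  have : 0 < b * b := mul_self_pos.2 fun e => h0 (by rw [e]; rfl)
  nlinarith

/-- Squares of odd integers. -/
theorem one_le_sq {a : ℤ} (h : Odd a) : 1 ≤ a ^ 2 := by
  have : 0 < a * a := mul_self_pos.2 fun e => by simp [e] at h
  nlinarith

namespace Data

variable {ι : Type*} [Fintype ι] {m : ℕ} (V : Data ι m)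

/-- The members of height zero. -/
noncomputable def zeros : Finset ι := univ.filter fun i => V.zero i

theorem mem_zeros {i : ι} : i ∈ V.zeros ↔ V.zero i := by simp [zeros]

theorem two_le_m (V : Data ι m) : 2 ≤ m := by
  obtain ⟨k, rfl⟩ := V.hm
  exact le_trans (le_of_eq (pow_one 2).symm) (Nat.pow_le_pow_right two_pos (by omega))

theorem one_mem (V : Data ι m) : 1 ∈ Ico 1 m := mem_Ico.2 ⟨le_rfl, V.two_le_m⟩

theorem zeros_props : V.zeros.card = 4 ∧ (∀ i ∈ V.zeros, V.A0 i * V.A0 i = 1) ∧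
    ∀ i, i ∉ V.zeros → V.A0 i = 0 := by
  set g : ι → ℤ := fun i => V.A0 i ^ 2 - if i ∈ V.zeros then 1 else 0 with hg
  have hnn : ∀ i ∈ (univ : Finset ι), 0 ≤ g i := fun i _ => by
    simp only [hg]
    split_ifs with hi
    · linarith [one_le_sq (V.zero_odd i (V.mem_zeros.1 hi)).1]
    · rw [sub_zero]; exact sq_nonneg _
  have hsum : ∑ i, g i = 4 - (V.zeros.card : ℤ) := by
    simp only [hg, sum_sub_distrib, V.g00, sum_ite_mem, univ_inter, sum_const, nsmul_one]
  have hdvd : (4 : ℤ) ∣ 8 * (m : ℤ) - (V.zeros.card : ℤ) := by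
    have e : 8 * (m : ℤ) - (V.zeros.card : ℤ) =
        ∑ i, (V.t i ^ 2 - if i ∈ V.zeros then 1 else 0) := by
      simp [sum_sub_distrib, V.sum_t, sum_ite_mem]
    rw [e]
    refine dvd_sum fun i _ => ?_
    split_ifs with hi
    · obtain ⟨a, ha⟩ := (V.zero_odd i (V.mem_zeros.1 hi)).2.1
      exact ⟨a * a + a, by rw [ha]; ring⟩
    · obtain ⟨a, ha⟩ := (V.pos_even i fun h => hi (V.mem_zeros.2 h)).1
      exact ⟨a * a, by rw [ha]; ring⟩
  have hpos : 0 < V.zeros.card := by
    obtain ⟨i, hi⟩ := V.exists_zero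
    exact card_pos.2 ⟨i, V.mem_zeros.2 hi⟩
  have hle : (V.zeros.card : ℤ) ≤ 4 := by linarith [sum_nonneg hnn, hsum]
  have h4 : V.zeros.card = 4 := by omega
  rw [h4, Nat.cast_ofNat, sub_self] at hsum
  have hall := (sum_eq_zero_iff_of_nonneg hnn).1 hsum
  refine ⟨h4, fun i hi => ?_, fun i hi => ?_⟩
  · have h1 := hall i (mem_univ _)
    simp only [hg, if_pos hi] at h1
    rw [← sq]; linarith
  · have h1 := hall i (mem_univ _)
    simp only [hg, if_neg hi, sub_zero] at h1
    exact (pow_eq_zero_iff two_ne_zero).1 h1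

theorem sum_split (F : ι → ℤ) : ∑ i, F i = ∑ i ∈ V.zeros, F i + ∑ i ∈ V.zerosᶜ, F i :=
  (sum_add_sum_compl _ F).symm

/-- The second column when the rank is two. -/
theorem s_props (h2 : V.two) : (∀ i ∈ V.zeros, V.s i ^ 2 = 1) ∧
    ∃ q, q ∉ V.zeros ∧ V.s q ^ 2 = 4 ∧ ∀ i, i ∉ V.zeros → i ≠ q → V.s i = 0 := by
  obtain ⟨h4, -, -⟩ := V.zeros_props
  have hs := (V.sum_s h2).1
  have hodd : ∀ i ∈ V.zeros, Odd (V.s i) := fun i hi => (V.zero_odd i (V.mem_zeros.1 hi)).2.2 h2
  have h1 : ∀ i ∈ V.zeros, V.s i ^ 2 = 1 := by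
    intro i hi
    obtain ⟨a, ha⟩ := hodd i hi
    by_contra hne
    have h9 : 9 ≤ V.s i ^ 2 := by
      rw [ha] at hne ⊢
      have ha0 : a ≠ 0 := fun e => hne (by rw [e]; ring)
      have ha1 : a ≠ -1 := fun e => hne (by rw [e]; ring)
      rcases (show 1 ≤ a ∨ a ≤ -2 by omega) with h' | h' <;> nlinarith
    have hrest : 3 ≤ ∑ j ∈ V.zeros.erase i, V.s j ^ 2 := by
      have := card_nsmul_le_sum (V.zeros.erase i) (fun j => V.s j ^ 2) 1 fun j hj =>
        one_le_sq (hodd j (mem_of_mem_erase hj))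
      rw [card_erase_of_mem hi, h4, nsmul_one] at this
      simpa using this
    have htot := V.sum_split fun j => V.s j ^ 2
    rw [hs, ← add_sum_erase _ _ hi] at htot
    linarith [sum_nonneg fun j (_ : j ∈ V.zerosᶜ) => sq_nonneg (V.s j)]
  refine ⟨h1, ?_⟩
  have htot := V.sum_split fun j => V.s j ^ 2
  rw [hs, sum_congr rfl h1, sum_const, h4] at htot
  have hout : ∑ j ∈ V.zerosᶜ, V.s j ^ 2 = 4 := by norm_num at htot; linarith
  obtain ⟨q, hq, hq0⟩ := exists_ne_zero_of_sum_ne_zero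
    (show ∑ j ∈ V.zerosᶜ, V.s j ^ 2 ≠ 0 by rw [hout]; norm_num)
  have hev : ∀ j ∈ V.zerosᶜ, Even (V.s j) := fun j hj =>
    (V.pos_even j fun h => mem_compl.1 hj (V.mem_zeros.2 h)).2.1
  have hq4 := four_le_sq (hev q hq) fun e => hq0 (by rw [e]; rfl)
  rw [← add_sum_erase _ _ hq] at hout
  have hnn := sum_nonneg fun j (_ : j ∈ V.zerosᶜ.erase q) => sq_nonneg (V.s j)
  refine ⟨q, mem_compl.1 hq, by linarith, fun i hi hne => ?_⟩
  exact (pow_eq_zero_iff two_ne_zero).1 ((sum_eq_zero_iff_of_nonneg fun j _ => sq_nonneg (V.s j)).1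
    (show ∑ j ∈ V.zerosᶜ.erase q, V.s j ^ 2 = 0 by linarith) i
      (mem_erase.2 ⟨hne, mem_compl.2 hi⟩))

/-- At most one member outside has vanishing first column. -/
theorem t_zero_unique {i j : ι} (hi : i ∉ V.zeros) (hj : j ∉ V.zeros) (hti : V.t i = 0)
    (htj : V.t j = 0) : i = j := by
  have hsi := (V.pos_even i fun h => hi (V.mem_zeros.2 h)).2.2.resolve_left (not_not.2 hti)
  have hsj := (V.pos_even j fun h => hj (V.mem_zeros.2 h)).2.2.resolve_left (not_not.2 htj)
  by_cases h2 : V.two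
  · obtain ⟨-, q, -, -, hq⟩ := V.s_props h2
    have e1 : i = q := by_contra fun e => hsi (hq i hi e)
    have e2 : j = q := by_contra fun e => hsj (hq j hj e)
    rw [e1, e2]
  · exact absurd (V.s_zero h2 i) hsi

/-- The shape of a vector of the even rotations. -/
theorem shape {l : ℕ} (hl : l ∈ Ico 1 m) :
    ∃ (S : Finset ι) (x : ι) (σ : ℤ), S ⊆ V.zeros ∧ S.card = 2 ∧ x ∉ V.zeros ∧ σ * σ = 1 ∧
      ∀ i, V.A l i = (if i ∈ S then V.A0 i else 0) + (if i = x then σ else 0) := by
  obtain ⟨h4, hone, hzero⟩ := V.zeros_props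
  have hg1 := V.g0A l hl
  have hg2 := V.gAA l hl l hl
  rw [if_pos rfl] at hg2
  set w : ι → ℤ := fun i => V.A0 i * V.A l i with hw
  rw [V.sum_split, sum_eq_zero (s := V.zerosᶜ) fun i hi => by rw [hzero i (mem_compl.1 hi), zero_mul],
    add_zero] at hg1
  have hsq : ∀ i ∈ V.zeros, V.A l i * V.A l i = w i * w i := fun i hi => by
    linear_combination (-(V.A l i * V.A l i)) * hone i hi
  rw [V.sum_split, sum_congr rfl hsq] at hg2
  have hterm : ∀ i ∈ V.zeros, 0 ≤ w i * (w i - 1) := fun i _ => by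
    rcases le_or_gt (w i) 0 with h1 | h1
    · exact mul_nonneg_of_nonpos_of_nonpos h1 (by omega)
    · exact mul_nonneg h1.le (by omega)
  have hev : (2 : ℤ) ∣ ∑ i ∈ V.zeros, w i * (w i - 1) :=
    dvd_sum fun i _ => even_iff_two_dvd.1 (Int.even_mul_pred_self _)
  have hex : ∑ i ∈ V.zeros, w i * (w i - 1) = ∑ i ∈ V.zeros, w i * w i - 2 := by
    simp only [mul_sub, mul_one, sum_sub_distrib]
    rw [hg1]
  have hout : 0 ≤ ∑ i ∈ V.zerosᶜ, V.A l i * V.A l i := sum_nonneg fun i _ => mul_self_nonneg _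
  have hz : ∑ i ∈ V.zeros, w i * (w i - 1) = 0 := by
    have := sum_nonneg hterm; omega
  have hout1 : ∑ i ∈ V.zerosᶜ, V.A l i * V.A l i = 1 := by omega
  have hw01 : ∀ i ∈ V.zeros, w i = 0 ∨ w i = 1 := fun i hi => by
    rcases mul_eq_zero.1 ((sum_eq_zero_iff_of_nonneg hterm).1 hz i hi) with e | e
    · exact Or.inl e
    · exact Or.inr (by omega)
  obtain ⟨x, hx, hx0⟩ := exists_ne_zero_of_sum_ne_zero
    (show ∑ i ∈ V.zerosᶜ, V.A l i * V.A l i ≠ 0 by omega)
  have hx1 : V.A l x * V.A l x = 1 ∧ ∀ i ∈ V.zerosᶜ, i ≠ x → V.A l i = 0 := by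
    rw [← add_sum_erase _ _ hx] at hout1
    have h1 : 0 < V.A l x * V.A l x := lt_of_le_of_ne (mul_self_nonneg _) (Ne.symm hx0)
    have h2 : 0 ≤ ∑ i ∈ V.zerosᶜ.erase x, V.A l i * V.A l i :=
      sum_nonneg fun i _ => mul_self_nonneg _
    refine ⟨by omega, fun i hi hne => mul_self_eq_zero.1 ?_⟩
    exact (sum_eq_zero_iff_of_nonneg fun i _ => mul_self_nonneg _).1
      (show ∑ i ∈ V.zerosᶜ.erase x, V.A l i * V.A l i = 0 by omega) i (mem_erase.2 ⟨hne, hi⟩)
  refine ⟨V.zeros.filter fun i => w i = 1, x, V.A l x, filter_subset _ _, ?_, mem_compl.1 hx,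
    hx1.1, fun i => ?_⟩
  · have h2 : ∑ i ∈ V.zeros, (if w i = 1 then (1 : ℤ) else 0) = 2 := by
      rw [← hg1]
      refine sum_congr rfl fun i hi => ?_
      show (if w i = 1 then (1 : ℤ) else 0) = w i
      rcases hw01 i hi with e | e <;> simp [e]
    rw [sum_boole] at h2
    exact_mod_cast h2
  · by_cases hi : i ∈ V.zeros
    · have hix : i ≠ x := fun e => mem_compl.1 hx (e ▸ hi)
      have hval : V.A l i = w i * V.A0 i := by
        linear_combination (-(V.A l i)) * hone i hi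
      rcases hw01 i hi with e | e
      · rw [if_neg (by simp [e]), if_neg hix, hval, e]; ring
      · rw [if_pos (mem_filter.2 ⟨hi, e⟩), if_neg hix, hval, e]; ring
    · rw [if_neg (fun h' => hi (mem_filter.1 h').1), zero_add]
      by_cases hix : i = x
      · rw [if_pos hix, hix]
      · rw [if_neg hix, hx1.2 i (mem_compl.2 hi) hix]

/-- The shape of a vector of the odd rotations. -/
theorem shapeC {j : ℕ} (hj : j ∈ Ico 1 m) :
    ∃ a b : ι, a ≠ b ∧ V.C j a * V.C j a = 1 ∧ V.C j b * V.C j b = 1 ∧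
      (∀ i, i ≠ a → i ≠ b → V.C j i = 0) ∧ (a ∈ V.zeros ↔ b ∈ V.zeros) := by
  have hg := V.gCC j hj j hj
  rw [if_pos rfl] at hg
  obtain ⟨a, -, ha⟩ := exists_ne_zero_of_sum_ne_zero
    (show ∑ i, V.C j i * V.C j i ≠ 0 by omega)
  have hapos : 0 < V.C j a * V.C j a := lt_of_le_of_ne (mul_self_nonneg _) (Ne.symm ha)
  have ha1 : V.C j a * V.C j a = 1 := by
    rw [← add_sum_erase _ _ (mem_univ a)] at hg
    have hnn := sum_nonneg fun i (_ : i ∈ univ.erase a) => mul_self_nonneg (V.C j i)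
    have hle : V.C j a * V.C j a ≤ 2 := by omega
    have hb1 : -1 ≤ V.C j a := by nlinarith
    have hb2 : V.C j a ≤ 1 := by nlinarith
    generalize V.C j a = c at *
    interval_cases c <;> omega
  rw [← add_sum_erase _ _ (mem_univ a), ha1] at hg
  obtain ⟨b, hb, hb0⟩ := exists_ne_zero_of_sum_ne_zero
    (show ∑ i ∈ univ.erase a, V.C j i * V.C j i ≠ 0 by omega)
  have hbpos : 0 < V.C j b * V.C j b := lt_of_le_of_ne (mul_self_nonneg _) (Ne.symm hb0)
  rw [← add_sum_erase _ _ hb] at hg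
  have hnn := sum_nonneg fun i (_ : i ∈ (univ.erase a).erase b) => mul_self_nonneg (V.C j i)
  have hrest : ∀ i, i ≠ a → i ≠ b → V.C j i = 0 := fun i h1 h2 => mul_self_eq_zero.1
    ((sum_eq_zero_iff_of_nonneg fun i _ => mul_self_nonneg _).1
      (show ∑ i ∈ (univ.erase a).erase b, V.C j i * V.C j i = 0 by omega) i
        (mem_erase.2 ⟨h2, mem_erase.2 ⟨h1, mem_univ _⟩⟩))
  have hab : a ≠ b := (mem_erase.1 hb).1.symm
  have hb1 : V.C j b * V.C j b = 1 := by omega
  refine ⟨a, b, hab, ha1, hb1, hrest, ?_⟩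
  obtain ⟨-, hone, hzero⟩ := V.zeros_props
  have h0 := V.g0C j hj
  rw [sum_eq_add (a := a) (b := b) hab (fun i _ hi => by rw [hrest i hi.1 hi.2, mul_zero])
    (fun h => absurd (mem_univ _) h) (fun h => absurd (mem_univ _) h)] at h0
  have key : ∀ {u v : ι}, u ∈ V.zeros → V.C j u * V.C j u = 1 → v ∉ V.zeros →
      V.A0 u * V.C j u + V.A0 v * V.C j v = 0 → False := fun {u v} hu hcu hv he => by
    rw [hzero v hv, zero_mul, add_zero] at he
    have h1 := hone u hu
    rcases mul_eq_zero.1 he with e | e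
    · rw [e] at h1; norm_num at h1
    · rw [e] at hcu; norm_num at hcu
  constructor
  · exact fun hu => by_contra fun hv => key hu ha1 hv h0
  · exact fun hu => by_contra fun hv => key hu hb1 hv (by linarith)

/-- The value of the rotation part on a member of height zero. -/
theorem rotNorm_of {p : ι} {n : ℕ} {c : ℤ} (hp : V.A0 p * V.A0 p = 1)
    (hA : ∀ l ∈ Ico 1 m, V.A l p = if n = 0 then 0 else V.A0 p) (hn : n = 0 ∨ n = 1)
    (hC : ∀ l ∈ Ico 1 m, V.C l p = c) :
    rotNorm m V.A0 V.A V.C p = 4 * m - 2 + 8 * ((m : ℤ) - 1) * c ^ 2 := by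
  obtain ⟨k, rfl⟩ : ∃ k, m = k + 1 := ⟨m - 1, by have := V.two_le_m; omega⟩
  have hp' : V.A0 p ^ 2 = 1 := by rw [sq, hp]
  rw [rotNorm, sum_congr rfl hA, sum_congr rfl fun l hl => congrArg (· ^ 2) (hA l hl),
    sum_congr rfl hC, sum_congr rfl fun l hl => congrArg (· ^ 2) (hC l hl)]
  rcases hn with rfl | rfl
  · simp [hp']; ring
  · simp [hp']; linear_combination (-(2 * (2 * (k : ℤ) + 1) ^ 2)) * hp'

/-- **The odd rotations live outside the members of height zero.** -/
theorem C_zero {j : ℕ} (hj : j ∈ Ico 1 m) {i : ι} (hi : i ∈ V.zeros) : V.C j i = 0 := by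
  by_contra hne
  obtain ⟨h4, hone, hzero⟩ := V.zeros_props
  obtain ⟨S, x, σ, hS, hS2, hx, hσ, hA⟩ := V.shape V.one_mem
  -- a vector inside is supported on one of two pairs
  have key : ∀ {l : ℕ} (hl : l ∈ Ico 1 m) {u : ι}, u ∈ V.zeros → V.C l u ≠ 0 →
      (∀ v, V.C l v ≠ 0 ↔ v ∈ V.zeros ∧ (v ∈ S ↔ u ∈ S)) := by
    intro l hl u hu hu0
    obtain ⟨a, b, hab, ha1, hb1, hrest, hiff⟩ := V.shapeC hl
    have hsupp : ∀ v, V.C l v ≠ 0 → v = a ∨ v = b := fun v hv => by
      by_contra hn; push Not at hn; exact hv (hrest v hn.1 hn.2)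
    have haZ : a ∈ V.zeros := by
      rcases hsupp u hu0 with rfl | rfl
      exacts [hu, hiff.2 hu]
    have hbZ := hiff.1 haZ
    have hAC := V.gAC 1 V.one_mem l hl
    rw [sum_eq_add (a := a) (b := b) hab (fun i _ hi => by rw [hrest i hi.1 hi.2, mul_zero])
      (fun h => absurd (mem_univ _) h) (fun h => absurd (mem_univ _) h), hA, hA,
      if_neg (fun e : a = x => hx (e ▸ haZ)), if_neg (fun e : b = x => hx (e ▸ hbZ)),
      add_zero, add_zero] at hAC
    have hsame : a ∈ S ↔ b ∈ S := by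
      constructor <;> intro h1 <;> by_contra h2 <;> simp [h1, h2] at hAC
      · rcases hAC with e | e
        · have := hone a haZ; rw [e] at this; norm_num at this
        · rw [e] at ha1; norm_num at ha1
      · rcases hAC with e | e
        · have := hone b hbZ; rw [e] at this; norm_num at this
        · rw [e] at hb1; norm_num at hb1
    intro v
    constructor
    · intro hv
      rcases hsupp v hv with rfl | rfl <;> rcases hsupp u hu0 with rfl | rfl
      exacts [⟨haZ, Iff.rfl⟩, ⟨haZ, hsame⟩, ⟨hbZ, hsame.symm⟩, ⟨hbZ, Iff.rfl⟩]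
    · rintro ⟨hvZ, hvS⟩
      by_contra hv0
      have hva : v ≠ a := fun e => by rw [e] at hv0; rw [hv0] at ha1; norm_num at ha1
      have hvb : v ≠ b := fun e => by rw [e] at hv0; rw [hv0] at hb1; norm_num at hb1
      have hvS' : v ∈ S ↔ a ∈ S := hvS.trans (by rcases hsupp u hu0 with rfl | rfl
                                                 exacts [Iff.rfl, hsame.symm])
      have h3 : ∀ T : Finset ι, a ∈ T → b ∈ T → v ∈ T → 3 ≤ T.card := fun T h1 h2 h3 =>
        le_trans (le_of_eq (by rw [card_insert_of_notMem (by simp [hab, hva.symm]),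
          card_pair hvb.symm])) (card_le_card (show ({a, b, v} : Finset ι) ⊆ T by
            intro w hw; simp at hw; rcases hw with rfl | rfl | rfl <;> assumption))
      by_cases haS : a ∈ S
      · have := h3 S haS (hsame.1 haS) (hvS'.2 haS); omega
      · have := h3 (V.zeros \ S) (mem_sdiff.2 ⟨haZ, haS⟩) (mem_sdiff.2 ⟨hbZ, hsame.not.1 haS⟩)
          (mem_sdiff.2 ⟨hvZ, hvS'.not.2 haS⟩)
        rw [card_sdiff_of_subset hS] at this; omega
  have hsupp := key hj hi hne
  by_cases hm2 : m = 2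
  · -- order sixteen
    subst hm2
    have hIco : Ico 1 2 = ({1} : Finset ℕ) := rfl
    obtain rfl : j = 1 := by simpa [hIco] using hj
    have hc : V.C 1 i ^ 2 = 1 := by
      obtain ⟨a, b, -, ha1, hb1, hrest, -⟩ := V.shapeC hj
      by_cases e1 : i = a
      · rw [e1, sq, ha1]
      by_cases e2 : i = b
      · rw [e2, sq, hb1]
      exact absurd (hrest i e1 e2) hne
    have hix : i ≠ x := fun e => hx (e ▸ hi)
    have hF := V.rotNorm_of (p := i) (n := if i ∈ S then 1 else 0) (c := V.C 1 i) (hone i hi)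
      (fun l hl => by
        obtain rfl : l = 1 := by simpa [hIco] using hl
        rw [hA, if_neg hix, add_zero]
        by_cases hiS : i ∈ S <;> simp [hiS])
      (by by_cases hiS : i ∈ S <;> simp [hiS])
      (fun l hl => by obtain rfl : l = 1 := by simpa [hIco] using hl
                      rfl)
    have hz := V.mem_zeros.1 hi
    have htot := V.total i hz
    rw [hF, hc] at htot
    have hR := V.R_pos i hz
    have ht := one_le_sq (V.zero_odd i hz).2.1
    push_cast at htot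
    by_cases h2 : V.two
    · have hs := one_le_sq ((V.zero_odd i hz).2.2 h2)
      have := V.N_nonneg i hz
      linarith
    · have := V.N_pos h2 i hz
      nlinarith [sq_nonneg (V.s i)]
  · obtain ⟨k, hk⟩ := V.hm
    have hk0 : k ≠ 0 := fun e => hm2 (by rw [hk, e]; rfl)
    have h4m : 4 ≤ m := by
      rw [hk]; exact le_trans (by norm_num) (Nat.pow_le_pow_right two_pos (show 2 ≤ k + 1 by omega))
    obtain ⟨l, hl, hlj⟩ : ∃ l ∈ Ico 1 m, l ≠ j := by
      by_cases e : j = 1
      · exact ⟨2, mem_Ico.2 ⟨by omega, by omega⟩, by omega⟩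
      · exact ⟨1, V.one_mem, fun h => e h.symm⟩
    have hg := V.gCC j hj l hl
    rw [if_neg hlj.symm, add_zero] at hg
    obtain ⟨u, -, hu⟩ := exists_ne_zero_of_sum_ne_zero
      (show ∑ v, V.C j v * V.C l v ≠ 0 by omega)
    obtain ⟨hu1, hu2⟩ := mul_ne_zero_iff.1 hu
    obtain ⟨huZ, huS⟩ := (hsupp u).1 hu1
    have hsupp' := key hl huZ hu2
    obtain ⟨a, b, hab, ha1, hb1, hrest, -⟩ := V.shapeC hj
    have hla : V.C l a ≠ 0 ∧ V.C l b ≠ 0 := by
      constructor
      all_goals
        rw [hsupp', huS]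
        refine (hsupp _).1 fun e => ?_
      · rw [e] at ha1; norm_num at ha1
      · rw [e] at hb1; norm_num at hb1
    rw [sum_eq_add (a := a) (b := b) hab (fun i _ hi => by rw [hrest i hi.1 hi.2, zero_mul])
      (fun h => absurd (mem_univ _) h) (fun h => absurd (mem_univ _) h)] at hg
    obtain ⟨c, d, -, hc1, hd1, hrest', -⟩ := V.shapeC hl
    have hsq : ∀ v, V.C l v ≠ 0 → V.C l v * V.C l v = 1 := fun v hv => by
      by_cases e1 : v = c
      · rw [e1, hc1]
      by_cases e2 : v = d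
      · rw [e2, hd1]
      exact absurd (hrest' v e1 e2) hv
    rcases mul_self_eq_one_iff.1 ha1 with e1 | e1 <;>
      rcases mul_self_eq_one_iff.1 hb1 with e2 | e2 <;>
      rcases mul_self_eq_one_iff.1 (hsq a hla.1) with e3 | e3 <;>
      rcases mul_self_eq_one_iff.1 (hsq b hla.2) with e4 | e4 <;>
      rw [e1, e2, e3, e4] at hg <;> norm_num at hg

/-- The odd rotations need as many members as there are of them and one more. -/
theorem card_odd : ∃ U : Finset ι, U ⊆ V.zerosᶜ ∧ m ≤ U.card ∧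
    (∀ u ∈ U, ∃ j ∈ Ico 1 m, V.C j u ≠ 0) := by
  have hsub : ∀ j ∈ Ico 1 m, ∀ u, V.C j u ≠ 0 → u ∈ V.zerosᶜ := fun j hj u hu =>
    mem_compl.2 fun hz => hu (V.C_zero hj hz)
  set U : Finset ι := (V.zerosᶜ).filter fun u => ∃ j ∈ Ico 1 m, V.C j u ≠ 0 with hU
  have hmemU : ∀ u, u ∈ U ↔ u ∈ V.zerosᶜ ∧ ∃ j ∈ Ico 1 m, V.C j u ≠ 0 := fun u => by
    simp only [hU, mem_filter]
  refine ⟨U, fun u hu => ((hmemU u).1 hu).1, ?_, fun u hu => ((hmemU u).1 hu).2⟩
  have hne0 : ∀ {c : ℤ}, c * c = 1 → c ≠ 0 := fun h e => by rw [e] at h; norm_num at h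
  by_cases hm2 : m = 2
  · obtain ⟨a, b, hab, ha1, hb1, -, -⟩ := V.shapeC V.one_mem
    have haU : a ∈ U := (hmemU _).2 ⟨hsub 1 V.one_mem a (hne0 ha1), 1, V.one_mem, hne0 ha1⟩
    have hbU : b ∈ U := (hmemU _).2 ⟨hsub 1 V.one_mem b (hne0 hb1), 1, V.one_mem, hne0 hb1⟩
    rw [hm2, ← card_pair hab]
    exact card_le_card (insert_subset haU (singleton_subset_iff.2 hbU))
  obtain ⟨k, hk⟩ := V.hm
  have h4m : 4 ≤ m := by
    have hk0 : k ≠ 0 := fun e => hm2 (by rw [hk, e]; rfl)
    rw [hk]; exact le_trans (by norm_num) (Nat.pow_le_pow_right two_pos (show 2 ≤ k + 1 by omega))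
  haveI : Nonempty ι := ⟨V.exists_zero.choose⟩
  choose! a b hab ha1 hb1 hrest _hiff using fun (j : ℕ) (hj : j ∈ Ico 1 m) => V.shapeC hj
  have hsq : ∀ j ∈ Ico 1 m, ∀ u, V.C j u ≠ 0 → V.C j u * V.C j u = 1 := fun j hj u hu => by
    by_cases e1 : u = a j
    · rw [e1, ha1 j hj]
    by_cases e2 : u = b j
    · rw [e2, hb1 j hj]
    exact absurd (hrest j hj u e1 e2) hu
  -- two different vectors meet once
  have hmeet : ∀ j ∈ Ico 1 m, ∀ l ∈ Ico 1 m, j ≠ l → ∃ u, V.C j u ≠ 0 ∧ V.C l u ≠ 0 ∧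
      V.C j u = V.C l u ∧ ∀ v, V.C j v ≠ 0 → V.C l v ≠ 0 → v = u := by
    intro j hj l hl hne
    have hg := V.gCC j hj l hl
    rw [if_neg hne, add_zero, sum_eq_add (a := a j) (b := b j) (hab j hj)
      (fun i _ hi => by rw [hrest j hj i hi.1 hi.2, zero_mul])
      (fun h => absurd (mem_univ _) h) (fun h => absurd (mem_univ _) h)] at hg
    have honly : ∀ v, V.C j v ≠ 0 → v = a j ∨ v = b j := fun v hv => by
      by_contra hn; push Not at hn; exact hv (hrest j hj v hn.1 hn.2)
    by_cases h1 : V.C l (a j) = 0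
    · rw [h1, mul_zero, zero_add] at hg
      refine ⟨b j, hne0 (hb1 j hj), fun e => by rw [e] at hg; norm_num at hg, ?_, fun v hv hv' => ?_⟩
      · linear_combination (-(V.C j (b j))) * hg + V.C l (b j) * hb1 j hj
      · exact (honly v hv).resolve_left fun e => hv' (e ▸ h1)
    · have h2 : V.C l (b j) = 0 := by
        by_contra h2
        rcases mul_self_eq_one_iff.1 (ha1 j hj) with e1 | e1 <;>
          rcases mul_self_eq_one_iff.1 (hb1 j hj) with e2 | e2 <;>
          rcases mul_self_eq_one_iff.1 (hsq l hl _ h1) with e3 | e3 <;>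
          rcases mul_self_eq_one_iff.1 (hsq l hl _ h2) with e4 | e4 <;>
          rw [e1, e2, e3, e4] at hg <;> norm_num at hg
      rw [h2, mul_zero, add_zero] at hg
      refine ⟨a j, hne0 (ha1 j hj), h1, ?_, fun v hv hv' => ?_⟩
      · linear_combination (-(V.C j (a j))) * hg + V.C l (a j) * ha1 j hj
      · exact (honly v hv).resolve_right fun e => hv' (e ▸ h2)
  have hpair : ∀ j ∈ Ico 1 m, ∀ u v, u ≠ v → V.C j u ≠ 0 → V.C j v ≠ 0 →
      V.t u * V.C j u + V.t v * V.C j v = 0 ∧ ∀ w, V.C j w ≠ 0 → w = u ∨ w = v := by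
    intro j hj u v huv hu hv
    have honly : ∀ w, V.C j w ≠ 0 → w = a j ∨ w = b j := fun w hw => by
      by_contra hn; push Not at hn; exact hw (hrest j hj w hn.1 hn.2)
    have hcases : ∀ w, V.C j w ≠ 0 → w = u ∨ w = v := by
      intro w hw
      rcases honly u hu with e1 | e1 <;> rcases honly v hv with e2 | e2 <;>
        rcases honly w hw with e3 | e3 <;>
        first | exact absurd (e1.trans e2.symm) huv | exact Or.inl (e3.trans e1.symm) |
          exact Or.inr (e3.trans e2.symm)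
    refine ⟨?_, hcases⟩
    have ho := (V.t_orth.2 j hj).2
    rwa [sum_eq_add (a := u) (b := v) huv (fun i _ hi => by
        by_cases e : V.C j i = 0
        · rw [e, mul_zero]
        · rcases hcases i e with e' | e'
          · exact absurd e' hi.1
          · exact absurd e' hi.2)
      (fun h => absurd (mem_univ _) h) (fun h => absurd (mem_univ _) h)] at ho
  have m1 : (1 : ℕ) ∈ Ico 1 m := V.one_mem
  have m2 : (2 : ℕ) ∈ Ico 1 m := mem_Ico.2 ⟨by omega, by omega⟩
  obtain ⟨y, hy1, hy2, hyeq, hyuniq⟩ := hmeet 1 m1 2 m2 (by omega)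
  -- every vector passes through the common member
  have hall : ∀ j ∈ Ico 1 m, V.C j y ≠ 0 := by
    intro j hj hzero
    have hj1 : j ≠ 1 := fun e => hy1 (e ▸ hzero)
    have hj2 : j ≠ 2 := fun e => hy2 (e ▸ hzero)
    obtain ⟨u, hu1, huj, hueq, -⟩ := hmeet 1 m1 j hj hj1.symm
    obtain ⟨v, hv2, hvj, hveq, -⟩ := hmeet 2 m2 j hj hj2.symm
    have hyu : y ≠ u := fun e => huj (e ▸ hzero)
    have hyv : y ≠ v := fun e => hvj (e ▸ hzero)
    have huv : u ≠ v := fun e => hyu (hyuniq u hu1 (e ▸ hv2)).symm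
    have r1 := (hpair 1 m1 y u hyu hy1 hu1).1
    have r2 := (hpair 2 m2 y v hyv hy2 hv2).1
    have r3 := (hpair j hj u v huv huj hvj).1
    rw [← hyeq] at r2
    rw [← hueq, ← hveq] at r3
    have hu0 : V.t u * V.C 1 u = 0 := by linarith
    have hy0 : V.t y * V.C 1 y = 0 := by linarith
    exact hyu (V.t_zero_unique (mem_compl.1 (hsub 1 m1 y hy1)) (mem_compl.1 (hsub 1 m1 u hu1))
      ((mul_eq_zero.1 hy0).resolve_right hy1) ((mul_eq_zero.1 hu0).resolve_right hu1))
  -- the other members of the supports differ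
  have hoth : ∀ j ∈ Ico 1 m, ∃ u, u ≠ y ∧ V.C j u ≠ 0 := fun j hj => by
    by_cases e : a j = y
    · exact ⟨b j, fun e' => hab j hj (e.trans e'.symm), hne0 (hb1 j hj)⟩
    · exact ⟨a j, e, hne0 (ha1 j hj)⟩
  choose! f hfy hf0 using hoth
  have hinj : Set.InjOn f ↑(Ico 1 m) := by
    intro j hj l hl e
    by_contra hne
    obtain ⟨u, -, -, -, huniq⟩ := hmeet j (mem_coe.1 hj) l (mem_coe.1 hl) hne
    exact hfy j (mem_coe.1 hj)
      ((huniq (f j) (hf0 j hj) (e ▸ hf0 l hl)).trans (huniq y (hall j hj) (hall l hl)).symm)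
  have himg : insert y ((Ico 1 m).image f) ⊆ U := by
    refine insert_subset ((hmemU _).2 ⟨hsub 1 m1 y hy1, 1, m1, hy1⟩) fun u hu => ?_
    obtain ⟨j, hj, rfl⟩ := mem_image.1 hu
    exact (hmemU _).2 ⟨hsub j hj _ (hf0 j hj), j, hj, hf0 j hj⟩
  refine le_trans (le_of_eq ?_) (card_le_card himg)
  rw [card_insert_of_notMem (fun h => ?_), card_image_of_injOn hinj, Nat.card_Ico]
  · omega
  · obtain ⟨j, hj, e⟩ := mem_image.1 h
    exact hfy j hj e

/-- The shapes of the even rotations are different. -/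
theorem shape_inj {S : ℕ → Finset ι} {x : ℕ → ι} {σ : ℕ → ℤ}
    (hS : ∀ l ∈ Ico 1 m, S l ⊆ V.zeros ∧ (S l).card = 2 ∧ x l ∉ V.zeros ∧ σ l * σ l = 1 ∧
      ∀ i, V.A l i = (if i ∈ S l then V.A0 i else 0) + (if i = x l then σ l else 0)) :
    Set.InjOn x ↑(Ico 1 m) ∧
      ∀ l ∈ Ico 1 m, ∀ j ∈ Ico 1 m, l ≠ j → S l = S j := by
  obtain ⟨h4, hone, hzero⟩ := V.zeros_props
  have hpair : ∀ l ∈ Ico 1 m, ∀ j ∈ Ico 1 m, l ≠ j →
      (x l ≠ x j ∧ S l = S j) ∨ (x l = x j ∧ σ l = σ j ∧ (S l ∩ S j).card = 1) := by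
    intro l hl j hj hne
    obtain ⟨aS, a2, ax, aσ, aA⟩ := hS l hl
    obtain ⟨bS, b2, bx, bσ, bA⟩ := hS j hj
    have hg := V.gAA l hl j hj
    rw [if_neg hne, add_zero] at hg
    have e : ∀ i, V.A l i * V.A j i = (if i ∈ S l ∩ S j then (1 : ℤ) else 0) +
        (if i = x l ∧ i = x j then σ l * σ j else 0) := fun i => by
      rw [aA, bA]
      by_cases hi : i ∈ V.zeros
      · have h1 : i ≠ x l := fun e => ax (e ▸ hi)
        have h2 : i ≠ x j := fun e => bx (e ▸ hi)
        by_cases a : i ∈ S l <;> by_cases b : i ∈ S j <;> simp [h1, h2, a, b, hone i hi]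
      · have h1 : i ∉ S l := fun e => hi (aS e)
        have h2 : i ∉ S j := fun e => hi (bS e)
        by_cases a : i = x l <;> by_cases b : i = x j <;> simp [h1, h2, a, b] <;> simp_all
    simp only [e, sum_add_distrib, sum_ite_mem, univ_inter, sum_const, nsmul_one] at hg
    have hle : (S l ∩ S j).card ≤ 2 := (card_le_card inter_subset_left).trans_eq a2
    by_cases hxx : x l = x j
    · right
      rw [sum_eq_single_of_mem (x l) (mem_univ _) (fun i _ hi => if_neg fun e => hi e.1),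
        if_pos ⟨rfl, hxx⟩] at hg
      rcases mul_self_eq_one_iff.1 aσ with a | a <;>
        rcases mul_self_eq_one_iff.1 bσ with b | b <;> rw [a, b] at hg ⊢ <;>
        norm_num at hg <;> first | omega | exact ⟨hxx, rfl, by omega⟩
    · left
      have h0 : ∑ i, (if i = x l ∧ i = x j then σ l * σ j else 0) = 0 :=
        sum_eq_zero fun i _ => if_neg fun e => hxx (e.1.symm.trans e.2)
      rw [h0, add_zero] at hg
      have hc : (S l ∩ S j).card = 2 := by exact_mod_cast hg
      refine ⟨hxx, ?_⟩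
      exact (eq_of_subset_of_card_le inter_subset_left (by rw [hc, a2])).symm.trans
        (eq_of_subset_of_card_le inter_subset_right (by rw [hc, b2]))
  suffices hinj : Set.InjOn x ↑(Ico 1 m) from ⟨hinj, fun l hl j hj hne =>
    ((hpair l hl j hj hne).resolve_right fun e => hne (hinj hl hj e.1)).2⟩
  intro l0 hl0 j0 hj0 hx0
  by_contra hne0
  have hl0' := mem_coe.1 hl0
  have hj0' := mem_coe.1 hj0
  have hlj := ((hpair l0 hl0' j0 hj0' hne0).resolve_left fun e => e.1 hx0).2.2
  have hsame : ∀ k ∈ Ico 1 m, x k = x l0 := by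
    intro k hk
    by_contra hne
    have hk1 : k ≠ l0 := fun e => hne (by subst e; rfl)
    have hk2 : k ≠ j0 := fun e => hne (by subst e; exact hx0.symm)
    have e1 := ((hpair k hk l0 hl0' hk1).resolve_right fun e => hne e.1).2
    have e2 := ((hpair k hk j0 hj0' hk2).resolve_right fun e => hne (e.1.trans hx0.symm)).2
    rw [← e1, ← e2, inter_self, (hS k hk).2.1] at hlj
    omega
  have hall : ∀ l ∈ Ico 1 m, ∀ j ∈ Ico 1 m, l ≠ j → σ l = σ j ∧ (S l ∩ S j).card = 1 :=
    fun l hl j hj hne =>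
      ((hpair l hl j hj hne).resolve_left fun e => e.1 ((hsame l hl).trans (hsame j hj).symm)).2
  obtain ⟨k, hk⟩ := V.hm
  rcases k with _ | _ | k
  · norm_num at hk; subst hk
    simp only [mem_Ico] at hl0' hj0'; omega
  · -- order thirty-two
    norm_num at hk; subst hk
    have m1 : (1 : ℕ) ∈ Ico 1 4 := by simp
    have m2 : (2 : ℕ) ∈ Ico 1 4 := by simp
    have m3 : (3 : ℕ) ∈ Ico 1 4 := by simp
    obtain ⟨p, a, b, c, hpa, hpb, hpc, hab, hac, hbc, hP, hS1, hS2, hthree⟩ :=
      CfsgLib.DihDefect.Vectors.third_pair h4 (hS 1 m1).1 (hS 2 m2).1 (hS 1 m1).2.1 (hS 2 m2).2.1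
        (hall 1 m1 2 m2 (by omega)).2
    have hS3 := hthree _ (hS 3 m3).1 (hS 3 m3).2.1 (hall 1 m1 3 m3 (by omega)).2
      (hall 2 m2 3 m3 (by omega)).2
    set y := x 1 with hy
    have hyZ : y ∉ V.zeros := (hS 1 m1).2.2.1
    have hZm : ∀ i ∈ ({p, a, b, c} : Finset ι), i ∈ V.zeros := fun i hi => hP ▸ hi
    -- a vector orthogonal to all of them
    have key : ∀ v : ι → ℤ, (∑ i, v i * V.A0 i = 0) → (∀ l ∈ Ico 1 4, ∑ i, v i * V.A l i = 0) →
        (S 3 = {p, c} → (3 : ℤ) ∣ v p) ∧ (S 3 = {a, b} → (3 : ℤ) ∣ v c) := by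
      intro v h0 hA
      have e0 : v p * V.A0 p + (v a * V.A0 a + (v b * V.A0 b + v c * V.A0 c)) = 0 := by
        rw [V.sum_split, sum_eq_zero (s := V.zerosᶜ) fun i hi => by
          rw [hzero i (mem_compl.1 hi), mul_zero], add_zero, hP, sum_insert (by simp [*]),
          sum_insert (by simp [*]), sum_pair hbc] at h0
        exact h0
      have el : ∀ l ∈ Ico 1 4, ∑ i ∈ S l, v i * V.A0 i + v y * σ 1 = 0 := by
        intro l hl
        have h1 := hA l hl
        simp only [(hS l hl).2.2.2.2, mul_add, mul_ite, mul_zero, sum_add_distrib, sum_ite_mem,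
          univ_inter, sum_ite_eq', mem_univ, if_true] at h1
        rw [show x l = y from (hsame l hl).trans (hsame 1 m1).symm] at h1
        by_cases e : l = 1
        · subst e; exact h1
        · rwa [(hall l hl 1 m1 e).1] at h1
      have e1 := el 1 m1
      have e2 := el 2 m2
      have e3 := el 3 m3
      rw [hS1, sum_pair hpa] at e1
      rw [hS2, sum_pair hpb] at e2
      constructor <;> intro hc3 <;> rw [hc3, sum_pair (by assumption)] at e3
      · refine ⟨-(v a * V.A0 a * V.A0 p), ?_⟩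
        linear_combination (-(v p)) * hone p (hZm p (by simp)) +
          V.A0 p * e0 + 2 * V.A0 p * e1 - V.A0 p * e2 - V.A0 p * e3
      · refine ⟨-(v a * V.A0 a * V.A0 c), ?_⟩
        linear_combination (-(v c)) * hone c (hZm c (by simp)) +
          V.A0 c * e0 + V.A0 c * e1 + V.A0 c * e3 - 2 * V.A0 c * e2
    obtain ⟨P0, hP0Z, hdiv, hn⟩ : ∃ P0, P0 ∈ V.zeros ∧
        (∀ v : ι → ℤ, (∑ i, v i * V.A0 i = 0) → (∀ l ∈ Ico 1 4, ∑ i, v i * V.A l i = 0) →
          (3 : ℤ) ∣ v P0) ∧
        ((∀ l ∈ Ico 1 4, P0 ∈ S l) ∨ ∀ l ∈ Ico 1 4, P0 ∉ S l) := by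
      have hl : ∀ l ∈ Ico 1 4, l = 1 ∨ l = 2 ∨ l = 3 := fun l hl => by
        simp only [mem_Ico] at hl; omega
      rcases hS3 with hS3 | hS3
      · refine ⟨p, hZm p (by simp), fun v h0 hA => (key v h0 hA).1 hS3, Or.inl fun l h => ?_⟩
        rcases hl l h with rfl | rfl | rfl <;> simp [hS1, hS2, hS3]
      · refine ⟨c, hZm c (by simp), fun v h0 hA => (key v h0 hA).2 hS3, Or.inr fun l h => ?_⟩
        rcases hl l h with rfl | rfl | rfl <;>
          simp [hS1, hS2, hS3, hpc.symm, hac.symm, hbc.symm]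
    have hz := V.mem_zeros.1 hP0Z
    have hPx : ∀ l ∈ Ico 1 4, P0 ≠ x l := fun l hl e => (hS l hl).2.2.1 (e ▸ hP0Z)
    by_cases h2 : V.two
    · obtain ⟨q, hq⟩ := hdiv V.s V.s_orth.1 fun l hl => (V.s_orth.2 l hl).1
      have h1 := (V.s_props h2).1 P0 hP0Z
      rw [hq] at h1
      have : (3 : ℤ) ∣ 1 := ⟨3 * q * q, by linarith⟩
      norm_num at this
    · obtain ⟨q, hq⟩ := hdiv V.t V.t_orth.1 fun l hl => (V.t_orth.2 l hl).1
      have hR := hdiv (V.R P0) (V.R_orth P0 hz).1 fun l hl => ((V.R_orth P0 hz).2 l hl).1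
      have hq0 : q ≠ 0 := fun e => by
        have := (V.zero_odd P0 hz).2.1; rw [hq, e] at this; simp at this
      have hF : rotNorm 4 V.A0 V.A V.C P0 = 14 := by
        rcases hn with hn | hn
        · rw [V.rotNorm_of (p := P0) (n := 1) (c := 0) (hone P0 hP0Z)
            (fun l hl => by rw [(hS l hl).2.2.2.2, if_pos (hn l hl), if_neg (hPx l hl)]; simp)
            (Or.inr rfl) fun l hl => V.C_zero hl hP0Z]
          norm_num
        · rw [V.rotNorm_of (p := P0) (n := 0) (c := 0) (hone P0 hP0Z)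
            (fun l hl => by rw [(hS l hl).2.2.2.2, if_neg (hn l hl), if_neg (hPx l hl)]; simp)
            (Or.inl rfl) fun l hl => V.C_zero hl hP0Z]
          norm_num
      have htot := V.total P0 hz
      rw [hF, hq, V.s_zero h2 P0] at htot
      push_cast at htot
      have h9 : 1 ≤ q * q := by have := mul_self_pos.2 hq0; omega
      have hR1 := V.R_pos P0 hz
      have hN := V.N_pos h2 P0 hz
      have : V.R P0 P0 = 1 := by nlinarith
      rw [this] at hR
      norm_num at hR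
  · exfalso
    have h8 : 8 ≤ m := by
      rw [hk]; exact le_trans (by norm_num) (Nat.pow_le_pow_right two_pos (by omega : 3 ≤ k + 2 + 1))
    have mm : ∀ n, 1 ≤ n → n ≤ 4 → n ∈ Ico 1 m := fun n a b => mem_Ico.2 ⟨a, by omega⟩
    obtain ⟨p, a, b, c, hpa, hpb, hpc, hab, hac, hbc, -, -, -, hthree⟩ :=
      CfsgLib.DihDefect.Vectors.third_pair h4 (hS 1 (mm 1 le_rfl (by omega))).1
        (hS 2 (mm 2 (by omega) (by omega))).1 (hS 1 (mm 1 le_rfl (by omega))).2.1
        (hS 2 (mm 2 (by omega) (by omega))).2.1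
        (hall 1 (mm 1 le_rfl (by omega)) 2 (mm 2 (by omega) (by omega)) (by omega)).2
    have m3 := mm 3 (by omega) (by omega)
    have m4 := mm 4 (by omega) le_rfl
    have h34 := (hall 3 m3 4 m4 (by omega)).2
    have o3 := hthree _ (hS 3 m3).1 (hS 3 m3).2.1
      (hall 1 (mm 1 le_rfl (by omega)) 3 m3 (by omega)).2
      (hall 2 (mm 2 (by omega) (by omega)) 3 m3 (by omega)).2
    have o4 := hthree _ (hS 4 m4).1 (hS 4 m4).2.1
      (hall 1 (mm 1 le_rfl (by omega)) 4 m4 (by omega)).2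
      (hall 2 (mm 2 (by omega) (by omega)) 4 m4 (by omega)).2
    obtain ⟨q, hq⟩ := card_eq_one.1 h34
    have qp := Finset.ext_iff.1 hq p
    have qa := Finset.ext_iff.1 hq a
    have qb := Finset.ext_iff.1 hq b
    have qc := Finset.ext_iff.1 hq c
    have qq := Finset.ext_iff.1 hq q
    rcases o3 with e3 | e3 <;> rcases o4 with e4 | e4 <;>
      simp only [e3, e4, mem_inter, mem_insert, mem_singleton] at qp qa qb qc qq <;> grind

/-- **The conclusions from the vectors.** -/
theorem main : V.zeros.card = 4 ∧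
    Fintype.card ι = 2 * m + 3 + (if V.two then 1 else 0) ∧
    (V.zerosᶜ.filter fun i => V.t i ^ 2 = 4).card = 2 * m - 1 ∧
    (∀ i ∈ V.zeros, V.t i ^ 2 = 1 ∧ V.s i ^ 2 = if V.two then 1 else 0) ∧
    ∀ i, i ∉ V.zeros → (V.t i ^ 2 = 4 ∧ V.s i = 0) ∨ (V.two ∧ V.t i = 0 ∧ V.s i ^ 2 = 4) := by
  obtain ⟨h4, hone, hzero⟩ := V.zeros_props
  have hm := V.two_le_m
  haveI : Nonempty ι := ⟨V.exists_zero.choose⟩
  choose! S x σ hS using fun (l : ℕ) (hl : l ∈ Ico 1 m) => V.shape hl
  obtain ⟨hinj, hSeq⟩ := V.shape_inj hS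
  obtain ⟨U, hUsub, hUcard, hU⟩ := V.card_odd
  set X := (Ico 1 m).image x with hX
  have hXcard : X.card = m - 1 := by rw [hX, card_image_of_injOn hinj, Nat.card_Ico]
  have hXsub : X ⊆ V.zerosᶜ := fun i hi => by
    obtain ⟨l, hl, rfl⟩ := mem_image.1 hi
    exact mem_compl.2 (hS l hl).2.2.1
  have hdisj : Disjoint X U := by
    rw [disjoint_left]
    intro u hu hu'
    obtain ⟨l, hl, rfl⟩ := mem_image.1 hu
    obtain ⟨j, hj, hj0⟩ := hU _ hu'
    have hg := V.gAC l hl j hj
    rw [sum_eq_single_of_mem (x l) (mem_univ _) fun i _ hi => by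
      rw [(hS l hl).2.2.2.2, if_neg hi, add_zero]
      split_ifs with h'
      · rw [V.C_zero hj ((hS l hl).1 h'), mul_zero]
      · rw [zero_mul], (hS l hl).2.2.2.2, if_pos rfl,
      if_neg (fun h' => (hS l hl).2.2.1 ((hS l hl).1 h')), zero_add] at hg
    rcases mul_eq_zero.1 hg with e | e
    · have := (hS l hl).2.2.2.1; rw [e] at this; norm_num at this
    · exact hj0 e
  have hlow : 2 * m - 1 ≤ V.zerosᶜ.card := by
    refine le_trans ?_ (card_le_card (union_subset hXsub hUsub))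
    rw [card_union_of_disjoint hdisj, hXcard]; omega
  have hcardι : Fintype.card ι = 4 + V.zerosᶜ.card := by rw [← h4, card_add_card_compl]
  have hposP : ∀ {i}, i ∉ V.zeros → ¬ V.zero i := fun hi h => hi (V.mem_zeros.2 h)
  have htsum := V.sum_split fun i => V.t i ^ 2
  rw [V.sum_t] at htsum
  have hZlow : ∀ i ∈ V.zeros, 1 ≤ V.t i ^ 2 := fun i hi =>
    one_le_sq (V.zero_odd i (V.mem_zeros.1 hi)).2.1
  have hZ4 : 4 ≤ ∑ i ∈ V.zeros, V.t i ^ 2 := by
    have := card_nsmul_le_sum _ (fun i => V.t i ^ 2) 1 hZlow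
    rw [h4, nsmul_one] at this; simpa using this
  -- the members whose first column is nonzero
  set T := V.zerosᶜ.filter fun i => V.t i ≠ 0 with hT
  have hT4 : ∀ i ∈ T, 4 ≤ V.t i ^ 2 := fun i hi => by
    obtain ⟨h1, h2⟩ := mem_filter.1 hi
    exact four_le_sq (V.pos_even i (hposP (mem_compl.1 h1))).1 h2
  have hTsum : ∑ i ∈ V.zerosᶜ, V.t i ^ 2 = ∑ i ∈ T, V.t i ^ 2 :=
    (sum_subset (filter_subset _ _) fun i hi hn => by
      rw [show V.t i = 0 from by_contra fun e => hn (mem_filter.2 ⟨hi, e⟩)]; rfl).symm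
  have hTle : (T.card : ℤ) ≤ 2 * m - 1 := by
    have := card_nsmul_le_sum T (fun i => V.t i ^ 2) 4 hT4
    rw [nsmul_eq_mul] at this
    linarith [hTsum]
  have hcompl : V.zerosᶜ.card ≤ T.card + (if V.two then 1 else 0) := by
    split_ifs with h2
    · obtain ⟨-, q, -, -, hq⟩ := V.s_props h2
      refine le_trans (card_le_card (t := insert q T) fun i hi => ?_) (card_insert_le _ _)
      by_cases e : i = q
      · exact mem_insert.2 (Or.inl e)
      · exact mem_insert_of_mem (mem_filter.2 ⟨hi, (V.pos_even i (hposP (mem_compl.1 hi))).2.2.resolve_right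
          (not_not.2 (hq i (mem_compl.1 hi) e))⟩)
    · rw [add_zero]
      exact card_le_card fun i hi => mem_filter.2 ⟨hi,
        (V.pos_even i (hposP (mem_compl.1 hi))).2.2.resolve_right (not_not.2 (V.s_zero h2 i))⟩
  -- the exact count
  have hcount : V.zerosᶜ.card = 2 * m - 1 + (if V.two then 1 else 0) := by
    by_cases h2 : V.two
    swap
    · rw [if_neg h2] at hcompl ⊢; omega
    rw [if_pos h2] at hcompl ⊢
    by_contra hne
    have heq : V.zerosᶜ.card = 2 * m - 1 := by omega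
    obtain ⟨hsZ, q, hqZ, hq4, hq⟩ := V.s_props h2
    have hq0 : V.s q ≠ 0 := fun e => by rw [e] at hq4; norm_num at hq4
    have hXU : X ∪ U = V.zerosᶜ := eq_of_subset_of_card_le (union_subset hXsub hUsub)
      (by rw [card_union_of_disjoint hdisj, hXcard]; omega)
    rcases mem_union.1 (hXU.symm ▸ mem_compl.2 hqZ : q ∈ X ∪ U) with hqX | hqU
    · obtain ⟨l, hl, rfl⟩ := mem_image.1 hqX
      have hsA : ∀ v : ι → ℤ, (∀ i, i ∉ V.zeros → i ≠ x l → v i = 0) → ∀ j ∈ Ico 1 m,
          ∑ i, v i * V.A j i = ∑ i ∈ S j, v i * V.A0 i + (if j = l then v (x l) * σ l else 0) := by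
        intro v hv j hj
        simp only [(hS j hj).2.2.2.2, mul_add, mul_ite, mul_zero, sum_add_distrib, sum_ite_mem,
          univ_inter, sum_ite_eq', mem_univ, if_true]
        congr 1
        split_ifs with e
        · subst e; rfl
        · rw [hv _ (hS j hj).2.2.1 fun e' => e (hinj hj hl e'), zero_mul]
      by_cases hm2 : m = 2
      · subst hm2
        obtain rfl : l = 1 := by simp only [mem_Ico] at hl; omega
        -- the first column
        have hUfull : ∀ u ∈ U, V.t u ≠ 0 := fun u hu e => by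
          have hne : u ≠ x 1 := fun e' => disjoint_left.1 hdisj hqX (e' ▸ hu)
          exact (V.pos_even u (hposP (mem_compl.1 (hUsub hu)))).2.2.elim (fun h => h e)
            fun h => h (hq u (mem_compl.1 (hUsub hu)) hne)
        have hUc : U.card = 2 := by
          have h1 : (X ∪ U).card = 3 := by rw [hXU, heq]
          rw [card_union_of_disjoint hdisj, hXcard] at h1; omega
        obtain ⟨u, v, huv, hUeq⟩ := card_eq_two.1 hUc
        rw [← hXU, sum_union hdisj, hUeq, sum_pair huv, show X = {x 1} from rfl, sum_singleton]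
          at htsum
        have heu := (V.pos_even u (hposP (mem_compl.1 (hUsub (hUeq ▸ by simp))))).1
        have hev := (V.pos_even v (hposP (mem_compl.1 (hUsub (hUeq ▸ by simp))))).1
        have htu := four_le_sq heu (hUfull u (hUeq ▸ by simp))
        have htv := four_le_sq hev (hUfull v (hUeq ▸ by simp))
        push_cast at htsum
        have hsq1 : ∀ i ∈ V.zeros, V.t i ^ 2 = 1 := by
          intro i hi
          obtain ⟨a, ha⟩ := (V.zero_odd i (V.mem_zeros.1 hi)).2.1
          by_contra hne1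
          have h9 : 9 ≤ V.t i ^ 2 := by
            rw [ha] at hne1 ⊢
            have ha0 : a ≠ 0 := fun e => hne1 (by rw [e]; ring)
            have ha1 : a ≠ -1 := fun e => hne1 (by rw [e]; ring)
            rcases (show 1 ≤ a ∨ a ≤ -2 by omega) with h' | h' <;> nlinarith
          have hrest : 3 ≤ ∑ j ∈ V.zeros.erase i, V.t j ^ 2 := by
            have := card_nsmul_le_sum (V.zeros.erase i) (fun j => V.t j ^ 2) 1 fun j hj =>
              hZlow j (mem_of_mem_erase hj)
            rw [card_erase_of_mem hi, h4, nsmul_one] at this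
            simpa using this
          rw [← add_sum_erase _ _ hi] at htsum
          nlinarith [sq_nonneg (V.t (x 1))]
        rw [sum_congr rfl hsq1, sum_const, h4] at htsum
        norm_num at htsum
        have hex := (V.pos_even (x 1) (hposP hqZ)).1
        have htx : V.t (x 1) ^ 2 = 4 := by
          by_cases e : V.t (x 1) = 0
          · exfalso
            obtain ⟨a, ha⟩ := heu
            obtain ⟨b, hb⟩ := hev
            rw [ha, hb, e] at htsum
            have h3 : a * a + b * b = 3 := by linarith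
            have ba : -1 ≤ a ∧ a ≤ 1 := ⟨by nlinarith, by nlinarith⟩
            have bb : -1 ≤ b ∧ b ≤ 1 := ⟨by nlinarith, by nlinarith⟩
            obtain ⟨a1, a2⟩ := ba
            obtain ⟨b1, b2⟩ := bb
            interval_cases a <;> interval_cases b <;> norm_num at h3
          · linarith [four_le_sq hex e]
        -- the two columns are proportional where both are nonzero
        obtain ⟨p, a, hpa, hS1⟩ := card_eq_two.1 (hS 1 hl).2.1
        have hSZ := (hS 1 hl).1
        have hcomp : (V.zeros \ S 1).card = 2 := by rw [card_sdiff_of_subset hSZ, h4, (hS 1 hl).2.1]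
        obtain ⟨b, c, hbc, hS'⟩ := card_eq_two.1 hcomp
        have hZsum : ∀ F : ι → ℤ, ∑ i ∈ V.zeros, F i = (F b + F c) + (F p + F a) := fun F => by
          rw [← sum_sdiff hSZ, hS', hS1, sum_pair hbc, sum_pair hpa]
        have rel : ∀ w : ι → ℤ, (∑ i, w i * V.A0 i = 0) → (∑ i, w i * V.A 1 i = 0) →
            (∀ i ∈ V.zeros, w i ^ 2 = 1) → w (x 1) ^ 2 = 4 →
            w p * V.A0 p + w a * V.A0 a + w (x 1) * σ 1 = 0 ∧
              w b * V.A0 b + w c * V.A0 c = w (x 1) * σ 1 ∧ w p * V.A0 p = w a * V.A0 a ∧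
              w b * V.A0 b = w c * V.A0 c := by
          intro w h0 h1 hw hwx
          rw [V.sum_split, hZsum, sum_eq_zero (s := V.zerosᶜ) fun i hi => by
            rw [hzero i (mem_compl.1 hi), mul_zero], add_zero] at h0
          simp only [(hS 1 hl).2.2.2.2, mul_add, mul_ite, mul_zero, sum_add_distrib, sum_ite_mem,
            univ_inter, sum_ite_eq', mem_univ, if_true] at h1
          rw [hS1, sum_pair hpa] at h1
          have hb' : w b * V.A0 b + w c * V.A0 c = w (x 1) * σ 1 := by linarith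
          refine ⟨h1, hb', ?_, ?_⟩
          all_goals
            have hsgn : ∀ i ∈ V.zeros, w i * V.A0 i = 1 ∨ w i * V.A0 i = -1 := fun i hi =>
              mul_self_eq_one_iff.1 (by
                linear_combination (V.A0 i * V.A0 i) * hw i hi + hone i hi)
            have h2' : (w (x 1) * σ 1) ^ 2 = 4 := by
              rw [mul_pow, hwx, sq, (hS 1 hl).2.2.2.1, mul_one]
            have hp' := hsgn p (hSZ (hS1 ▸ by simp))
            have ha' := hsgn a (hSZ (hS1 ▸ by simp))
            have hb2 := hsgn b (mem_sdiff.1 (hS' ▸ (by simp) : b ∈ V.zeros \ S 1)).1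
            have hc2 := hsgn c (mem_sdiff.1 (hS' ▸ (by simp) : c ∈ V.zeros \ S 1)).1
            generalize w p * V.A0 p = P at *
            generalize w a * V.A0 a = A' at *
            generalize w b * V.A0 b = B' at *
            generalize w c * V.A0 c = C' at *
            generalize w (x 1) * σ 1 = X' at *
            rcases hp' with rfl | rfl <;> rcases ha' with rfl | rfl <;>
              rcases hb2 with rfl | rfl <;> rcases hc2 with rfl | rfl <;>
              first | rfl | (exfalso; nlinarith)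
        obtain ⟨t1, t2, t3, t4⟩ := rel V.t V.t_orth.1 (V.t_orth.2 1 hl).1 hsq1 htx
        obtain ⟨s1, s2, s3, s4⟩ := rel V.s V.s_orth.1 (V.s_orth.2 1 hl).1 hsZ hq4
        have hst := (V.sum_s h2).2
        rw [V.sum_split, hZsum, ← hXU, sum_union hdisj, show X = {x 1} from rfl, sum_singleton,
          sum_eq_zero (s := U) fun i hi => by
            rw [hq i (mem_compl.1 (hUsub hi)) (fun e' => disjoint_left.1 hdisj hqX (e' ▸ hi)),
              zero_mul], add_zero] at hst
        have key : ∀ i ∈ V.zeros, V.s i * V.t i = V.s i * V.A0 i * (V.t i * V.A0 i) := fun i hi => by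
          linear_combination (-(V.s i * V.t i)) * hone i hi
        have hσ := (hS 1 hl).2.2.2.1
        rw [key b (mem_sdiff.1 (hS' ▸ (by simp) : b ∈ V.zeros \ S 1)).1,
          key c (mem_sdiff.1 (hS' ▸ (by simp) : c ∈ V.zeros \ S 1)).1,
          key p (hSZ (hS1 ▸ by simp)), key a (hSZ (hS1 ▸ by simp)),
          show V.s (x 1) * V.t (x 1) = V.s (x 1) * σ 1 * (V.t (x 1) * σ 1) by
            linear_combination (-(V.s (x 1) * V.t (x 1))) * hσ] at hst
        have n0 : V.s (x 1) * σ 1 * (V.t (x 1) * σ 1) ≠ 0 := by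
          refine mul_ne_zero (mul_ne_zero hq0 ?_) (mul_ne_zero (fun e => ?_) ?_)
          · intro e; rw [e] at hσ; norm_num at hσ
          · rw [e] at htx; norm_num at htx
          · intro e; rw [e] at hσ; norm_num at hσ
        generalize V.s p * V.A0 p = sp at *
        generalize V.s a * V.A0 a = sa at *
        generalize V.s b * V.A0 b = sb at *
        generalize V.s c * V.A0 c = sc at *
        generalize V.t p * V.A0 p = tp at *
        generalize V.t a * V.A0 a = ta at *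
        generalize V.t b * V.A0 b = tb at *
        generalize V.t c * V.A0 c = tc at *
        generalize V.s (x 1) * σ 1 = sx at *
        generalize V.t (x 1) * σ 1 = tx at *
        subst t3 t4 s3 s4
        exact n0 (by
          have e1 : tx = -2 * tp := by linarith
          have e2 : sx = -2 * sp := by linarith
          have e3 : tb = -tp := by linarith
          have e4 : sb = -sp := by linarith
          rw [e1, e2, e3, e4] at hst
          rw [e1, e2]; linarith)
      · obtain ⟨k, hk⟩ := V.hm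
        obtain ⟨j, hj, hjl⟩ : ∃ j ∈ Ico 1 m, j ≠ l := by
          by_cases e : l = 1
          · exact ⟨2, mem_Ico.2 ⟨by omega, by omega⟩, by omega⟩
          · exact ⟨1, V.one_mem, fun h => e h.symm⟩
        have h1 := hsA V.s (fun i hi hne => hq i hi hne) j hj
        have h2' := hsA V.s (fun i hi hne => hq i hi hne) l hl
        rw [(V.s_orth.2 j hj).1, if_neg hjl, hSeq j hj l hl hjl] at h1
        rw [(V.s_orth.2 l hl).1, if_pos rfl] at h2'
        refine mul_ne_zero hq0 (fun e => ?_) (show V.s (x l) * σ l = 0 by linarith)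
        have := (hS l hl).2.2.2.1; rw [e] at this; norm_num at this
    · obtain ⟨j, hj, hj0⟩ := hU q hqU
      have ho := (V.s_orth.2 j hj).2
      rw [sum_eq_single_of_mem q (mem_univ _) fun i _ hi => by
        by_cases hiZ : i ∈ V.zeros
        · rw [V.C_zero hj hiZ, mul_zero]
        · rw [hq i hiZ hi, zero_mul]] at ho
      exact mul_ne_zero hq0 hj0 ho
  -- the bounds are attained
  have hTeq : T.card = 2 * m - 1 := by
    rw [hcount] at hcompl; omega
  have hexT : ∑ i ∈ T, (V.t i ^ 2 - 4) = 0 ∧ ∑ i ∈ V.zeros, (V.t i ^ 2 - 1) = 0 := by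
    simp only [sum_sub_distrib, sum_const, nsmul_eq_mul, mul_one, h4, hTeq]
    have e : ((2 * m - 1 : ℕ) : ℤ) = 2 * m - 1 := by rw [Nat.cast_sub (by omega)]; push_cast; ring
    rw [e]; push_cast
    have h5 := card_nsmul_le_sum T (fun i => V.t i ^ 2) 4 hT4
    rw [nsmul_eq_mul, hTeq, e] at h5
    constructor <;> linarith [hTsum]
  have hTv : ∀ i ∈ T, V.t i ^ 2 = 4 := fun i hi => by
    linarith [(sum_eq_zero_iff_of_nonneg fun j hj => sub_nonneg.2 (hT4 j hj)).1 hexT.1 i hi]
  have hTfilter : (V.zerosᶜ.filter fun i => V.t i ^ 2 = 4) = T := by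
    ext i
    simp only [hT, mem_filter]
    exact and_congr_right fun hi => ⟨fun e e0 => by rw [e0] at e; norm_num at e,
      fun h => hTv i (mem_filter.2 ⟨hi, h⟩)⟩
  refine ⟨h4, by rw [hcardι, hcount]; omega, hTfilter ▸ hTeq, fun i hi => ⟨?_, ?_⟩, fun i hi => ?_⟩
  · linarith [(sum_eq_zero_iff_of_nonneg fun j hj => sub_nonneg.2 (hZlow j hj)).1 hexT.2 i hi]
  · split_ifs with h2
    · exact (V.s_props h2).1 i hi
    · rw [V.s_zero h2 i]; rfl
  · by_cases hti : V.t i = 0
    · have hsi := (V.pos_even i (hposP hi)).2.2.resolve_left (not_not.2 hti)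
      have h2 : V.two := by_contra fun h => hsi (V.s_zero h i)
      obtain ⟨-, q, -, hq4, hq⟩ := V.s_props h2
      exact Or.inr ⟨h2, hti, by rw [show i = q from by_contra fun e => hsi (hq i hi e), hq4]⟩
    · refine Or.inl ⟨hTv i (mem_filter.2 ⟨mem_compl.2 hi, hti⟩), ?_⟩
      by_cases h2 : V.two
      · obtain ⟨-, q, hqZ, -, hq⟩ := V.s_props h2
        refine hq i hi fun e => ?_
        subst e
        -- every member outside but `i` has a nonzero first column, so all of them do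
        have hall : V.zerosᶜ ⊆ T := fun j hj => by
          by_cases e : j = i
          · exact mem_filter.2 ⟨hj, e ▸ hti⟩
          · exact mem_filter.2 ⟨hj, (V.pos_even j (hposP (mem_compl.1 hj))).2.2.resolve_right
              (not_not.2 (hq j (mem_compl.1 hj) e))⟩
        have := card_le_card hall
        rw [hcount, hTeq, if_pos h2] at this
        omega
      · exact V.s_zero h2 i

end Data

end CfsgLib.SDDefect.Vectors
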