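import Cfsg.Agent.BlocksB.SemidihedralDefect.Reps
import Cfsg.Agent.BlocksB.SemidihedralDefect.Orbits
import Cfsg.Agent.BlocksB.SemidihedralDefect.Vectors

/-!
# A block with semidihedral defect group: the integral vectors of the rotations
-/

set_option autoImplicit false
set_option linter.style.haveILetI false
set_option linter.unusedSectionVars false

namespace CfsgLib.SDDefect

open Cfsg Finset CfsgLib.Block CfsgLib.Block.Chr CfsgLib.BrauerPairs CfsgLib.BlockStar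
  CfsgLib.BlockB
open CfsgLib.QuatDefect (Fus exists_sub)
open CfsgLib.DihDefect (om om_spec sum_om)
open scoped ComplexConjugate
open scoped Classical

universe u

/-- Pairs of exponents in the same orbit. -/
def kK (h x y : ℕ) : ℤ := (if x = y then 1 else 0) + (if x = sw h y then 1 else 0)

theorem kK_zero {h y : ℕ} (h2 : 2 ∣ h) (hh : 0 < h) (hy : y < 2 * h) :
    kK h 0 y = if y = 0 then 2 else 0 := by
  rw [kK]
  simp only [eq_comm (a := (0 : ℕ)), sw_zero_iff h2 hh hy]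
  split_ifs <;> rfl

theorem kK_half {h y : ℕ} (h2 : 2 ∣ h) (hh : 0 < h) (hy : y < 2 * h) :
    kK h h y = if y = h then 2 else 0 := by
  rw [kK]
  simp only [eq_comm (a := h), sw_half_iff h2 hh hy]
  split_ifs <;> rfl

theorem kK_comm {h x y : ℕ} (h2 : 2 ∣ h) (hh : 0 < h) (hx : x < 2 * h) (hy : y < 2 * h) :
    kK h x y = kK h y x := by
  have h1 : x = sw h y ↔ y = sw h x :=
    ⟨fun e1 => by rw [e1, sw_sw h2 hh hy], fun e1 => by rw [e1, sw_sw h2 hh hx]⟩
  rw [kK, kK]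
  simp only [eq_comm (a := x) (b := y), h1]

/-- The character sums. -/
theorem sum_om_conj {h : ℕ} (hh : 0 < h) {a b : ℕ} (ha : a < 2 * h) (hb : b < 2 * h) :
    ∑ i ∈ range (2 * h), om h ^ (i * a) * conj (om h ^ (i * b)) =
      if a = b then ((2 * h : ℕ) : ℂ) else 0 := by
  have hω := om_spec hh
  have hconj : ∀ i, conj (om h ^ (i * b)) = om h ^ (i * (2 * h - b)) := fun i => by
    have hu : ‖om h‖ = 1 := hω.norm'_eq_one (by omega)
    rw [← Complex.inv_eq_conj (by rw [norm_pow, hu, one_pow])]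
    refine inv_eq_of_mul_eq_one_right ?_
    rw [← pow_add, ← Nat.mul_add, Nat.add_sub_cancel' hb.le, mul_comm i, pow_mul, hω.pow_eq_one,
      one_pow]
  simp only [hconj, ← pow_add, ← Nat.mul_add, sum_om hh]
  refine if_congr ⟨fun hd => ?_, fun e1 => ?_⟩ rfl rfl
  · obtain ⟨c, hc⟩ := hd
    rcases Nat.lt_or_ge c 2 with h2 | h2
    · interval_cases c <;> omega
    · have := Nat.mul_le_mul_left (2 * h) h2
      omega
  · rw [e1, Nat.add_sub_cancel' hb.le]

theorem om_sw {h : ℕ} (hh : 0 < h) (i j : ℕ) :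
    om h ^ (sw h i * j) = om h ^ (i * sw h j) := by
  have hω := om_spec hh
  rw [pow_eq_pow_mod (sw h i * j) hω.pow_eq_one, pow_eq_pow_mod (i * sw h j) hω.pow_eq_one]
  congr 1
  refine ((sw_modEq h i).mul_right j).trans (Nat.ModEq.symm (((sw_modEq h j).mul_left i).trans ?_))
  rw [mul_left_comm, mul_assoc]

variable {M : Ideal AlgInt} [M.IsPrime] [Fact (Nat.Prime 2)] [CharP (Residue M) 2]
  {G : Type u} [Group G] [Fintype G]

local notation "𝕜" => Residue M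
local notation "Z[" x "]" => Subgroup.zpowers x
local notation "C[" Q "]" => Subgroup.centralizer (SetLike.coe Q)

variable {B : Set (IrrCharacter G)} {D : Subgroup G} {e : MonoidAlgebra (Residue M) G}
  {σ τ : G} {h : ℕ} {S : SDData (M := M) B D e σ τ h} {av : IrrCharacter G → ℕ → ℂ}

namespace RotVals

variable (V : RotVals S av)
include V

/-- The multiplicities. -/
noncomputable def N (V : RotVals S av) (χ : IrrCharacter G) (j : ℕ) : ℤ := (V.coeff χ j).choose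

/-- The top vector of the even rotations. -/
noncomputable def A0 (V : RotVals S av) (χ : IrrCharacter G) : ℤ := V.N χ 0 - V.N χ h

/-- The vectors of the even rotations. -/
noncomputable def A (V : RotVals S av) (l : ℕ) (χ : IrrCharacter G) : ℤ :=
  V.N χ (2 * l) - V.N χ h

/-- The vectors of the odd rotations. -/
noncomputable def C (V : RotVals S av) (l : ℕ) (χ : IrrCharacter G) : ℤ :=
  V.N χ (rr (h / 2) l) - V.N χ 1

theorem N_spec (χ : IrrCharacter G) (j : ℕ) :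
    ∑ i ∈ range (2 * h), av χ i * om h ^ (i * j) = ((2 * h : ℕ) : ℂ) * (V.N χ j : ℂ) :=
  (V.coeff χ j).choose_spec

theorem two_h_ne : ((2 * h : ℕ) : ℂ) ≠ 0 := Nat.cast_ne_zero.2 (by have := S.h_pos; omega)

theorem N_sw (χ : IrrCharacter G) (j : ℕ) : V.N χ (sw h j) = V.N χ j := by
  have hh := S.h_pos
  have h2 := S.h_even
  have key : ∑ i ∈ range (2 * h), av χ i * om h ^ (i * sw h j) =
      ∑ i ∈ range (2 * h), av χ i * om h ^ (i * j) := by
    refine sum_bij' (fun i _ => sw h i) (fun i _ => sw h i)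
      (fun i _ => mem_range.2 (sw_lt hh i)) (fun i _ => mem_range.2 (sw_lt hh i))
      (fun i hi => sw_sw h2 hh (mem_range.1 hi)) (fun i hi => sw_sw h2 hh (mem_range.1 hi))
      fun i hi => ?_
    rw [V.symm χ i (mem_range.1 hi), om_sw hh]
  rw [V.N_spec, V.N_spec] at key
  exact_mod_cast mul_left_cancel₀ V.two_h_ne key

theorem av_symm' (χ : IrrCharacter G) {i : ℕ} (hi : i < 2 * h) (hi0 : i ≠ 0) (hih : i ≠ h) :
    ∃ i₀ ∈ rotIdx h, (i₀ = i ∨ i₀ = sw h i) ∧ ∀ ψ, av ψ i₀ = av ψ i := by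
  rcases Nat.lt_or_ge i (sw h i) with h1 | h1
  · exact ⟨i, mem_rotIdx.2 ⟨hi, hi0, hih, h1⟩, Or.inl rfl, fun _ => rfl⟩
  · refine ⟨sw h i, mem_rotIdx.2 ⟨sw_lt S.h_pos i,
      fun e1 => hi0 ((sw_zero_iff S.h_even S.h_pos hi).1 e1),
      fun e1 => hih ((sw_half_iff S.h_even S.h_pos hi).1 e1), ?_⟩, Or.inr rfl,
      fun ψ => V.symm ψ i hi⟩
    have := sw_ne S.four_dvd S.h_pos hi hi0 hih
    rw [sw_sw S.h_even S.h_pos hi]
    omega

theorem contrib_rep (χ ψ : IrrCharacter G) {i : ℕ} (hi : i ∈ rotIdx h) :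
    contribR 2 χ ψ (σ ^ i) (subBlk 2 D e (σ ^ i)) =
      av χ i * conj (av ψ i) * ((2 * h : ℕ) : ℂ)⁻¹ := by
  obtain ⟨h1, h2, h3, -⟩ := mem_rotIdx.1 hi
  exact V.contrib χ ψ i h1 h2 h3

theorem av_ne_zero {χ : IrrCharacter G} (hχ : χ ∈ B) (h0 : blockHeight 2 B (χ : G → ℂ) = 0)
    {i : ℕ} (hi : i < 2 * h) (hi0 : i ≠ 0) (hih : i ≠ h) : av χ i ≠ 0 := fun e1 => by
  refine contribR_ne_zero S.hM S.hB hχ h0 S.hmax (S.pow_mem_D i) ?_
  rw [V.contrib χ χ i hi hi0 hih, e1, zero_mul, zero_mul]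

variable [Fintype B]

theorem sum_av_aux {i : ℕ} (hi : i ∈ rotIdx h) {v : G} (hv : v ∈ S.reps) (hne : v ≠ σ ^ i)
    (χ : B) : ∑ ψ : B, contribR 2 χ.1 ψ.1 v (subBlk 2 D e v) * av ψ.1 i = 0 := by
  obtain ⟨φ, hφ, h0⟩ := exists_height_zero S.hM S.hB
  obtain ⟨h1, h2, h3, -⟩ := mem_rotIdx.1 hi
  have h4 := S.isReps.contrib_orth S.hM S.hB S.hmax hv (S.rot_mem_reps hi) hne χ ⟨φ, hφ⟩
  simp only [V.contrib_rep _ _ hi, ← mul_assoc] at h4
  rw [← sum_mul, ← sum_mul, mul_eq_zero, mul_eq_zero] at h4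
  rcases h4 with (h5 | h5) | h5
  · exact h5
  · exact absurd ((map_eq_zero (starRingEnd ℂ)).1 h5) (V.av_ne_zero hφ h0 h1 h2 h3)
  · exact absurd h5 (inv_ne_zero V.two_h_ne)

theorem sum_reg_av {i : ℕ} (hi : i < 2 * h) (hi0 : i ≠ 0) (hih : i ≠ h) (χ : B) :
    ∑ ψ : B, regMat 2 B χ ψ * av ψ.1 i = 0 := by
  obtain ⟨i₀, hmem, -, heq⟩ := V.av_symm' χ.1 hi hi0 hih
  obtain ⟨φ, hφ, h0⟩ := exists_height_zero S.hM S.hB
  obtain ⟨h1, h2, h3, -⟩ := mem_rotIdx.1 hmem
  have h4 := S.isReps.reg_orth S.hM S.hB S.hmax (S.rot_mem_reps hmem) χ ⟨φ, hφ⟩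
  simp only [V.contrib_rep _ _ hmem, ← mul_assoc] at h4
  rw [← sum_mul, ← sum_mul, mul_eq_zero, mul_eq_zero] at h4
  rcases h4 with (h5 | h5) | h5
  · simpa only [heq] using h5
  · exact absurd ((map_eq_zero (starRingEnd ℂ)).1 h5) (V.av_ne_zero hφ h0 h1 h2 h3)
  · exact absurd h5 (inv_ne_zero V.two_h_ne)

/-- **The values at the rotations are orthogonal.** -/
theorem sum_av {i j : ℕ} (hi : i < 2 * h) (hi0 : i ≠ 0) (hih : i ≠ h) (hj : j < 2 * h)
    (hj0 : j ≠ 0) (hjh : j ≠ h) :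
    ∑ χ : B, av χ.1 i * conj (av χ.1 j) =
      ((2 * h : ℕ) : ℂ) * ((if j = i then 1 else 0) + (if j = sw h i then 1 else 0)) := by
  obtain ⟨φ, hφ, h0⟩ := exists_height_zero S.hM S.hB
  obtain ⟨i₀, hi₀, hic, hieq⟩ := V.av_symm' φ hi hi0 hih
  obtain ⟨j₀, hj₀, hjc, hjeq⟩ := V.av_symm' φ hj hj0 hjh
  obtain ⟨g1, g2, g3, g4⟩ := mem_rotIdx.1 hi₀
  have hi2 := sw_sw S.h_even S.h_pos hi
  have hj2 := sw_sw S.h_even S.h_pos hj
  have hne := sw_ne S.four_dvd S.h_pos hi hi0 hih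
  simp only [← hieq, ← hjeq]
  by_cases heq : i₀ = j₀
  · subst heq
    have hij : j = i ∨ j = sw h i := by
      rcases hic with rfl | rfl <;> rcases hjc with e1 | e1
      · exact Or.inl e1.symm
      · exact Or.inr (by rw [e1, hj2])
      · exact Or.inr e1.symm
      · exact Or.inl (by rw [← hi2, e1, hj2])
    have hR : ((if j = i then 1 else 0) + (if j = sw h i then 1 else 0) : ℂ) = 1 := by
      rcases hij with e1 | e1
      · rw [if_pos e1, if_neg (e1 ▸ hne.symm), add_zero]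
      · rw [if_neg (e1 ▸ hne), if_pos e1, zero_add]
    rw [hR, mul_one]
    have h4 := CfsgLib.QuatDefect.contribR_idem S.hM S.hB S.hmax (S.pow_mem_D i₀) φ φ
    simp only [V.contrib_rep _ _ hi₀] at h4
    have ha := V.av_ne_zero hφ h0 g1 g2 g3
    have hca : conj (av φ i₀) ≠ 0 := fun e1 => ha ((map_eq_zero (starRingEnd ℂ)).1 e1)
    refine mul_left_cancel₀ (mul_ne_zero (mul_ne_zero (mul_ne_zero ha hca)
      (inv_ne_zero V.two_h_ne)) (inv_ne_zero V.two_h_ne)) ?_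
    rw [mul_sum, mul_assoc _ _ ((2 * h : ℕ) : ℂ), inv_mul_cancel₀ V.two_h_ne, mul_one]
    refine Eq.trans ?_ h4
    exact sum_congr rfl fun ψ _ => by ring
  · have hR : ((if j = i then 1 else 0) + (if j = sw h i then 1 else 0) : ℂ) = 0 := by
      rw [if_neg, if_neg, add_zero] <;> intro e1 <;> apply heq
      · have e2 : sw h j = i := by rw [e1, hi2]
        rcases hic with rfl | rfl <;> rcases hjc with rfl | rfl <;>
          (have := (mem_rotIdx.1 hj₀).2.2.2; omega)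
      · rcases hic with rfl | rfl <;> rcases hjc with rfl | rfl <;> subst e1 <;>
          (have := (mem_rotIdx.1 hj₀).2.2.2; omega)
    rw [hR, mul_zero]
    have h4 := V.sum_av_aux hi₀ (S.rot_mem_reps hj₀)
      (fun e1 => heq (S.pow_inj (mem_rotIdx.1 hi₀).1 (mem_rotIdx.1 hj₀).1 e1.symm)) ⟨φ, hφ⟩
    obtain ⟨k1, k2, k3, -⟩ := mem_rotIdx.1 hj₀
    simp only [V.contrib_rep _ _ hj₀] at h4
    refine (mul_eq_zero.1 (show av φ j₀ * ((2 * h : ℕ) : ℂ)⁻¹ *
      (∑ χ : B, av χ.1 i₀ * conj (av χ.1 j₀)) = 0 from ?_)).resolve_left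
        (mul_ne_zero (V.av_ne_zero hφ h0 k1 k2 k3) (inv_ne_zero V.two_h_ne))
    rw [mul_sum, ← h4]
    exact sum_congr rfl fun ψ _ => by ring

/-- **The Gram matrix of the differences of multiplicities.** -/
theorem gram_diff {a b a' b' : ℕ} (ha : a < 2 * h) (hb : b < 2 * h) (ha' : a' < 2 * h)
    (hb' : b' < 2 * h) (hab : a % 2 = b % 2) (hab' : a' % 2 = b' % 2) :
    ∑ χ : B, (V.N χ.1 a - V.N χ.1 b) * (V.N χ.1 a' - V.N χ.1 b') =
      kK h a a' - kK h a b' - kK h b a' + kK h b b' := by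
  have hh := S.h_pos
  have hω := om_spec hh
  have hhalf : ∀ x y : ℕ, x % 2 = y % 2 → om h ^ (h * x) = om h ^ (h * y) := fun x y hxy => by
    have h2 : (om h ^ h) ^ 2 = 1 := by rw [← pow_mul, mul_comm h, hω.pow_eq_one]
    rw [pow_mul, pow_mul, pow_eq_pow_mod x h2, pow_eq_pow_mod y h2, hxy]
  set c : ℕ → ℂ := fun i => om h ^ (i * a) - om h ^ (i * b) with hc
  set d : ℕ → ℂ := fun i => conj (om h ^ (i * a') - om h ^ (i * b')) with hd
  have hc0 : c 0 = 0 ∧ c h = 0 := ⟨by simp [hc], by simp [hc, hhalf a b hab]⟩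
  have hd0 : d 0 = 0 ∧ d h = 0 := ⟨by simp [hd], by
    simp only [hd]; rw [hhalf a' b' hab', sub_self, map_zero]⟩
  set H : ℂ := ((2 * h : ℕ) : ℂ) with hH
  have key : ∀ i ∈ range (2 * h),
      ∑ i' ∈ range (2 * h), c i * d i' * ∑ χ : B, av χ.1 i * conj (av χ.1 i') =
        H * (c i * (d i + d (sw h i))) := by
    intro i hi
    have hlt := mem_range.1 hi
    by_cases hi0 : i = 0
    · subst hi0; simp [hc0.1]
    by_cases hih : i = h
    · subst hih; simp [hc0.2]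
    rw [sum_congr rfl fun i' hi' => show c i * d i' * ∑ χ : B, av χ.1 i * conj (av χ.1 i') =
        c i * d i' * (H * ((if i' = i then 1 else 0) + (if i' = sw h i then 1 else 0))) from ?_]
    · simp only [mul_add, mul_ite, mul_one, mul_zero, sum_add_distrib, sum_ite_eq', hi,
        mem_range.2 (sw_lt hh i), if_true]
      ring
    · by_cases h0' : i' = 0
      · subst h0'; simp [hd0.1]
      by_cases hh' : i' = h
      · subst hh'; simp [hd0.2]
      rw [V.sum_av hlt hi0 hih (mem_range.1 hi') h0' hh']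
  have hsum : ∀ x y : ℕ, x < 2 * h → y < 2 * h →
      ∑ i ∈ range (2 * h), om h ^ (i * x) * (conj (om h ^ (i * y)) + conj (om h ^ (sw h i * y))) =
        H * (kK h x y : ℂ) := by
    intro x y hx hy
    simp only [mul_add, sum_add_distrib, om_sw hh]
    rw [sum_om_conj hh hx hy, sum_om_conj hh hx (sw_lt hh y), kK, hH]
    push_cast
    split_ifs <;> ring
  have h1 : H * (H * ((∑ χ : B, (V.N χ.1 a - V.N χ.1 b) * (V.N χ.1 a' - V.N χ.1 b') : ℤ) : ℂ)) =
      H * (H * ((kK h a a' - kK h a b' - kK h b a' + kK h b b' : ℤ) : ℂ)) := by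
    push_cast
    rw [mul_sum, mul_sum]
    calc ∑ χ : B, H * (H * (((V.N χ.1 a : ℂ) - V.N χ.1 b) * ((V.N χ.1 a' : ℂ) - V.N χ.1 b')))
        = ∑ χ : B, ∑ i ∈ range (2 * h), ∑ i' ∈ range (2 * h),
            c i * d i' * (av χ.1 i * conj (av χ.1 i')) := by
          refine sum_congr rfl fun χ _ => ?_
          have e1 : H * ((V.N χ.1 a : ℂ) - V.N χ.1 b) = ∑ i ∈ range (2 * h), c i * av χ.1 i := by
            rw [mul_sub, hH, ← V.N_spec, ← V.N_spec, ← sum_sub_distrib]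
            exact sum_congr rfl fun i _ => by simp only [hc]; ring
          have e2 : H * ((V.N χ.1 a' : ℂ) - V.N χ.1 b') =
              ∑ i ∈ range (2 * h), d i * conj (av χ.1 i) := by
            have e3 : H * ((V.N χ.1 a' : ℂ) - V.N χ.1 b') =
                conj (∑ i ∈ range (2 * h), (om h ^ (i * a') - om h ^ (i * b')) * av χ.1 i) := by
              simp only [sub_mul, sum_sub_distrib, mul_comm (om h ^ _), V.N_spec, map_sub, map_mul,
                map_natCast, map_intCast, hH, mul_sub]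
            rw [e3, map_sum]
            exact sum_congr rfl fun i _ => by rw [map_mul]
          rw [show H * (H * (((V.N χ.1 a : ℂ) - V.N χ.1 b) * ((V.N χ.1 a' : ℂ) - V.N χ.1 b'))) =
            (H * ((V.N χ.1 a : ℂ) - V.N χ.1 b)) * (H * ((V.N χ.1 a' : ℂ) - V.N χ.1 b')) by ring,
            e1, e2, sum_mul_sum]
          exact sum_congr rfl fun i _ => sum_congr rfl fun i' _ => by ring
      _ = ∑ i ∈ range (2 * h), H * (c i * (d i + d (sw h i))) := by
          rw [sum_comm]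
          refine sum_congr rfl fun i hi => ?_
          rw [sum_comm, ← key i hi]
          exact sum_congr rfl fun i' _ => (mul_sum _ _ _).symm
      _ = _ := by
          rw [← mul_sum]
          congr 1
          simp only [mul_sub, mul_add, ← hsum _ _ ha ha', ← hsum _ _ ha hb', ← hsum _ _ hb ha',
            ← hsum _ _ hb hb', ← sum_sub_distrib, ← sum_add_distrib]
          refine sum_congr rfl fun i _ => ?_
          simp only [hc, hd, map_sub]
          ring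
  exact_mod_cast mul_left_cancel₀ V.two_h_ne (mul_left_cancel₀ V.two_h_ne h1)

omit [Fintype B] in
theorem m_facts : h = 2 * (h / 2) ∧ 2 ∣ h / 2 ∧ 2 ≤ h / 2 ∧ rr (h / 2) 0 = 1 := by
  have h1 := S.h_two
  obtain ⟨c, hc⟩ := S.four_dvd
  have := S.four_le
  exact ⟨h1, ⟨c, by omega⟩, by omega, rr_zero (by omega)⟩

theorem gram_A0 : ∑ χ : B, V.A0 χ.1 ^ 2 = 4 := by
  have hh := S.h_pos
  simp only [sq, A0]
  rw [V.gram_diff (a := 0) (b := h) (a' := 0) (b' := h) (by omega) (by omega) (by omega) (by omega)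
    (by obtain ⟨c, hc⟩ := S.h_even; omega) (by obtain ⟨c, hc⟩ := S.h_even; omega),
    kK_zero S.h_even hh (by omega), kK_zero S.h_even hh (by omega),
    kK_half S.h_even hh (by omega), kK_half S.h_even hh (by omega),
    if_pos rfl, if_pos rfl, if_neg (by omega), if_neg (by omega)]
  norm_num

theorem kK_even {l j : ℕ} (hl : l ∈ Ico 1 (h / 2)) (hj : j ∈ Ico 1 (h / 2)) :
    kK h (2 * l) (2 * j) = if l = j then 1 else 0 := by
  obtain ⟨h1, h2⟩ := mem_Ico.1 hl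
  obtain ⟨h3, h4⟩ := mem_Ico.1 hj
  rw [kK, sw_even S.h_even h3 (by omega), if_neg (show ¬ 2 * l = 2 * h - 2 * j by omega), add_zero]
  exact if_congr (by omega) rfl rfl

theorem gram_A0A {l : ℕ} (hl : l ∈ Ico 1 (h / 2)) : ∑ χ : B, V.A0 χ.1 * V.A l χ.1 = 2 := by
  have hh := S.h_pos
  have h2 := S.h_even
  obtain ⟨h3, h4⟩ := mem_Ico.1 hl
  simp only [A0, A]
  rw [V.gram_diff (a := 0) (b := h) (a' := 2 * l) (b' := h) (by omega) (by omega) (by omega)
    (by omega) (by omega) (by omega), kK_zero h2 hh (by omega), kK_zero h2 hh (by omega),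
    kK_half h2 hh (by omega), kK_half h2 hh (by omega), if_pos rfl, if_neg (by omega),
    if_neg (by omega), if_neg (by omega)]
  norm_num

theorem gram_AA {l j : ℕ} (hl : l ∈ Ico 1 (h / 2)) (hj : j ∈ Ico 1 (h / 2)) :
    ∑ χ : B, V.A l χ.1 * V.A j χ.1 = 2 + (if l = j then 1 else 0) := by
  have hh := S.h_pos
  have h2 := S.h_even
  have hK := V.kK_even hl hj
  obtain ⟨h3, h4⟩ := mem_Ico.1 hl
  obtain ⟨h5, h6⟩ := mem_Ico.1 hj
  simp only [A]
  rw [V.gram_diff (a := 2 * l) (b := h) (a' := 2 * j) (b' := h) (by omega) (by omega) (by omega)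
    (by omega) (by omega) (by omega), hK, kK_comm h2 hh (show 2 * l < 2 * h by omega) (show h < 2 * h by omega),
    kK_half h2 hh (show 2 * l < 2 * h by omega), kK_half h2 hh (show 2 * j < 2 * h by omega),
    kK_half h2 hh (show h < 2 * h by omega), if_pos rfl, if_neg (show ¬ 2 * l = h by omega),
    if_neg (show ¬ 2 * j = h by omega)]
  ring

theorem kK_rr {l j : ℕ} (hl : l < h / 2) (hj : j < h / 2) :
    kK h (rr (h / 2) l) (rr (h / 2) j) = if l = j then 1 else 0 := by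
  obtain ⟨e1, e2, -, -⟩ := V.m_facts
  obtain ⟨i1, i2⟩ := rr_inj e2 hl hj
  rw [← e1] at i2
  rw [kK, if_neg i2, add_zero]
  exact if_congr i1 rfl rfl

omit [Fintype B] in
theorem rr_bound {l : ℕ} (hl : l < h / 2) : rr (h / 2) l < 2 * h ∧ rr (h / 2) l % 2 = 1 := by
  obtain ⟨e1, e2, -, -⟩ := V.m_facts
  obtain ⟨h1, h2⟩ := rr_props e2 hl
  exact ⟨by omega, Nat.odd_iff.1 h2⟩

theorem gram_CC {l j : ℕ} (hl : l ∈ Ico 1 (h / 2)) (hj : j ∈ Ico 1 (h / 2)) :
    ∑ χ : B, V.C l χ.1 * V.C j χ.1 = 1 + (if l = j then 1 else 0) := by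
  obtain ⟨-, -, e3, e4⟩ := V.m_facts
  obtain ⟨h3, h4⟩ := mem_Ico.1 hl
  obtain ⟨h5, h6⟩ := mem_Ico.1 hj
  have h0 : 0 < h / 2 := by omega
  obtain ⟨b1, b2⟩ := V.rr_bound h4
  obtain ⟨c1, c2⟩ := V.rr_bound h6
  simp only [C, ← e4]
  obtain ⟨d1, d2⟩ := V.rr_bound h0
  rw [V.gram_diff b1 d1 c1 d1 (by omega) (by omega), V.kK_rr h4 h6, V.kK_rr h4 h0, V.kK_rr h0 h6,
    V.kK_rr h0 h0, if_pos rfl, if_neg (by omega : ¬ l = 0), if_neg (by omega : ¬ 0 = j)]
  ring

theorem kK_parity {x y : ℕ} (hx : x % 2 = 0) (hy : y % 2 = 1) : kK h x y = 0 := by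
  obtain ⟨e1, e2, -, -⟩ := V.m_facts
  have h1 : sw h y % 2 = 1 := by
    obtain ⟨c, hc⟩ := S.h_even
    have := S.h_pos
    have h2 : sw h y % 2 = ((h - 1) * y) % 2 := by
      rw [sw, Nat.mod_mod_of_dvd _ (dvd_mul_right 2 h)]
    rw [h2, Nat.mul_mod, hy, show (h - 1) % 2 = 1 by omega]
  rw [kK, if_neg (by omega), if_neg (by omega), add_zero]

theorem gram_even_odd {a b : ℕ} (ha : a < 2 * h) (hb : b < 2 * h) (ha2 : a % 2 = 0)
    (hb2 : b % 2 = 0) {j : ℕ} (hj : j ∈ Ico 1 (h / 2)) :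
    ∑ χ : B, (V.N χ.1 a - V.N χ.1 b) * V.C j χ.1 = 0 := by
  obtain ⟨-, -, e3, -⟩ := V.m_facts
  obtain ⟨c1, c2⟩ := V.rr_bound (mem_Ico.1 hj).2
  have := S.h_pos
  simp only [C]
  rw [V.gram_diff ha hb c1 (show 1 < 2 * h by omega) (by omega) (by omega), V.kK_parity ha2 c2,
    V.kK_parity ha2 rfl, V.kK_parity hb2 c2, V.kK_parity hb2 rfl]
  norm_num

theorem gram_A0C {j : ℕ} (hj : j ∈ Ico 1 (h / 2)) : ∑ χ : B, V.A0 χ.1 * V.C j χ.1 = 0 := by
  have := S.h_pos
  obtain ⟨c, hc⟩ := S.h_even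
  exact V.gram_even_odd (a := 0) (b := h) (by omega) (by omega) rfl (by omega) hj

theorem gram_AC {l j : ℕ} (hl : l ∈ Ico 1 (h / 2)) (hj : j ∈ Ico 1 (h / 2)) :
    ∑ χ : B, V.A l χ.1 * V.C j χ.1 = 0 := by
  have := S.h_pos
  obtain ⟨c, hc⟩ := S.h_even
  obtain ⟨h3, h4⟩ := mem_Ico.1 hl
  exact V.gram_even_odd (a := 2 * l) (b := h) (by omega) (by omega) (by omega) (by omega) hj

/-- What annihilates the values at the rotations annihilates the differences. -/
theorem sum_mul_diff (F : B → ℂ)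
    (hF : ∀ i, i < 2 * h → i ≠ 0 → i ≠ h → ∑ ψ : B, F ψ * av ψ.1 i = 0) {a b : ℕ}
    (hab : a % 2 = b % 2) : ∑ ψ : B, F ψ * ((V.N ψ.1 a - V.N ψ.1 b : ℤ) : ℂ) = 0 := by
  have hω := om_spec S.h_pos
  have h2 : (om h ^ h) ^ 2 = 1 := by rw [← pow_mul, mul_comm h, hω.pow_eq_one]
  refine (mul_eq_zero.1 (show ((2 * h : ℕ) : ℂ) *
    ∑ ψ : B, F ψ * ((V.N ψ.1 a - V.N ψ.1 b : ℤ) : ℂ) = 0 from ?_)).resolve_left V.two_h_ne
  rw [mul_sum]
  calc ∑ ψ : B, ((2 * h : ℕ) : ℂ) * (F ψ * ((V.N ψ.1 a - V.N ψ.1 b : ℤ) : ℂ))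
      = ∑ i ∈ range (2 * h), (om h ^ (i * a) - om h ^ (i * b)) * ∑ ψ : B, F ψ * av ψ.1 i := by
        simp only [mul_sum]
        rw [sum_comm]
        refine sum_congr rfl fun ψ _ => ?_
        push_cast
        rw [mul_left_comm, mul_sub (((2 : ℂ)) * _), show ((2 : ℂ) * (h : ℂ)) = ((2 * h : ℕ) : ℂ) by
          push_cast; ring, ← V.N_spec, ← V.N_spec, ← sum_sub_distrib, mul_sum]
        exact sum_congr rfl fun i _ => by ring
    _ = 0 := by
        refine sum_eq_zero fun i hi => ?_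
        by_cases hi0 : i = 0
        · subst hi0; simp
        by_cases hih : i = h
        · subst hih
          rw [pow_mul, pow_mul, pow_eq_pow_mod a h2, pow_eq_pow_mod b h2, hab, sub_self, zero_mul]
        rw [hF i (mem_range.1 hi) hi0 hih, mul_zero]

theorem vec_parity : (0 % 2 = h % 2) ∧ (∀ l, (2 * l) % 2 = h % 2) ∧
    ∀ l, l < h / 2 → rr (h / 2) l % 2 = 1 % 2 := by
  obtain ⟨c, hc⟩ := S.h_even
  exact ⟨by omega, fun l => by omega, fun l hl => (V.rr_bound hl).2⟩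

/-- What annihilates the values at the rotations annihilates the vectors. -/
theorem sum_mul_vec (F : B → ℂ)
    (hF : ∀ i, i < 2 * h → i ≠ 0 → i ≠ h → ∑ ψ : B, F ψ * av ψ.1 i = 0) :
    (∑ ψ : B, F ψ * (V.A0 ψ.1 : ℂ) = 0) ∧ ∀ l ∈ Ico 1 (h / 2),
      ∑ ψ : B, F ψ * (V.A l ψ.1 : ℂ) = 0 ∧ ∑ ψ : B, F ψ * (V.C l ψ.1 : ℂ) = 0 := by
  obtain ⟨p1, p2, p3⟩ := V.vec_parity
  exact ⟨V.sum_mul_diff F hF p1, fun l hl =>
    ⟨V.sum_mul_diff F hF (p2 l), V.sum_mul_diff F hF (p3 l (mem_Ico.1 hl).2)⟩⟩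

/-- The rows of the regular part are orthogonal to the vectors. -/
theorem regMat_vec (χ : B) :
    (∑ ψ : B, regMat 2 B χ ψ * (V.A0 ψ.1 : ℂ) = 0) ∧ ∀ l ∈ Ico 1 (h / 2),
      ∑ ψ : B, regMat 2 B χ ψ * (V.A l ψ.1 : ℂ) = 0 ∧
        ∑ ψ : B, regMat 2 B χ ψ * (V.C l ψ.1 : ℂ) = 0 :=
  V.sum_mul_vec _ fun _ hi hi0 hih => V.sum_reg_av hi hi0 hih χ

/-- The other subsections are orthogonal to the vectors. -/
theorem contrib_vec {v : G} (hv : v ∈ S.reps) (hne : ∀ i ∈ rotIdx h, v ≠ σ ^ i) (χ : B) :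
    (∑ ψ : B, contribR 2 χ.1 ψ.1 v (subBlk 2 D e v) * (V.A0 ψ.1 : ℂ) = 0) ∧
      ∀ l ∈ Ico 1 (h / 2),
        ∑ ψ : B, contribR 2 χ.1 ψ.1 v (subBlk 2 D e v) * (V.A l ψ.1 : ℂ) = 0 ∧
          ∑ ψ : B, contribR 2 χ.1 ψ.1 v (subBlk 2 D e v) * (V.C l ψ.1 : ℂ) = 0 :=
  V.sum_mul_vec _ fun i hi hi0 hih => by
    obtain ⟨i₀, hmem, -, heq⟩ := V.av_symm' χ.1 hi hi0 hih
    simpa only [heq] using V.sum_av_aux hmem hv (hne i₀ hmem) χ

omit [Fintype B] in
/-- Sums of symmetrical functions of the exponent. -/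
theorem sum_N_split {A : Type*} [AddCommMonoid A] (χ : IrrCharacter G) (f : ℤ → A) :
    (∑ l ∈ range h, f (V.N χ (2 * l)) = f (V.N χ 0) + f (V.N χ h) +
        ∑ l ∈ Ico 1 (h / 2), (f (V.N χ (2 * l)) + f (V.N χ (2 * l)))) ∧
      ∑ l ∈ range h, f (V.N χ (2 * l + 1)) =
        ∑ l ∈ range (h / 2), (f (V.N χ (rr (h / 2) l)) + f (V.N χ (rr (h / 2) l))) := by
  obtain ⟨e1, e2, e3, -⟩ := V.m_facts
  have hF : ∀ j, j < 4 * (h / 2) → f (V.N χ (sw (2 * (h / 2)) j)) = f (V.N χ j) := fun j _ => by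
    rw [← e1, V.N_sw]
  have h1 := sum_even_sw (m := h / 2) (by omega) (F := fun j => f (V.N χ j)) hF
  have h2 := sum_odd_sw e2 (F := fun j => f (V.N χ j)) hF
  rw [← e1] at h1 h2
  exact ⟨h1, h2⟩

omit [Fintype B] in
theorem av_inv (χ : IrrCharacter G) {k : ℕ} (hk : k < 2 * h) :
    ∑ j ∈ range (2 * h), ((2 * h : ℕ) : ℂ) * (V.N χ j : ℂ) * conj (om h ^ (j * k)) =
      ((2 * h : ℕ) : ℂ) * av χ k := by
  have hh := S.h_pos
  simp only [← V.N_spec, sum_mul]
  rw [sum_comm, sum_eq_single_of_mem k (mem_range.2 hk) fun i hi hne => ?_]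
  · simp only [mul_assoc]
    rw [← mul_sum, sum_congr rfl fun j _ => by rw [mul_comm k j], sum_om_conj hh hk hk,
      if_pos rfl, mul_comm]
  · simp only [mul_assoc]
    rw [← mul_sum, sum_congr rfl fun j _ => by rw [mul_comm i j],
      sum_om_conj hh (mem_range.1 hi) hk, if_neg hne, mul_zero]

omit [Fintype B] in
theorem parseval (χ : IrrCharacter G) :
    ∑ i ∈ range (2 * h), av χ i * conj (av χ i) =
      ((2 * h : ℕ) : ℂ) * ((∑ j ∈ range (2 * h), V.N χ j ^ 2 : ℤ) : ℂ) := by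
  refine mul_left_cancel₀ V.two_h_ne ?_
  push_cast
  rw [mul_sum, mul_sum, mul_sum]
  calc ∑ i ∈ range (2 * h), 2 * (h : ℂ) * (av χ i * conj (av χ i))
      = ∑ i ∈ range (2 * h),
          (∑ j ∈ range (2 * h), ((2 * h : ℕ) : ℂ) * (V.N χ j : ℂ) * conj (om h ^ (j * i))) *
            conj (av χ i) := by
        refine sum_congr rfl fun i hi => ?_
        rw [V.av_inv χ (mem_range.1 hi)]
        push_cast
        ring
    _ = ∑ j ∈ range (2 * h), ((2 * h : ℕ) : ℂ) * (V.N χ j : ℂ) *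
          conj (∑ i ∈ range (2 * h), av χ i * om h ^ (i * j)) := by
        simp only [map_sum, sum_mul, mul_sum, map_mul]
        rw [sum_comm]
        exact sum_congr rfl fun j _ => sum_congr rfl fun i _ => by rw [mul_comm i j]; ring
    _ = _ := by
        refine sum_congr rfl fun j _ => ?_
        rw [V.N_spec, map_mul, map_natCast, map_intCast]
        push_cast
        ring

omit [Fintype B] in
theorem av_zero_half (χ : IrrCharacter G) :
    av χ 0 = ((∑ l ∈ range h, V.N χ (2 * l) + ∑ l ∈ range h, V.N χ (2 * l + 1) : ℤ) : ℂ) ∧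
      av χ h = ((∑ l ∈ range h, V.N χ (2 * l) - ∑ l ∈ range h, V.N χ (2 * l + 1) : ℤ) : ℂ) := by
  have hh := S.h_pos
  have hω := om_spec hh
  have hneg : om h ^ h = -1 :=
    (mul_self_eq_one_iff.1 (by rw [← pow_add, ← two_mul, hω.pow_eq_one])).resolve_left
      (fun e1 => by
        have := Nat.le_of_dvd hh ((hω.pow_eq_one_iff_dvd h).1 e1); omega)
  constructor
  · refine mul_left_cancel₀ V.two_h_ne ?_
    rw [← V.av_inv χ (by omega), ← sum_parity (fun j => V.N χ j), Int.cast_sum, mul_sum]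
    simp
  · refine mul_left_cancel₀ V.two_h_ne ?_
    rw [← V.av_inv χ (by omega), sum_parity]
    push_cast
    rw [mul_sub, mul_sum, mul_sum, sub_eq_add_neg, ← sum_neg_distrib]
    congr 1 <;> refine sum_congr rfl fun l _ => ?_
    · rw [mul_comm _ h, pow_mul, hneg, pow_mul, neg_one_sq, one_pow, map_one, mul_one]
    · rw [mul_comm _ h, pow_mul, hneg, pow_succ, pow_mul, neg_one_sq, one_pow, one_mul, map_neg,
        map_one, mul_neg_one]

omit [Fintype B] in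
/-- **The rotation part of the norm of a row.** -/
theorem rot_norm (χ : IrrCharacter G) :
    ∑ i ∈ range (2 * h), av χ i * conj (av χ i) - av χ 0 * conj (av χ 0) - av χ h * conj (av χ h) =
      (Vectors.rotNorm (h / 2) V.A0 V.A V.C χ : ℂ) := by
  obtain ⟨e1, e2, e3, e4⟩ := V.m_facts
  obtain ⟨z0, zh⟩ := V.av_zero_half χ
  rw [V.parseval, z0, zh, map_intCast, map_intCast]
  obtain ⟨s1, s2⟩ := V.sum_N_split χ id
  obtain ⟨q1, q2⟩ := V.sum_N_split χ (fun x => x ^ 2)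
  simp only [id] at s1 s2
  rw [sum_parity (fun j => V.N χ j ^ 2), s1, s2, q1, q2]
  set m := h / 2 with hm
  have hsplit : ∀ F : ℕ → ℤ, ∑ l ∈ range m, F l = F 0 + ∑ l ∈ Ico 1 m, F l := fun F => by
    rw [range_eq_Ico, sum_eq_sum_Ico_succ_bot (show 0 < m by omega)]
  rw [hsplit, hsplit, e4]
  have hC : ∀ l, V.C l χ = V.N χ (rr m l) - V.N χ 1 := fun l => rfl
  have hA : ∀ l, V.A l χ = V.N χ (2 * l) - V.N χ h := fun l => rfl
  set n0 := V.N χ 0
  set nh := V.N χ h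
  set n1 := V.N χ 1
  simp only [Vectors.rotNorm, hC, hA, show V.A0 χ = n0 - nh from rfl, sub_sq, sum_add_distrib,
    sum_sub_distrib, ← mul_sum, ← sum_mul, sum_const, Nat.card_Ico, nsmul_eq_mul]
  push_cast [Nat.cast_sub (show 1 ≤ m by omega)]
  rw [show (h : ℂ) = 2 * (m : ℂ) by exact_mod_cast e1]
  ring

omit [Fintype B] in
/-- The contributions of the rotations to a row. -/
theorem sum_rot_contrib (χ : IrrCharacter G) :
    ((4 * h : ℕ) : ℂ) * ∑ i ∈ rotIdx h, contribR 2 χ χ (σ ^ i) (subBlk 2 D e (σ ^ i)) =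
      (Vectors.rotNorm (h / 2) V.A0 V.A V.C χ : ℂ) := by
  rw [← V.rot_norm χ, sum_range_split S.four_dvd S.h_pos, mul_sum]
  rw [show ∀ x y z : ℂ, x + y + z - x - y = z from fun x y z => by ring]
  refine sum_congr rfl fun i hi => ?_
  rw [V.contrib_rep _ _ hi, V.symm χ i (mem_rotIdx.1 hi).1]
  have hh0 : (h : ℂ) ≠ 0 := Nat.cast_ne_zero.2 S.h_pos.ne'
  push_cast
  field_simp
  ring

omit [Fintype B] in
/-- **Height zero makes the top vector odd.** -/
theorem A0_odd {χ : IrrCharacter G} (hχ : χ ∈ B) (h0 : blockHeight 2 B (χ : G → ℂ) = 0) :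
    Odd (V.A0 χ) := by
  have hM := S.hM
  have hh := S.h_pos
  have hω := om_spec hh
  obtain ⟨e1, e2, e3, -⟩ := V.m_facts
  set m := h / 2 with hm
  obtain ⟨hw, -⟩ := half_mem_rotIdx S.four_dvd hh
  -- the value at the rotation of order four
  set ζ : ℂ := conj (om h ^ m) with hζ
  have hneg : om h ^ h = -1 :=
    (mul_self_eq_one_iff.1 (by rw [← pow_add, ← two_mul, hω.pow_eq_one])).resolve_left
      (fun e5 => by
        have := Nat.le_of_dvd hh ((hω.pow_eq_one_iff_dvd h).1 e5); omega)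
  have hζ2 : ζ ^ 2 = -1 := by
    rw [hζ, ← map_pow, ← pow_mul, mul_comm, ← e1, hneg, map_neg, map_one]
  have hval : av χ m = ((∑ l ∈ range h, (-1) ^ l * V.N χ (2 * l) : ℤ) : ℂ) := by
    refine mul_left_cancel₀ V.two_h_ne ?_
    rw [← V.av_inv χ (show m < 2 * h by omega), sum_parity]
    have hanti := sum_odd_anti e2 (F := fun j => V.N χ j) fun j _ => by rw [← e1, V.N_sw]
    rw [← e1] at hanti
    have hp : ∀ j : ℕ, conj (om h ^ (j * m)) = ζ ^ j := fun j => by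
      rw [hζ, ← map_pow, ← pow_mul, mul_comm m j]
    simp only [hp]
    simp only [pow_add, pow_mul, hζ2, pow_one, ← mul_assoc]
    rw [← sum_mul]
    have h3 : ∑ l ∈ range h, ((2 * h : ℕ) : ℂ) * (V.N χ (2 * l + 1) : ℂ) * (-1) ^ l = 0 := by
      have h4 : ((2 * h : ℕ) : ℂ) * ((∑ l ∈ range h, (-1) ^ l * V.N χ (2 * l + 1) : ℤ) : ℂ) = 0 := by
        rw [hanti, Int.cast_zero, mul_zero]
      rw [← h4]
      push_cast
      rw [mul_sum]
      exact sum_congr rfl fun l _ => by ring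
    rw [h3, zero_mul, add_zero]
    push_cast
    rw [mul_sum]
    exact sum_congr rfl fun l _ => by ring
  have hsum : ∃ r : ℤ, ∑ l ∈ range h, (-1) ^ l * V.N χ (2 * l) = V.A0 χ + 2 * r := by
    refine ⟨V.N χ h + ∑ l ∈ Ico 1 m, (-1) ^ l * V.N χ (2 * l), ?_⟩
    rw [show range h = range (2 * m) by rw [← e1], sum_fold' _ (show 1 ≤ m by omega), A0]
    have hev : (-1 : ℤ) ^ m = 1 := (even_iff_two_dvd.2 e2).neg_one_pow
    have h5 : ∑ l ∈ Ico 1 m, ((-1) ^ l * V.N χ (2 * l) +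
        (-1) ^ (2 * m - l) * V.N χ (2 * (2 * m - l))) =
        2 * ∑ l ∈ Ico 1 m, (-1) ^ l * V.N χ (2 * l) := by
      rw [mul_sum]
      refine sum_congr rfl fun l hl => ?_
      obtain ⟨l1, l2⟩ := mem_Ico.1 hl
      have h6 := sw_even S.h_even l1 (show l < h by omega)
      rw [show 2 * (2 * m - l) = sw h (2 * l) by omega, V.N_sw,
        show (-1 : ℤ) ^ (2 * m - l) = (-1) ^ l by
          rw [neg_one_pow_congr]; rw [Nat.even_sub (by omega)]; simp]
      ring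
    rw [h5, pow_zero, hev, ← e1, mul_zero]
    ring
  obtain ⟨r, hr⟩ := hsum
  rw [hr] at hval
  -- the scaled contribution is a unit
  obtain ⟨-, g2, g3, -⟩ := mem_rotIdx.1 hw
  haveI : Fintype C[Z[σ ^ m]] := Fintype.ofFinite _
  obtain ⟨f, e', χ₀, Φ, T⟩ := S.exists_locData
  obtain ⟨f', hf', hfe', hind⟩ := exists_sub hM S.hB S.hmax (S.pow_mem_D m)
  obtain rfl := idemIn_injective hf' T.hf (hfe'.trans T.hfe.symm)
  have hdef : 2 ^ blockDefect 2 f' = 2 * h := by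
    rw [← card_defectGroup hM hf' (isDefectGroup_of_isDef hM hf'
      (T.hmax'.isDef (isBlk_idem hM hf'))),
      Nat.card_congr (Subgroup.subgroupOfEquivOfLe S.le_centralizer_w).toEquiv,
      Nat.card_zpowers, S.ordσ]
  have hunit := scaled_contrib_unit hM (CfsgLib.BlockB.centralizer_zpowers_eq (σ ^ m)) (k := 2)
    (by rw [S.orderOf_w]; norm_num) hind hχ hχ h0 h0
  have hc : BlockB.contrib 2 f' (σ ^ m) χ χ = contribR 2 χ χ (σ ^ m) (subBlk 2 D e (σ ^ m)) := by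
    rw [← hfe']
    symm
    convert contribR_idemIn hM χ χ (mem_pSet_of_mem S.pair (S.pow_mem_D m)) (c := f')
      (by convert hf') using 3
  rw [hc, V.contrib_rep _ _ hw, hval, map_intCast,
    show ((2 : ℕ) : ℂ) ^ blockDefect 2 f' = ((2 * h : ℕ) : ℂ) by rw [← Nat.cast_pow, hdef],
    mul_comm ((2 * h : ℕ) : ℂ), inv_mul_cancel_right₀ V.two_h_ne, ← Int.cast_mul] at hunit
  rw [← Int.not_even_iff_odd]
  rintro ⟨c, hc⟩
  exact hunit ((memLocalIdeal_intCast_iff hM).2 ⟨(c + r) * (c + c + 2 * r), by rw [hc]; ring⟩)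

end RotVals

end CfsgLib.SDDefect
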