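import Cfsg.Agent.BlocksB.SemidihedralDefect.Local
import Cfsg.Agent.BlocksB.SemidihedralDefect.Decomp

/-!
# A block with semidihedral defect group: the representatives of the subsections
-/

set_option autoImplicit false
set_option linter.style.haveILetI false
set_option linter.unusedSectionVars false

namespace CfsgLib.SDDefect

open Cfsg Finset CfsgLib.Block CfsgLib.Block.Chr CfsgLib.BrauerPairs CfsgLib.BlockStar
  CfsgLib.BlockB
open CfsgLib.QuatDefect (Fus fus_conj)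
open scoped Classical

universe u

/-- The exponents representing the rotations of order at least four. -/
def rotIdx (h : ℕ) : Finset ℕ :=
  (range (2 * h)).filter fun i => i ≠ 0 ∧ i ≠ h ∧ i < sw h i

theorem mem_rotIdx {h i : ℕ} : i ∈ rotIdx h ↔ i < 2 * h ∧ i ≠ 0 ∧ i ≠ h ∧ i < sw h i := by
  simp [rotIdx]

theorem sw_zero_iff {h i : ℕ} (h2 : 2 ∣ h) (hh : 0 < h) (hi : i < 2 * h) :
    sw h i = 0 ↔ i = 0 := by
  refine ⟨fun e1 => ?_, fun e1 => by rw [e1, sw_zero]⟩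
  rw [← sw_sw h2 hh hi, e1, sw_zero]

theorem sw_half_iff {h i : ℕ} (h2 : 2 ∣ h) (hh : 0 < h) (hi : i < 2 * h) :
    sw h i = h ↔ i = h := by
  refine ⟨fun e1 => ?_, fun e1 => by rw [e1, sw_half h2 hh]⟩
  rw [← sw_sw h2 hh hi, e1, sw_half h2 hh]

/-- A sum over all exponents by the orbits of `sw`. -/
theorem sum_range_split {A : Type*} [AddCommMonoid A] {h : ℕ} (h4 : 4 ∣ h) (hh : 0 < h)
    (F : ℕ → A) :
    ∑ i ∈ range (2 * h), F i = F 0 + F h + ∑ i ∈ rotIdx h, (F i + F (sw h i)) := by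
  have h2 : 2 ∣ h := (show (2 : ℕ) ∣ 4 by norm_num).trans h4
  set s := (range (2 * h)).filter fun i => i ≠ 0 ∧ i ≠ h with hs
  have h1 : ∑ i ∈ range (2 * h), F i = F 0 + F h + ∑ i ∈ s, F i := by
    rw [hs, ← sum_filter_add_sum_filter_not (range (2 * h)) (fun i => i ≠ 0 ∧ i ≠ h), add_comm]
    congr 1
    have he : (range (2 * h)).filter (fun i => ¬ (i ≠ 0 ∧ i ≠ h)) = {0, h} := by
      ext i
      simp only [mem_filter, mem_range, mem_insert, mem_singleton]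
      omega
    rw [he, sum_pair (by omega)]
  rw [h1, sum_add_distrib, ← sum_filter_add_sum_filter_not s (fun i => i < sw h i)]
  congr 2
  · refine sum_congr ?_ fun _ _ => rfl
    ext i
    simp only [hs, mem_filter, mem_range, mem_rotIdx]
    tauto
  · refine sum_bij' (fun i _ => sw h i) (fun i _ => sw h i) ?_ ?_ ?_ ?_ ?_
    · intro i hi
      obtain ⟨hi1, hi2⟩ := mem_filter.1 hi
      obtain ⟨hlt, h0, hne⟩ := mem_filter.1 hi1
      have hlt' := mem_range.1 hlt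
      refine mem_rotIdx.2 ⟨sw_lt hh i, fun e1 => h0 ((sw_zero_iff h2 hh hlt').1 e1),
        fun e1 => hne ((sw_half_iff h2 hh hlt').1 e1), ?_⟩
      rw [sw_sw h2 hh hlt']
      have := sw_ne h4 hh hlt' h0 hne
      omega
    · intro i hi
      obtain ⟨hlt, h0, hne, hls⟩ := mem_rotIdx.1 hi
      refine mem_filter.2 ⟨mem_filter.2 ⟨mem_range.2 (sw_lt hh i),
        fun e1 => h0 ((sw_zero_iff h2 hh hlt).1 e1),
        fun e1 => hne ((sw_half_iff h2 hh hlt).1 e1)⟩, ?_⟩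
      rw [sw_sw h2 hh hlt]
      omega
    · intro i hi
      exact sw_sw h2 hh (mem_range.1 (mem_filter.1 (mem_filter.1 hi).1).1)
    · intro i hi
      exact sw_sw h2 hh (mem_rotIdx.1 hi).1
    · intro i hi
      rw [sw_sw h2 hh (mem_range.1 (mem_filter.1 (mem_filter.1 hi).1).1)]

theorem card_rotIdx {h : ℕ} (h4 : 4 ∣ h) (hh : 0 < h) : (rotIdx h).card = h - 1 := by
  have h1 := sum_range_split h4 hh (fun _ => 1)
  simp only [sum_const, card_range, smul_eq_mul, mul_one] at h1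
  omega

theorem half_mem_rotIdx {h : ℕ} (h4 : 4 ∣ h) (hh : 0 < h) :
    h / 2 ∈ rotIdx h ∧ sw h (h / 2) = h + h / 2 := by
  obtain ⟨c, rfl⟩ := h4
  obtain ⟨d, rfl⟩ : ∃ d, c = d + 1 := ⟨c - 1, by omega⟩
  have h1 : sw (4 * (d + 1)) (4 * (d + 1) / 2) = 4 * (d + 1) + 4 * (d + 1) / 2 := by
    refine Nat.ModEq.eq_of_lt_of_lt ((sw_modEq _ _).trans ?_) (sw_lt hh _) (by omega)
    rw [show 4 * (d + 1) / 2 = 2 * (d + 1) by omega,
      show 4 * (d + 1) - 1 = 4 * d + 3 by omega]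
    exact Nat.modEq_iff_dvd.2 ⟨-(d : ℤ), by push_cast; ring⟩
  exact ⟨mem_rotIdx.2 ⟨by omega, by omega, by omega, by omega⟩, h1⟩

variable {M : Ideal AlgInt} [M.IsPrime] [Fact (Nat.Prime 2)] [CharP (Residue M) 2]
  {G : Type u} [Group G] [Fintype G]

local notation "𝕜" => Residue M
local notation "Z[" x "]" => Subgroup.zpowers x
local notation "C[" Q "]" => Subgroup.centralizer (SetLike.coe Q)

namespace SDData

variable {B : Set (IrrCharacter G)} {D : Subgroup G} {e : MonoidAlgebra (Residue M) G}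
  {σ τ : G} {h : ℕ} (S : SDData (M := M) B D e σ τ h)

/-- The representatives outside the rotations. -/
noncomputable def oth (_S : SDData (M := M) B D e σ τ h) : Finset G :=
  (({τ} : Finset G).filter fun t => ¬ Fus D e t (σ ^ h)) ∪
    ({σ * τ} : Finset G).filter fun t => ¬ Fus D e t (σ ^ (h / 2))

/-- The representatives of the nontrivial subsections. -/
noncomputable def reps (S : SDData (M := M) B D e σ τ h) : Finset G :=
  insert (σ ^ h) ((rotIdx h).image (fun i => σ ^ i) ∪ S.oth)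

include S

theorem mem_oth {v : G} : v ∈ S.oth ↔ (v = τ ∧ ¬ Fus D e τ (σ ^ h)) ∨
    (v = σ * τ ∧ ¬ Fus D e (σ * τ) (σ ^ (h / 2))) := by
  simp only [oth, mem_union, mem_filter, mem_singleton]
  constructor <;> rintro (⟨rfl, h1⟩ | ⟨rfl, h1⟩) <;> simp [h1]

theorem τ_ne_στ : τ ≠ σ * τ := fun e1 => by
  have h1 : σ = 1 := mul_eq_right.1 e1.symm
  have h2 := S.ordσ
  rw [h1, orderOf_one] at h2
  have := S.h_pos; omega

theorem oth_props {v : G} (hv : v ∈ S.oth) : v ∈ D ∧ v ∉ Z[σ] := by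
  rcases S.mem_oth.1 hv with ⟨rfl, -⟩ | ⟨rfl, -⟩
  exacts [⟨S.τ_mem, S.τ_not⟩, ⟨S.στ_mem, S.στ_not⟩]

theorem mem_reps {v : G} :
    v ∈ S.reps ↔ v = σ ^ h ∨ (∃ i ∈ rotIdx h, σ ^ i = v) ∨ v ∈ S.oth := by
  simp [reps]

theorem z_mem_reps : σ ^ h ∈ S.reps := S.mem_reps.2 (Or.inl rfl)

theorem rot_mem_reps {i : ℕ} (hi : i ∈ rotIdx h) : σ ^ i ∈ S.reps :=
  S.mem_reps.2 (Or.inr (Or.inl ⟨i, hi, rfl⟩))

theorem w_mem_reps : σ ^ (h / 2) ∈ S.reps :=
  S.rot_mem_reps (half_mem_rotIdx S.four_dvd S.h_pos).1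

theorem orderOf_rot {i : ℕ} (hi : i ∈ rotIdx h) : orderOf (σ ^ i) ≠ 2 := fun e1 => by
  obtain ⟨h1, h2, h3, -⟩ := mem_rotIdx.1 hi
  exact S.rot_sq_ne h1 h2 h3 (CfsgLib.Invol.mul_self_eq_one e1)

theorem rot_not_fus_τ {i : ℕ} (hi : i ∈ rotIdx h) : ¬ Fus D e (σ ^ i) τ := fun h1 =>
  S.orderOf_rot hi (h1.orderOf_eq.trans S.ordτ)

theorem rot_not_fus_στ {i : ℕ} (hi : i ∈ rotIdx h)
    (hστ : ¬ Fus D e (σ * τ) (σ ^ (h / 2))) : ¬ Fus D e (σ ^ i) (σ * τ) := fun h1 => by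
  have h2 := S.sq_of_four (S.pow_mem_D i) (h1.orderOf_eq.trans S.orderOf_στ)
  rcases S.eq_w (Subgroup.npow_mem_zpowers σ i) h2 with e1 | e1
  · exact hστ (e1 ▸ h1.symm)
  · have h3 := fus_conj S.pair (S.pow_mem_D (h / 2)) S.τ_mem
    rw [S.τ_w, ← e1] at h3
    exact hστ ((h3.trans h1).symm)

theorem z_not_fus_στ : ¬ Fus D e (σ ^ h) (σ * τ) := fun h1 => by
  have := h1.orderOf_eq
  rw [S.orderOf_z, S.orderOf_στ] at this
  omega

theorem τ_not_fus_στ : ¬ Fus D e τ (σ * τ) := fun h1 => by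
  have := h1.orderOf_eq
  rw [S.ordτ, S.orderOf_στ] at this
  omega

/-- **The representatives.** -/
theorem isReps : IsReps D e S.reps := by
  refine ⟨?_, ?_, ?_⟩
  · intro v hv
    rcases S.mem_reps.1 hv with rfl | ⟨i, hi, rfl⟩ | hv
    · exact ⟨S.pow_mem_D h, S.z_ne_one⟩
    · obtain ⟨h1, h2, -, -⟩ := mem_rotIdx.1 hi
      exact ⟨S.pow_mem_D i, S.pow_ne_one (by omega) h1⟩
    · obtain ⟨h1, h2⟩ := S.oth_props hv
      exact ⟨h1, fun e1 => h2 (e1 ▸ one_mem _)⟩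
  · intro u hu v hv hf
    rcases S.mem_reps.1 hu with rfl | ⟨i, hi, rfl⟩ | hu <;>
      rcases S.mem_reps.1 hv with rfl | ⟨j, hj, rfl⟩ | hv
    · rfl
    · obtain ⟨h1, h2, h3, -⟩ := mem_rotIdx.1 hj
      exact absurd hf.symm (S.rot_not_fus_z h1 h2 h3)
    · rcases S.mem_oth.1 hv with ⟨rfl, hn⟩ | ⟨rfl, -⟩
      exacts [absurd hf.symm hn, absurd hf S.z_not_fus_στ]
    · obtain ⟨h1, h2, h3, -⟩ := mem_rotIdx.1 hi
      exact absurd hf (S.rot_not_fus_z h1 h2 h3)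
    · obtain ⟨h1, h2, h3, h4⟩ := mem_rotIdx.1 hi
      obtain ⟨g1, -, -, g4⟩ := mem_rotIdx.1 hj
      rcases S.rot_not_fus h1 h2 h3 g1 hf with rfl | rfl
      · rfl
      · rw [sw_sw S.h_even S.h_pos h1] at g4
        omega
    · rcases S.mem_oth.1 hv with ⟨rfl, -⟩ | ⟨rfl, hn⟩
      exacts [absurd hf (S.rot_not_fus_τ hi), absurd hf (S.rot_not_fus_στ hi hn)]
    · rcases S.mem_oth.1 hu with ⟨rfl, hn⟩ | ⟨rfl, -⟩
      exacts [absurd hf hn, absurd hf.symm S.z_not_fus_στ]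
    · rcases S.mem_oth.1 hu with ⟨rfl, -⟩ | ⟨rfl, hn⟩
      exacts [absurd hf.symm (S.rot_not_fus_τ hj), absurd hf.symm (S.rot_not_fus_στ hj hn)]
    · rcases S.mem_oth.1 hu with ⟨rfl, -⟩ | ⟨rfl, -⟩ <;>
        rcases S.mem_oth.1 hv with ⟨rfl, -⟩ | ⟨rfl, -⟩
      exacts [rfl, absurd hf S.τ_not_fus_στ, absurd hf.symm S.τ_not_fus_στ, rfl]
  · intro u hu hu1
    by_cases hn : u ∈ Z[σ]
    · obtain ⟨j, hj, rfl⟩ := S.exists_pow hn
      have hj0 : j ≠ 0 := fun e1 => hu1 (by rw [e1, pow_zero])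
      by_cases hjh : j = h
      · exact ⟨_, S.z_mem_reps, hjh ▸ Fus.refl _⟩
      rcases Nat.lt_or_ge j (sw h j) with h1 | h1
      · exact ⟨_, S.rot_mem_reps (mem_rotIdx.2 ⟨hj, hj0, hjh, h1⟩), Fus.refl _⟩
      · have h2 := sw_ne S.four_dvd S.h_pos hj hj0 hjh
        refine ⟨σ ^ sw h j, S.rot_mem_reps (mem_rotIdx.2 ⟨sw_lt S.h_pos j,
          fun e1 => hj0 ((sw_zero_iff S.h_even S.h_pos hj).1 e1),
          fun e1 => hjh ((sw_half_iff S.h_even S.h_pos hj).1 e1), ?_⟩), ?_⟩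
        · rw [sw_sw S.h_even S.h_pos hj]
          omega
        · have h3 := fus_conj S.pair hu S.τ_mem
          rwa [S.τ_sw] at h3
    · rcases S.refl_class hu hn with h1 | h1
      · by_cases hτ : Fus D e τ (σ ^ h)
        · exact ⟨_, S.z_mem_reps, h1.trans hτ⟩
        · exact ⟨_, S.mem_reps.2 (Or.inr (Or.inr (S.mem_oth.2 (Or.inl ⟨rfl, hτ⟩)))), h1⟩
      · by_cases hστ : Fus D e (σ * τ) (σ ^ (h / 2))
        · exact ⟨_, S.w_mem_reps, h1.trans hστ⟩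
        · exact ⟨_, S.mem_reps.2 (Or.inr (Or.inr (S.mem_oth.2 (Or.inr ⟨rfl, hστ⟩)))), h1⟩

/-- A sum over the representatives. -/
theorem sum_reps {A : Type*} [AddCommMonoid A] (F : G → A) :
    ∑ v ∈ S.reps, F v = F (σ ^ h) + ∑ i ∈ rotIdx h, F (σ ^ i) + ∑ v ∈ S.oth, F v := by
  rw [reps, sum_insert, sum_union, sum_image, add_assoc]
  · intro i hi j hj he
    exact S.pow_inj (mem_rotIdx.1 hi).1 (mem_rotIdx.1 hj).1 he
  · rw [disjoint_left]
    intro a ha hb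
    obtain ⟨i, -, rfl⟩ := mem_image.1 ha
    exact (S.oth_props hb).2 (Subgroup.npow_mem_zpowers σ i)
  · rw [mem_union, not_or]
    refine ⟨fun hm => ?_, fun hm => (S.oth_props hm).2 (Subgroup.npow_mem_zpowers σ h)⟩
    obtain ⟨i, hi, he⟩ := mem_image.1 hm
    have := S.h_pos
    exact (mem_rotIdx.1 hi).2.2.1 (S.pow_inj (mem_rotIdx.1 hi).1 (by omega) he)

theorem τ_mem_oth (hn : ¬ Fus D e τ (σ ^ h)) : τ ∈ S.oth := S.mem_oth.2 (Or.inl ⟨rfl, hn⟩)

theorem στ_mem_oth (hn : ¬ Fus D e (σ * τ) (σ ^ (h / 2))) : σ * τ ∈ S.oth :=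
  S.mem_oth.2 (Or.inr ⟨rfl, hn⟩)

end SDData

end CfsgLib.SDDefect
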