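import Cfsg.Agent.BlocksB.QuatDefect.Setup
import Cfsg.Agent.Invol.QuasiDihedral

/-!
# A block with semidihedral defect group: the data and the structure of the defect group
-/

set_option autoImplicit false
set_option linter.style.haveILetI false
set_option linter.unusedSectionVars false

namespace CfsgLib.SDDefect

open Cfsg Finset CfsgLib.Block CfsgLib.Block.Chr CfsgLib.BrauerPairs CfsgLib.BlockStar
open CfsgLib.QuatDefect (Fus fus_conj)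
open scoped Classical

universe u

/-- The exponent of the image of a rotation under the reflection. -/
def sw (h i : ℕ) : ℕ := (h - 1) * i % (2 * h)

theorem sw_lt {h : ℕ} (hh : 0 < h) (i : ℕ) : sw h i < 2 * h := Nat.mod_lt _ (by omega)

theorem sw_modEq (h i : ℕ) : sw h i ≡ (h - 1) * i [MOD 2 * h] := Nat.mod_modEq _ _

theorem sw_sw {h : ℕ} (h2 : 2 ∣ h) (hh : 0 < h) {i : ℕ} (hi : i < 2 * h) : sw h (sw h i) = i := by
  obtain ⟨c, rfl⟩ := h2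
  obtain ⟨d, rfl⟩ : ∃ d, c = d + 1 := ⟨c - 1, by omega⟩
  refine Nat.ModEq.eq_of_lt_of_lt ?_ (sw_lt hh _) hi
  refine (sw_modEq _ _).trans (((sw_modEq _ i).mul_left _).trans ?_)
  rw [show 2 * (d + 1) - 1 = 2 * d + 1 by omega]
  refine (Nat.modEq_iff_dvd.2 ⟨-((d : ℤ) * (i : ℤ)), ?_⟩)
  push_cast; ring

theorem sw_zero (h : ℕ) : sw h 0 = 0 := by simp [sw]

theorem sw_half {h : ℕ} (h2 : 2 ∣ h) (hh : 0 < h) : sw h h = h := by
  obtain ⟨c, rfl⟩ := h2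
  obtain ⟨d, rfl⟩ : ∃ d, c = d + 1 := ⟨c - 1, by omega⟩
  refine Nat.ModEq.eq_of_lt_of_lt ((sw_modEq _ _).trans ?_) (sw_lt hh _) (by omega)
  rw [show 2 * (d + 1) - 1 = 2 * d + 1 by omega]
  refine Nat.modEq_iff_dvd.2 ⟨-(d : ℤ), ?_⟩
  push_cast; ring

theorem sw_ne {h i : ℕ} (h4 : 4 ∣ h) (hh : 0 < h) (hi : i < 2 * h) (hi0 : i ≠ 0) (hih : i ≠ h) :
    sw h i ≠ i := by
  intro he
  obtain ⟨c, rfl⟩ := h4
  obtain ⟨d, rfl⟩ : ∃ d, c = d + 1 := ⟨c - 1, by omega⟩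
  have h1 := he ▸ sw_modEq (4 * (d + 1)) i
  rw [show 4 * (d + 1) - 1 = 4 * d + 3 by omega] at h1
  obtain ⟨e, he'⟩ := Nat.modEq_iff_dvd.1 h1
  push_cast at he'
  have h2 : ((2 : ℤ) * d + 1) * i = 4 * ((d : ℤ) + 1) * e := by linarith
  have hdvd : (4 * (d + 1) : ℤ) ∣ i := by
    have h3 : IsCoprime (4 * ((d : ℤ) + 1)) (2 * d + 1) :=
      ⟨-(d : ℤ), 2 * (d : ℤ) + 1, by ring⟩
    exact h3.dvd_of_dvd_mul_left ⟨e, h2⟩
  obtain ⟨q, hq⟩ := hdvd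
  have h5 : (0 : ℤ) < 4 * ((d : ℤ) + 1) := by positivity
  have hq0 : 0 ≤ q := by nlinarith
  have hq2 : q < 2 := by
    have : (i : ℤ) < 2 * (4 * ((d : ℤ) + 1)) := by exact_mod_cast hi
    nlinarith
  interval_cases q
  · omega
  · exact hih (by exact_mod_cast (by linarith : (i : ℤ) = 4 * ((d : ℤ) + 1)))

variable {M : Ideal AlgInt} [M.IsPrime] [Fact (Nat.Prime 2)] [CharP (Residue M) 2]
  {G : Type u} [Group G] [Fintype G]

local notation "𝕜" => Residue M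
local notation "Z[" x "]" => Subgroup.zpowers x
local notation "C[" Q "]" => Subgroup.centralizer (SetLike.coe Q)

/-- The data of a maximal pair of a block with semidihedral defect group of order `4 * h`. -/
structure SDData (B : Set (IrrCharacter G)) (D : Subgroup G) (e : MonoidAlgebra (Residue M) G)
    (σ τ : G) (h : ℕ) : Prop where
  hM : IsPModular 2 M
  hB : IsPBlock M B
  hmax : IsMaxPair 2 (idem M B) (D, e)
  hh : ∃ k : ℕ, h = 2 ^ (k + 2)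
  ordσ : orderOf σ = 2 * h
  ordτ : orderOf τ = 2
  rel : τ * σ * τ⁻¹ = σ ^ ((h : ℤ) - 1)
  σ_mem : σ ∈ D
  τ_mem : τ ∈ D
  cases : ∀ g ∈ D, ∃ i : ℤ, g = σ ^ i ∨ g = σ ^ i * τ
  card : Nat.card D = 4 * h
  τ_not : τ ∉ Subgroup.zpowers σ
  defect : 2 ^ blockDefect 2 B = 4 * h

/-- The data exist. -/
theorem exists_data (hM : IsPModular 2 M) {B : Set (IrrCharacter G)} (hB : IsPBlock M B)
    {D : Subgroup G} (hD : IsDefectGroup 2 M B D) (hsd : IsQuasiDihedral D) {n : ℕ}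
    (hcard : Nat.card D = 2 ^ n) :
    ∃ (e : MonoidAlgebra 𝕜 G) (σ τ : G), SDData (M := M) B D e σ τ (2 ^ (n - 2)) := by
  obtain ⟨e, he⟩ := exists_isMaxPair (isBlk_idem hM hB) (isDef_of_isDefectGroup hM hB hD)
  obtain ⟨R⟩ := CfsgLib.QD.exists_data hsd
  have hn : n = R.k + 4 := by
    have h1 := R.card_eq
    rw [hcard, R.hq, show 16 * 2 ^ R.k = 2 ^ (R.k + 4) by ring] at h1
    exact Nat.pow_right_injective le_rfl h1
  have hh : 2 ^ (n - 2) = 4 * R.q := by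
    rw [hn, R.hq, show R.k + 4 - 2 = R.k + 2 from rfl]; ring
  refine ⟨e, R.x, R.y, hM, hB, he, ⟨R.k, by rw [hn]; rfl⟩, ?_, ?_, ?_, R.x.2, R.y.2, ?_, ?_, ?_, ?_⟩
  · rw [Subgroup.orderOf_coe, R.hx, hh]; ring
  · rw [Subgroup.orderOf_coe, R.hy]
  · have h1 := congrArg Subtype.val R.hxy
    push_cast at h1
    rw [hh]; push_cast
    exact h1
  · intro g hg
    rcases R.cases ⟨g, hg⟩ with ⟨i, hi⟩ | ⟨i, hi⟩
    · exact ⟨i, Or.inl (by simpa using congrArg Subtype.val hi)⟩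
    · exact ⟨i, Or.inr (by simpa using congrArg Subtype.val hi)⟩
  · rw [R.card_eq, hh]; ring
  · intro hm
    obtain ⟨i, hi⟩ := Subgroup.mem_zpowers_iff.1 hm
    exact R.y_not_mem (Subgroup.mem_zpowers_iff.2 ⟨i, Subtype.ext (by simpa using hi)⟩)
  · rw [← card_defectGroup hM hB hD, R.card_eq, hh]; ring

namespace SDData

variable {B : Set (IrrCharacter G)} {D : Subgroup G} {e : MonoidAlgebra (Residue M) G}
  {σ τ : G} {h : ℕ} (S : SDData (M := M) B D e σ τ h)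
include S

theorem h_pos : 0 < h := by
  obtain ⟨k, rfl⟩ := S.hh; exact Nat.two_pow_pos _

theorem four_dvd : 4 ∣ h := by
  obtain ⟨k, rfl⟩ := S.hh; exact Dvd.intro_left (2 ^ k) (by ring)

theorem h_even : 2 ∣ h := (show (2 : ℕ) ∣ 4 by norm_num).trans S.four_dvd

theorem h_two : h = 2 * (h / 2) := (Nat.mul_div_cancel' S.h_even).symm

theorem four_le : 4 ≤ h := Nat.le_of_dvd S.h_pos S.four_dvd

theorem pair : IsPair 2 (D, e) := S.hmax.1.1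

theorem rot_mem {a : G} (ha : a ∈ Z[σ]) : a ∈ D := (Subgroup.zpowers_le.2 S.σ_mem) ha

theorem pow_mem_D (i : ℕ) : σ ^ i ∈ D := D.pow_mem S.σ_mem i

theorem zpow_eq_one {i : ℤ} : σ ^ i = 1 ↔ 2 * (h : ℤ) ∣ i := by
  rw [← orderOf_dvd_iff_zpow_eq_one, S.ordσ]; push_cast; rfl

theorem pow_eq_one {i : ℕ} : σ ^ i = 1 ↔ 2 * h ∣ i := by
  rw [← orderOf_dvd_iff_pow_eq_one, S.ordσ]

theorem zpow_eq {i j : ℤ} : σ ^ i = σ ^ j ↔ 2 * (h : ℤ) ∣ i - j := by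
  rw [← mul_inv_eq_one, ← zpow_neg, ← zpow_add, ← sub_eq_add_neg, S.zpow_eq_one]

theorem pow_eq {i j : ℕ} : σ ^ i = σ ^ j ↔ i ≡ j [MOD 2 * h] := by
  rw [pow_inj_mod, S.ordσ]; rfl

theorem pow_ne_one {i : ℕ} (h1 : 1 ≤ i) (h2 : i < 2 * h) : σ ^ i ≠ 1 := fun he => by
  have := Nat.le_of_dvd (by omega) (S.pow_eq_one.1 he); omega

theorem pow_inj {i j : ℕ} (hi : i < 2 * h) (hj : j < 2 * h) (he : σ ^ i = σ ^ j) : i = j :=
  (S.pow_eq.1 he).eq_of_lt_of_lt hi hj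

theorem exists_pow {a : G} (ha : a ∈ Z[σ]) : ∃ i, i < 2 * h ∧ σ ^ i = a := by
  obtain ⟨i, hi⟩ := mem_powers_iff_mem_zpowers.2 ha
  exact ⟨i % (2 * h), Nat.mod_lt _ (by have := S.h_pos; omega),
    (S.pow_eq.2 (Nat.mod_modEq _ _)).trans hi⟩

theorem z_ne_one : σ ^ h ≠ 1 := S.pow_ne_one S.h_pos (by have := S.h_pos; omega)

theorem z_sq : σ ^ h * σ ^ h = 1 := by rw [← pow_add, ← two_mul, S.pow_eq_one]

theorem z_inv : (σ ^ h)⁻¹ = σ ^ h := inv_eq_of_mul_eq_one_right S.z_sq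

theorem orderOf_z : orderOf (σ ^ h) = 2 :=
  CfsgLib.Invol.orderOf_eq_two S.z_sq S.z_ne_one

theorem w_sq : σ ^ (h / 2) * σ ^ (h / 2) = σ ^ h := by
  rw [← pow_add, ← two_mul, ← S.h_two]

theorem orderOf_four {a : G} (ha : a * a = σ ^ h) : orderOf a = 4 := by
  refine orderOf_eq_prime_pow (p := 2) (n := 1) ?_ ?_
  · rw [pow_one, pow_two, ha]; exact S.z_ne_one
  · rw [show (2 : ℕ) ^ (1 + 1) = 2 + 2 by norm_num, pow_add, pow_two, ha, S.z_sq]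

theorem orderOf_w : orderOf (σ ^ (h / 2)) = 4 := S.orderOf_four S.w_sq

theorem rot_comm {a b : G} (ha : a ∈ Z[σ]) (hb : b ∈ Z[σ]) : a * b = b * a := by
  obtain ⟨i, rfl⟩ := Subgroup.mem_zpowers_iff.1 ha
  obtain ⟨j, rfl⟩ := Subgroup.mem_zpowers_iff.1 hb
  rw [← zpow_add, ← zpow_add, add_comm]

theorem eq_z {a : G} (ha : a ∈ Z[σ]) (h2 : a * a = 1) : a = 1 ∨ a = σ ^ h := by
  obtain ⟨i, rfl⟩ := Subgroup.mem_zpowers_iff.1 ha
  rw [← zpow_add, S.zpow_eq_one] at h2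
  obtain ⟨c, hc⟩ := h2
  rcases Int.even_or_odd c with ⟨j, rfl⟩ | ⟨j, rfl⟩
  · exact Or.inl (S.zpow_eq_one.2 ⟨j, by linarith⟩)
  · right
    rw [show i = (h : ℤ) + 2 * (h : ℤ) * j by linarith, zpow_add,
      S.zpow_eq_one.2 ⟨j, rfl⟩, mul_one, zpow_natCast]

theorem eq_w {a : G} (ha : a ∈ Z[σ]) (h2 : a * a = σ ^ h) :
    a = σ ^ (h / 2) ∨ a = (σ ^ (h / 2))⁻¹ := by
  have hw : σ ^ (h / 2) ∈ Z[σ] := Subgroup.npow_mem_zpowers σ _
  have h3 : a * (σ ^ (h / 2))⁻¹ * (a * (σ ^ (h / 2))⁻¹) = 1 := by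
    rw [show a * (σ ^ (h / 2))⁻¹ * (a * (σ ^ (h / 2))⁻¹) =
      a * ((σ ^ (h / 2))⁻¹ * a) * (σ ^ (h / 2))⁻¹ by group, S.rot_comm (inv_mem hw) ha,
      show a * (a * (σ ^ (h / 2))⁻¹) * (σ ^ (h / 2))⁻¹ =
        a * a * (σ ^ (h / 2) * σ ^ (h / 2))⁻¹ by group, h2, S.w_sq, mul_inv_cancel]
  rcases S.eq_z (mul_mem ha (inv_mem hw)) h3 with e1 | e1
  · exact Or.inl (mul_inv_eq_one.1 e1)
  · right
    have e2 : a = σ ^ h * σ ^ (h / 2) := by rw [← e1, inv_mul_cancel_right]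
    rw [e2, eq_inv_iff_mul_eq_one, mul_assoc, S.w_sq, S.z_sq]

/-- A rotation of order at least four has `w` as a power. -/
theorem exists_pow_w {a : G} (ha : a ∈ Z[σ]) (ha1 : a * a ≠ 1) :
    ∃ r : ℕ, a ^ r = σ ^ (h / 2) := by
  obtain ⟨k, hk⟩ := S.hh
  have hd : orderOf a ∣ 2 ^ (k + 3) := by
    rw [show 2 ^ (k + 3) = orderOf σ by rw [S.ordσ, hk]; ring]
    exact (Subgroup.orderOf_dvd_natCard _ ha).trans (Nat.card_zpowers σ).dvd
  obtain ⟨j, -, hj⟩ := (Nat.dvd_prime_pow Nat.prime_two).1 hd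
  have hj1 : 2 ≤ j := by
    by_contra hlt
    refine ha1 ?_
    rw [← pow_two]
    exact orderOf_dvd_iff_pow_eq_one.1 (hj ▸ pow_dvd_pow 2 (show j ≤ 1 by omega))
  obtain ⟨i, rfl⟩ : ∃ i, j = i + 2 := ⟨j - 2, by omega⟩
  set b := a ^ 2 ^ i with hb
  have h4 : orderOf b = 4 := by
    rw [hb, orderOf_pow_of_dvd (Nat.two_pow_pos i).ne' (hj ▸ pow_dvd_pow 2 (by omega)), hj,
      pow_add, Nat.mul_div_cancel_left _ (Nat.two_pow_pos i)]
    norm_num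
  have hb4 : b * b * (b * b) = 1 := by
    rw [← pow_orderOf_eq_one b, h4, show (4 : ℕ) = 2 + 2 from rfl, pow_add, pow_two]
  have hb2 : b * b ≠ 1 := fun e1 => by
    have := Nat.le_of_dvd two_pos (orderOf_dvd_of_pow_eq_one
      (show b ^ 2 = 1 by rw [pow_two]; exact e1))
    omega
  have hbσ : b ∈ Z[σ] := Subgroup.pow_mem _ ha _
  rcases S.eq_w hbσ ((S.eq_z (mul_mem hbσ hbσ) hb4).resolve_left hb2) with e1 | e1
  · exact ⟨2 ^ i, e1⟩
  · refine ⟨2 ^ i * 3, ?_⟩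
    rw [pow_mul, ← hb, show σ ^ (h / 2) = b⁻¹ by rw [e1, inv_inv], eq_inv_iff_mul_eq_one,
      ← pow_succ, show 3 + 1 = orderOf b from h4.symm]
    exact pow_orderOf_eq_one b

theorem τ_rot (i : ℤ) : τ * σ ^ i * τ⁻¹ = σ ^ (((h : ℤ) - 1) * i) := by
  rw [← conj_zpow, S.rel, ← zpow_mul]

theorem τ_sw (i : ℕ) : τ * σ ^ i * τ⁻¹ = σ ^ sw h i := by
  rw [S.pow_eq.2 (sw_modEq h i), ← zpow_natCast σ i, S.τ_rot, ← zpow_natCast]
  congr 1
  push_cast [Nat.cast_sub (show 1 ≤ h from S.h_pos)]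
  ring

/-- The reflection inverts the rotation of order four. -/
theorem τ_w : τ * σ ^ (h / 2) * τ⁻¹ = (σ ^ (h / 2))⁻¹ := by
  rw [← zpow_natCast, S.τ_rot, ← zpow_neg, S.zpow_eq]
  obtain ⟨c, hc⟩ := S.four_dvd
  refine ⟨c, ?_⟩
  rw [show h / 2 = 2 * c by omega, hc]; push_cast; ring

theorem τ_sq : τ * τ = 1 := CfsgLib.Invol.mul_self_eq_one S.ordτ

theorem τ_mul_rot (i : ℤ) : τ * σ ^ i = σ ^ (((h : ℤ) - 1) * i) * τ :=
  mul_inv_eq_iff_eq_mul.1 (S.τ_rot i)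

theorem refl_not (i : ℤ) : σ ^ i * τ ∉ Z[σ] := fun hm =>
  S.τ_not ((Subgroup.mul_mem_cancel_left _ (Subgroup.zpow_mem _ (Subgroup.mem_zpowers σ) i)).1 hm)

theorem στ_mem : σ * τ ∈ D := D.mul_mem S.σ_mem S.τ_mem

theorem στ_not : σ * τ ∉ Z[σ] := by simpa using S.refl_not 1

theorem exists_refl {g : G} (hg : g ∈ D) (hn : g ∉ Z[σ]) : ∃ i : ℤ, g = σ ^ i * τ := by
  obtain ⟨i, rfl | rfl⟩ := S.cases g hg
  · exact absurd (Subgroup.zpow_mem _ (Subgroup.mem_zpowers σ) i) hn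
  · exact ⟨i, rfl⟩

theorem refl_mul (i j : ℤ) : σ ^ i * τ * (σ ^ j * τ) = σ ^ (i + ((h : ℤ) - 1) * j) := by
  rw [mul_assoc, ← mul_assoc τ, S.τ_mul_rot, mul_assoc _ τ, S.τ_sq, mul_one, ← zpow_add]

theorem refl_mul_mem {g g' : G} (hg : g ∈ D) (hg' : g' ∈ D) (hn : g ∉ Z[σ]) (hn' : g' ∉ Z[σ]) :
    g * g' ∈ Z[σ] := by
  obtain ⟨i, rfl⟩ := S.exists_refl hg hn
  obtain ⟨j, rfl⟩ := S.exists_refl hg' hn'
  rw [S.refl_mul]
  exact Subgroup.zpow_mem _ (Subgroup.mem_zpowers σ) _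

theorem refl_sq_even {i : ℤ} (hi : 2 ∣ i) : σ ^ i * τ * (σ ^ i * τ) = 1 := by
  obtain ⟨c, rfl⟩ := hi
  rw [S.refl_mul, S.zpow_eq_one]
  exact ⟨c, by ring⟩

theorem refl_sq_odd {i : ℤ} (hi : ¬ 2 ∣ i) : σ ^ i * τ * (σ ^ i * τ) = σ ^ h := by
  obtain ⟨c, rfl⟩ : ∃ c, i = 2 * c + 1 := ⟨i / 2, by omega⟩
  rw [S.refl_mul, ← zpow_natCast σ h, S.zpow_eq]
  exact ⟨c, by ring⟩

theorem στ_sq : σ * τ * (σ * τ) = σ ^ h := by simpa using S.refl_sq_odd (i := 1) (by norm_num)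

theorem orderOf_στ : orderOf (σ * τ) = 4 := S.orderOf_four S.στ_sq

theorem refl_conj (i j : ℤ) :
    σ ^ j * (σ ^ i * τ) * (σ ^ j)⁻¹ = σ ^ (i + (2 - (h : ℤ)) * j) * τ := by
  rw [← zpow_neg, mul_assoc, mul_assoc, S.τ_mul_rot, ← mul_assoc, ← mul_assoc, ← zpow_add,
    ← zpow_add]
  congr 2; ring

/-- A rotation carries a reflection onto each of the same parity. -/
theorem exists_refl_conj {i j : ℤ} (hij : 2 ∣ i - j) :
    ∃ r ∈ Z[σ], r * (σ ^ i * τ) * r⁻¹ = σ ^ j * τ := by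
  obtain ⟨m, hm⟩ := hij
  obtain ⟨c, hc⟩ := S.four_dvd
  refine ⟨σ ^ (-m * (1 - 2 * (c : ℤ))), Subgroup.zpow_mem _ (Subgroup.mem_zpowers σ) _, ?_⟩
  rw [S.refl_conj, mul_left_inj, S.zpow_eq]
  refine ⟨m * (1 - (c : ℤ)), ?_⟩
  rw [hc]; push_cast
  linear_combination hm

theorem conj_rot {w a : G} (hw : w ∈ D) (ha : a ∈ Z[σ]) :
    w * a * w⁻¹ = a ∨ w * a * w⁻¹ = τ * a * τ⁻¹ := by
  by_cases hn : w ∈ Z[σ]
  · exact Or.inl (mul_inv_eq_iff_eq_mul.2 (S.rot_comm hn ha))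
  · right
    obtain ⟨i, rfl⟩ := S.exists_refl hw hn
    have hmem : τ * a * τ⁻¹ ∈ Z[σ] := by
      obtain ⟨j, rfl⟩ := Subgroup.mem_zpowers_iff.1 ha
      rw [S.τ_rot]; exact Subgroup.zpow_mem _ (Subgroup.mem_zpowers σ) _
    rw [show σ ^ i * τ * a * (σ ^ i * τ)⁻¹ = σ ^ i * (τ * a * τ⁻¹) * (σ ^ i)⁻¹ by group,
      S.rot_comm (Subgroup.zpow_mem _ (Subgroup.mem_zpowers σ) _) hmem, mul_inv_cancel_right]

theorem z_comm {g : G} (hg : g ∈ D) : g * σ ^ h = σ ^ h * g := by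
  rcases S.conj_rot hg (Subgroup.npow_mem_zpowers σ h) with e1 | e1
  · exact mul_inv_eq_iff_eq_mul.1 e1
  · rw [S.τ_sw, sw_half S.h_even S.h_pos] at e1
    exact mul_inv_eq_iff_eq_mul.1 e1

theorem le_centralizer : D ≤ C[Z[σ ^ h]] := fun _ hg => mem_cz.2 (S.z_comm hg)

theorem card_inf_z : Nat.card (D ⊓ C[Z[σ ^ h]] : Subgroup G) = 4 * h := by
  rw [inf_eq_left.2 S.le_centralizer, S.card]

theorem rot_sq_ne {i : ℕ} (hi : i < 2 * h) (hi0 : i ≠ 0) (hih : i ≠ h) : σ ^ i * σ ^ i ≠ 1 := by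
  intro h1
  rcases S.eq_z (Subgroup.npow_mem_zpowers σ i) h1 with e1 | e1
  · exact S.pow_ne_one (by omega) hi e1
  · exact hih (S.pow_inj hi (by omega) e1)

/-- The centralizer in `D` of a rotation of order at least four. -/
theorem inf_centralizer_rot {a : G} (ha : a ∈ Z[σ]) (ha2 : a * a ≠ 1) :
    (D ⊓ C[Z[a]] : Subgroup G) = Z[σ] := by
  refine le_antisymm (fun g hg => ?_) (le_inf (Subgroup.zpowers_le.2 S.σ_mem)
    (fun g hg => mem_cz.2 (S.rot_comm hg ha)))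
  by_contra hn
  obtain ⟨i, hi, rfl⟩ := S.exists_pow ha
  have hi0 : i ≠ 0 := fun e1 => ha2 (by rw [e1]; simp)
  have hih : i ≠ h := fun e1 => ha2 (by rw [e1, S.z_sq])
  rcases S.conj_rot hg.1 (Subgroup.npow_mem_zpowers σ i) with e1 | e1
  · obtain ⟨j, rfl⟩ := S.exists_refl hg.1 hn
    have e2 : τ * σ ^ i * τ⁻¹ = σ ^ i := by
      rw [show σ ^ j * τ * σ ^ i * (σ ^ j * τ)⁻¹ =
        σ ^ j * (τ * σ ^ i * τ⁻¹) * (σ ^ j)⁻¹ by group] at e1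
      rw [S.τ_sw] at e1 ⊢
      rwa [S.rot_comm (Subgroup.zpow_mem _ (Subgroup.mem_zpowers σ) _)
        (Subgroup.npow_mem_zpowers σ _), mul_inv_cancel_right] at e1
    rw [S.τ_sw] at e2
    exact sw_ne S.four_dvd S.h_pos hi hi0 hih (S.pow_inj (sw_lt S.h_pos _) hi e2)
  · rw [mul_inv_eq_iff_eq_mul.2 (mem_cz.1 hg.2), S.τ_sw] at e1
    exact sw_ne S.four_dvd S.h_pos hi hi0 hih (S.pow_inj (sw_lt S.h_pos _) hi e1.symm)

theorem card_centralizer_rot {a : G} (ha : a ∈ Z[σ]) (ha2 : a * a ≠ 1) :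
    Nat.card (D ⊓ C[Z[a]] : Subgroup G) = 2 * h := by
  rw [S.inf_centralizer_rot ha ha2, Nat.card_zpowers, S.ordσ]

/-- The elements of `D` commuting with a reflection. -/
theorem comm_refl {g q : G} (hg : g ∈ D) (hn : g ∉ Z[σ]) (hq : q ∈ D) (hc : q * g = g * q) :
    q = 1 ∨ q = σ ^ h ∨ q = g ∨ q = σ ^ h * g := by
  have hrot : ∀ r ∈ Z[σ], r * g = g * r → r = 1 ∨ r = σ ^ h := fun r hr hc' => by
    by_contra hne
    push Not at hne
    have hr2 : r * r ≠ 1 := fun e1 => (S.eq_z hr e1).elim hne.1 hne.2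
    have hm : g ∈ (D ⊓ C[Z[r]] : Subgroup G) := ⟨hg, mem_cz.2 hc'.symm⟩
    rw [S.inf_centralizer_rot hr hr2] at hm
    exact hn hm
  by_cases hqs : q ∈ Z[σ]
  · rcases hrot q hqs hc with e1 | e1
    exacts [Or.inl e1, Or.inr (Or.inl e1)]
  · have hgi : g⁻¹ ∉ Z[σ] := fun e1 => hn (inv_mem_iff.1 e1)
    rcases hrot (q * g⁻¹) (S.refl_mul_mem hq (D.inv_mem hg) hqs hgi)
      (by rw [inv_mul_cancel_right, ← mul_assoc, ← hc, mul_inv_cancel_right]) with e1 | e1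
    · exact Or.inr (Or.inr (Or.inl (mul_inv_eq_one.1 e1)))
    · exact Or.inr (Or.inr (Or.inr (mul_inv_eq_iff_eq_mul.1 e1)))

theorem card_centralizer_refl {g : G} (hg : g ∈ D) (hn : g ∉ Z[σ]) :
    Nat.card (D ⊓ C[Z[g]] : Subgroup G) = 4 := by
  have hset : ((D ⊓ C[Z[g]] : Subgroup G) : Set G) =
      ↑({1, σ ^ h, g, σ ^ h * g} : Finset G) := by
    ext q
    simp only [coe_insert, coe_singleton, Set.mem_insert_iff, Set.mem_singleton_iff, SetLike.mem_coe]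
    constructor
    · rintro ⟨hq, hc⟩
      exact S.comm_refl hg hn hq (mem_cz.1 hc)
    · have hz : σ ^ h ∈ (D ⊓ C[Z[g]] : Subgroup G) :=
        ⟨S.pow_mem_D h, mem_cz.2 (S.z_comm hg).symm⟩
      have hg' : g ∈ (D ⊓ C[Z[g]] : Subgroup G) := ⟨hg, mem_cz.2 rfl⟩
      rintro (rfl | rfl | rfl | rfl)
      exacts [one_mem _, hz, hg', mul_mem hz hg']
  have hzA : σ ^ h ∈ Z[σ] := Subgroup.npow_mem_zpowers σ h
  have hne1 : g ≠ 1 := fun e1 => hn (e1 ▸ one_mem _)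
  have hne2 : σ ^ h ≠ g := fun e1 => hn (e1 ▸ hzA)
  have hne3 : σ ^ h * g ≠ 1 := fun e1 => hne2 (by
    rw [← inv_eq_of_mul_eq_one_right e1, S.z_inv])
  have hne4 : σ ^ h * g ≠ σ ^ h := fun e1 => hne1 (mul_eq_left.1 e1)
  have hne5 : σ ^ h * g ≠ g := fun e1 => S.z_ne_one (mul_eq_right.1 e1)
  rw [← SetLike.coe_sort_coe, hset, Nat.card_coe_set_eq, Set.ncard_coe_finset]
  rw [card_insert_of_notMem (by simp [S.z_ne_one.symm, hne1.symm, hne3.symm]),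
    card_insert_of_notMem (by simp [hne2, hne4.symm]),
    card_insert_of_notMem (by simp [hne5.symm]), card_singleton]

/-- The classes of the elements outside the rotations. -/
theorem refl_class {g : G} (hg : g ∈ D) (hn : g ∉ Z[σ]) :
    Fus D e g τ ∨ Fus D e g (σ * τ) := by
  obtain ⟨i, rfl⟩ := S.exists_refl hg hn
  by_cases hi : 2 ∣ i
  · left
    obtain ⟨r, hr, hr'⟩ := S.exists_refl_conj (i := i) (j := 0) (by simpa using hi)
    have h1 := fus_conj S.pair hg (S.rot_mem hr)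
    rwa [hr', zpow_zero, one_mul] at h1
  · right
    obtain ⟨r, hr, hr'⟩ := S.exists_refl_conj (i := i) (j := 1) (by omega)
    have h1 := fus_conj S.pair hg (S.rot_mem hr)
    rwa [hr', zpow_one] at h1

/-- An element of order four of `D` squares to `z`. -/
theorem sq_of_four {g : G} (hg : g ∈ D) (h4 : orderOf g = 4) : g * g = σ ^ h := by
  have hg4 : g * g * (g * g) = 1 := by
    rw [← pow_orderOf_eq_one g, h4, show (4 : ℕ) = 2 + 2 from rfl, pow_add, pow_two]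
  have hg2 : g * g ≠ 1 := fun e1 => by
    have := Nat.le_of_dvd two_pos (orderOf_dvd_of_pow_eq_one
      (show g ^ 2 = 1 by rw [pow_two]; exact e1))
    omega
  by_cases hn : g ∈ Z[σ]
  · exact (S.eq_z (mul_mem hn hn) hg4).resolve_left hg2
  · obtain ⟨i, rfl⟩ := S.exists_refl hg hn
    by_cases hi : 2 ∣ i
    · exact absurd (S.refl_sq_even hi) hg2
    · exact S.refl_sq_odd hi

/-- The rotations of order at least four are not fused into the centre. -/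
theorem rot_not_fus_z {i : ℕ} (hi : i < 2 * h) (hi0 : i ≠ 0) (hih : i ≠ h) :
    ¬ Fus D e (σ ^ i) (σ ^ h) := fun hf => by
  refine S.rot_sq_ne hi hi0 hih ?_
  rw [← pow_two, ← orderOf_dvd_iff_pow_eq_one, hf.orderOf_eq, S.orderOf_z]

end SDData

end CfsgLib.SDDefect
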