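import Cfsg.Agent.BlocksB.SemidihedralDefect.Central

/-!
# A block with semidihedral defect group: the norms of the rows and the vectors
-/

set_option autoImplicit false
set_option linter.style.haveILetI false
set_option linter.unusedSectionVars false

namespace CfsgLib.SDDefect

open Cfsg Finset CfsgLib.Block CfsgLib.Block.Chr CfsgLib.BrauerPairs CfsgLib.BlockStar
  CfsgLib.BlockB CfsgLib.Char
open CfsgLib.QuatDefect (Fus exists_sub isDefectGroup_sub fus_of_carries sum_contribR_self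
  contribR_self_nonneg)
open scoped ComplexConjugate
open scoped Classical

universe u

variable {M : Ideal AlgInt} [M.IsPrime] [Fact (Nat.Prime 2)] [CharP (Residue M) 2]
  {G : Type u} [Group G] [Fintype G]

local notation "𝕜" => Residue M
local notation "Z[" x "]" => Subgroup.zpowers x
local notation "C[" Q "]" => Subgroup.centralizer (SetLike.coe Q)

variable {B : Set (IrrCharacter G)} {D : Subgroup G} {e : MonoidAlgebra (Residue M) G}
  {σ τ : G} {h : ℕ}

namespace SDData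

variable (S : SDData (M := M) B D e σ τ h)
include S

theorem oth_reps {v : G} (hv : v ∈ S.oth) : v ∈ S.reps := S.mem_reps.2 (Or.inr (Or.inr hv))

theorem oth_not_rot {v : G} (hv : v ∈ S.oth) : ∀ i ∈ rotIdx h, v ≠ σ ^ i := fun i _ e1 =>
  (S.oth_props hv).2 (e1 ▸ Subgroup.npow_mem_zpowers σ i)

/-- The defect of the block at a further subsection is two. -/
theorem defect_oth {v : G} (hv : v ∈ S.oth) [Fintype C[Z[v]]]
    {fv : Set (IrrCharacter C[Z[v]])} (hfv : IsPBlock M fv)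
    (hfve : idemIn M C[Z[v]] fv = subBlk 2 D e v) : 2 ^ blockDefect 2 fv = 4 := by
  obtain ⟨hvD, hvn⟩ := S.oth_props hv
  obtain ⟨-, hd⟩ := isDefectGroup_sub S.hM S.hB S.hmax hvD hfv hfve fun g hg => by
    obtain ⟨hgD, hfus⟩ := fus_of_carries S.pair hvD hg
    rw [S.card_centralizer_refl hvD hvn]
    refine le_of_eq (S.card_centralizer_refl hgD fun hm => ?_)
    have hne : g * v * g⁻¹ ≠ 1 := fun e1 => hvn (conj_eq_one_iff.1 e1 ▸ one_mem _)
    obtain ⟨u, hu, hu'⟩ := S.isReps.cover _ hgD hne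
    obtain rfl := S.isReps.inj v (S.oth_reps hv) u hu (hfus.trans hu')
    obtain ⟨j, hj, hj'⟩ := S.exists_pow hm
    have hj0 : j ≠ 0 := fun e1 => hne (by rw [← hj', e1, pow_zero])
    by_cases hjh : j = h
    · have h1 := S.isReps.inj _ (S.oth_reps hv) _ S.z_mem_reps
        (hu'.symm.trans (by rw [← hj', hjh]; exact Fus.refl _))
      exact hvn (h1 ▸ Subgroup.npow_mem_zpowers σ h)
    · rcases Nat.lt_or_ge j (sw h j) with h1 | h1
      · have h2 := S.isReps.inj _ (S.oth_reps hv) _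
          (S.rot_mem_reps (mem_rotIdx.2 ⟨hj, hj0, hjh, h1⟩))
          (hu'.symm.trans (by rw [← hj']; exact Fus.refl _))
        exact hvn (h2 ▸ Subgroup.npow_mem_zpowers σ j)
      · have hne' := sw_ne S.four_dvd S.h_pos hj hj0 hjh
        have h3 := CfsgLib.QuatDefect.fus_conj S.pair hgD S.τ_mem
        rw [← hj', S.τ_sw] at h3
        have h2 := S.isReps.inj _ (S.oth_reps hv) _
          (S.rot_mem_reps (i := sw h j) (mem_rotIdx.2 ⟨sw_lt S.h_pos j,
            fun e1 => hj0 ((sw_zero_iff S.h_even S.h_pos hj).1 e1),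
            fun e1 => hjh ((sw_half_iff S.h_even S.h_pos hj).1 e1),
            by rw [sw_sw S.h_even S.h_pos hj]; omega⟩))
          (hu'.symm.trans (by rw [← hj']; exact h3))
        exact hvn (h2 ▸ Subgroup.npow_mem_zpowers σ _)
  rwa [S.card_centralizer_refl hvD hvn] at hd

theorem orderOf_oth {v : G} (hv : v ∈ S.oth) : ∃ k, k ≤ 2 ∧ orderOf v = 2 ^ k := by
  rcases S.mem_oth.1 hv with ⟨rfl, -⟩ | ⟨rfl, -⟩
  · exact ⟨1, by omega, by rw [S.ordτ, pow_one]⟩
  · exact ⟨2, le_rfl, by rw [S.orderOf_στ]; norm_num⟩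

/-- Four times a contribution of a further subsection is an algebraic integer. -/
theorem integral_oth {v : G} (hv : v ∈ S.oth) (χ ψ : IrrCharacter G) :
    IsIntegral ℤ ((4 : ℂ) * contribR 2 χ ψ v (subBlk 2 D e v)) := by
  haveI : Fintype C[Z[v]] := Fintype.ofFinite _
  obtain ⟨fv, hfv, hfve, -⟩ := exists_sub S.hM S.hB S.hmax (S.oth_props hv).1
  obtain ⟨k, hk, hord⟩ := S.orderOf_oth hv
  have h1 := (scaled_contrib_mem S.hM (CfsgLib.BlockB.centralizer_zpowers_eq v) hord hfv hk χ ψ).2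
  rw [← Nat.cast_pow, S.defect_oth hv hfv hfve, Nat.cast_ofNat] at h1
  convert h1 using 2
  rw [← hfve]
  convert contribR_idemIn S.hM χ ψ (mem_pSet_of_mem S.pair (S.oth_props hv).1) hfv using 2

/-- At height zero four times the contribution of a further subsection is a unit. -/
theorem unit_oth {v : G} (hv : v ∈ S.oth) {χ : IrrCharacter G} (hχ : χ ∈ B)
    (h0 : blockHeight 2 B (χ : G → ℂ) = 0) :
    ¬ MemLocalIdeal M ((4 : ℂ) * contribR 2 χ χ v (subBlk 2 D e v)) := by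
  haveI : Fintype C[Z[v]] := Fintype.ofFinite _
  obtain ⟨fv, hfv, hfve, hind⟩ := exists_sub S.hM S.hB S.hmax (S.oth_props hv).1
  obtain ⟨k, -, hord⟩ := S.orderOf_oth hv
  have h1 := scaled_contrib_unit S.hM (CfsgLib.BlockB.centralizer_zpowers_eq v) hord hind hχ hχ
    h0 h0
  rw [← Nat.cast_pow, S.defect_oth hv hfv hfve, Nat.cast_ofNat] at h1
  convert h1 using 3
  rw [← hfve]
  convert contribR_idemIn S.hM χ χ (mem_pSet_of_mem S.pair (S.oth_props hv).1) hfv using 2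

theorem trace_oth [Fintype B] {v : G} (hv : v ∈ S.oth) : ∃ r : ℕ, 1 ≤ r ∧
    ∑ χ : B, contribR 2 χ.1 χ.1 v (subBlk 2 D e v) = (r : ℂ) := by
  haveI : Fintype C[Z[v]] := Fintype.ofFinite _
  obtain ⟨fv, hfv, hfve, -⟩ := exists_sub S.hM S.hB S.hmax (S.oth_props hv).1
  exact ⟨_, CfsgLib.Block.GapOneElementary.one_le_blockRank S.hM hfv,
    sum_contribR_self S.hM S.hB S.hmax (S.oth_props hv).1 hfv hfve⟩

variable [Fintype B] {av : IrrCharacter G → ℕ → ℂ} (V : RotVals S av) {lz : ℕ} {t s : B → ℤ}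
  (T : ZData S lz t s)
include V T

/-- The trace at a rotation is one. -/
theorem trace_rot {i : ℕ} (hi : i ∈ rotIdx h) :
    ∑ χ : B, contribR 2 χ.1 χ.1 (σ ^ i) (subBlk 2 D e (σ ^ i)) = 1 := by
  obtain ⟨h1, h2, h3, -⟩ := mem_rotIdx.1 hi
  rw [sum_congr rfl fun χ _ => V.contrib_rep χ.1 χ.1 hi, ← sum_mul,
    V.sum_av h1 h2 h3 h1 h2 h3, if_pos rfl, if_neg (fun e1 => sw_ne S.four_dvd S.h_pos h1 h2 h3 e1.symm),
    add_zero, mul_one, mul_inv_cancel₀ V.two_h_ne]

/-- **The number of members.** -/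
theorem card_members : ∃ r : ℕ, Nat.card B = blockRank 2 B + lz + (h - 1) + r ∧
    (S.oth.Nonempty → 1 ≤ r) := by
  have hr : ∀ v ∈ S.oth, ∃ r : ℕ, 1 ≤ r ∧
      ∑ χ : B, contribR 2 χ.1 χ.1 v (subBlk 2 D e v) = (r : ℂ) := fun v hv => S.trace_oth hv
  choose! r hr1 hr using hr
  refine ⟨∑ v ∈ S.oth, r v, ?_, fun ⟨v, hv⟩ =>
    (hr1 v hv).trans (single_le_sum (fun _ _ => Nat.zero_le _) hv)⟩
  have h1 := S.isReps.card_eq S.hM S.hB S.hmax
  rw [S.sum_reps, T.trace, sum_congr rfl fun i hi => S.trace_rot V T hi, sum_congr rfl hr,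
    sum_const, card_rotIdx S.four_dvd S.h_pos, nsmul_one] at h1
  apply Nat.cast_injective (R := ℂ)
  rw [h1]
  push_cast
  ring

/-- The remaining norm of a row. -/
theorem exists_N (χ : B) : ∃ N : ℤ, 0 ≤ N ∧
    ∑ v ∈ S.oth, (4 : ℂ) * contribR 2 χ.1 χ.1 v (subBlk 2 D e v) = (N : ℂ) ∧
    redInt 2 B χ.1 χ.1 + t χ ^ 2 + ((h / 2 : ℕ) : ℤ) * s χ ^ 2 +
      Vectors.rotNorm (h / 2) (fun φ : B => V.A0 φ.1) (fun l φ => V.A l φ.1)
        (fun l φ => V.C l φ.1) χ + 2 * ((h / 2 : ℕ) : ℤ) * N = 8 * ((h / 2 : ℕ) : ℤ) := by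
  have hM := S.hM
  have hh : (h : ℂ) ≠ 0 := Nat.cast_ne_zero.2 S.h_pos.ne'
  set x := ∑ v ∈ S.oth, (4 : ℂ) * contribR 2 χ.1 χ.1 v (subBlk 2 D e v) with hx
  set rot := Vectors.rotNorm (h / 2) (fun φ : B => V.A0 φ.1) (fun l φ => V.A l φ.1)
    (fun l φ => V.C l φ.1) χ with hrot
  have hrot' : (rot : ℂ) = (Vectors.rotNorm (h / 2) V.A0 V.A V.C χ.1 : ℂ) := rfl
  have hd : ((2 : ℕ) : ℂ) ^ blockDefect 2 B = ((4 * h : ℕ) : ℂ) := by
    rw [← Nat.cast_pow, S.defect]
  have h1 := congrArg (((4 * h : ℕ) : ℂ) * ·) (S.isReps.delta_eq hM S.hB S.hmax χ χ)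
  simp only [if_pos, mul_one, S.sum_reps, mul_add] at h1
  rw [T.form, V.sum_rot_contrib, ← hd, ← redInt_eq_regMat hM S.hB, hd, ← hrot'] at h1
  have h2 : ((4 * h : ℕ) : ℂ) * ∑ v ∈ S.oth, contribR 2 χ.1 χ.1 v (subBlk 2 D e v) =
      (h : ℂ) * x := by
    rw [hx, ← mul_sum]; push_cast; ring
  rw [h2] at h1
  have h2m : (h : ℂ) = 2 * ((h / 2 : ℕ) : ℂ) := by exact_mod_cast S.h_two
  have hxi : IsIntegral ℤ x := IsIntegral.sum _ fun v hv => S.integral_oth hv χ.1 χ.1
  clear_value rot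
  clear h2 hrot hrot'
  generalize h / 2 = mm at h1 h2m ⊢
  push_cast at h1
  obtain ⟨N, hN, -⟩ := CfsgLib.Char.exists_int_of_isIntegral_rat
    (((4 * h - redInt 2 B χ.1 χ.1 - (t χ * t χ + (mm : ℤ) * (s χ * s χ)) - rot : ℤ) : ℚ) /
      (h : ℚ))
    hxi (by
      push_cast
      rw [eq_div_iff hh]
      linear_combination (-1 : ℂ) * h1)
  refine ⟨N, ?_, hN, ?_⟩
  · have h3 : 0 ≤ (x : ℂ).re := by
      rw [hx, Complex.re_sum]
      exact sum_nonneg fun v _ => by
        have := contribR_self_nonneg (p := 2) χ.1 v (subBlk 2 D e v)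
        simpa using this
    rw [show x = (N : ℂ) from hN, Complex.intCast_re] at h3
    exact_mod_cast h3
  · apply Int.cast_injective (α := ℂ)
    rw [show x = (N : ℂ) from hN] at h1
    push_cast
    rw [h2m] at h1
    linear_combination (-1 : ℂ) * h1

/-- The remaining norm is positive at height zero if there is a further subsection. -/
theorem N_pos_of {χ : B} (h0 : blockHeight 2 B ((χ : IrrCharacter G) : G → ℂ) = 0) {N : ℤ}
    (hN : ∑ v ∈ S.oth, (4 : ℂ) * contribR 2 χ.1 χ.1 v (subBlk 2 D e v) = (N : ℂ))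
    (hne : S.oth.Nonempty) : 1 ≤ N := by
  obtain ⟨v, hv⟩ := hne
  have h1 : 0 < (contribR 2 χ.1 χ.1 v (subBlk 2 D e v)).re := by
    refine lt_of_le_of_ne (contribR_self_nonneg χ.1 v _) fun e1 => ?_
    have h2 := CfsgLib.QuatDefect.contribR_self (p := 2) χ.1 v (subBlk 2 D e v)
    refine contribR_ne_zero S.hM S.hB χ.2 h0 S.hmax (S.oth_props hv).1 ?_
    rw [h2] at e1 ⊢
    rw [Complex.ofReal_re] at e1
    rw [← e1, Complex.ofReal_zero]
  have h3 : (4 : ℝ) * (contribR 2 χ.1 χ.1 v (subBlk 2 D e v)).re ≤ (N : ℝ) := by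
    have h4 := congrArg Complex.re hN
    rw [Complex.re_sum, Complex.intCast_re] at h4
    rw [← h4]
    refine le_trans (le_of_eq (by simp)) (single_le_sum (f := fun v =>
      ((4 : ℂ) * contribR 2 χ.1 χ.1 v (subBlk 2 D e v)).re) (fun w _ => ?_) hv)
    have := contribR_self_nonneg (p := 2) χ.1 w (subBlk 2 D e w)
    simpa using this
  have h5 : (0 : ℝ) < (N : ℝ) := by linarith
  exact Int.cast_pos.1 h5

/-- The orthogonality of a column with a vanishing inner product. -/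
theorem col_orth (F : B → ℤ) (hF : ∀ χ : B, ∑ ψ : B,
      contribR 2 χ.1 ψ.1 (σ ^ h) (subBlk 2 D e (σ ^ h)) * (F ψ : ℂ) = 0) :
    ∑ ψ : B, t ψ * F ψ = 0 ∧ ∑ ψ : B, s ψ * F ψ = 0 := by
  have key : ∀ χ : B, t χ * (∑ ψ : B, t ψ * F ψ) +
      ((h / 2 : ℕ) : ℤ) * s χ * ∑ ψ : B, s ψ * F ψ = 0 := by
    intro χ
    apply Int.cast_injective (α := ℂ)
    have h1 : ((4 * h : ℕ) : ℂ) * ∑ ψ : B,
        contribR 2 χ.1 ψ.1 (σ ^ h) (subBlk 2 D e (σ ^ h)) * (F ψ : ℂ) = 0 := by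
      rw [hF χ, mul_zero]
    rw [mul_sum, sum_congr rfl fun ψ _ => by rw [← mul_assoc, T.form]] at h1
    rw [Int.cast_zero, ← h1]
    push_cast
    rw [mul_sum, mul_sum, ← sum_add_distrib]
    exact sum_congr rfl fun ψ _ => by ring
  set a := ∑ ψ : B, t ψ * F ψ
  set b := ∑ ψ : B, s ψ * F ψ with hb
  rcases T.rank with e1 | e1
  · have hs := T.s_zero e1
    refine ⟨?_, by simp [hb, hs]⟩
    obtain ⟨χ, hχ, h0⟩ := exists_height_zero S.hM S.hB
    have h2 := key ⟨χ, hχ⟩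
    rw [hs, mul_zero, zero_mul, add_zero] at h2
    exact (mul_eq_zero.1 h2).resolve_left fun e2 => by
      have := (T.zero_odd ⟨χ, hχ⟩ h0).1
      rw [e2] at this; simp at this
  · obtain ⟨h8, h0⟩ := T.sum_s e1
    have e2 : ∑ χ : B, t χ * (t χ * a + ((h / 2 : ℕ) : ℤ) * s χ * b) = 0 :=
      sum_eq_zero fun χ _ => by rw [key χ, mul_zero]
    have e3 : ∑ χ : B, s χ * (t χ * a + ((h / 2 : ℕ) : ℤ) * s χ * b) = 0 :=
      sum_eq_zero fun χ _ => by rw [key χ, mul_zero]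
    have e2' : (∑ χ : B, t χ ^ 2) * a + ((h / 2 : ℕ) : ℤ) * b * ∑ χ : B, s χ * t χ = 0 := by
      rw [← e2, sum_mul, mul_sum, ← sum_add_distrib]
      exact sum_congr rfl fun χ _ => by ring
    have e3' : (∑ χ : B, s χ * t χ) * a + ((h / 2 : ℕ) : ℤ) * b * ∑ χ : B, s χ ^ 2 = 0 := by
      rw [← e3, sum_mul, mul_sum, ← sum_add_distrib]
      exact sum_congr rfl fun χ _ => by ring
    rw [T.sum_t, h0, mul_zero, add_zero] at e2'
    rw [h0, zero_mul, zero_add, h8] at e3'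
    have := S.four_le
    refine ⟨(mul_eq_zero.1 e2').resolve_left (by omega), ?_⟩
    have h5 := (mul_eq_zero.1 e3').resolve_right (by norm_num)
    exact (mul_eq_zero.1 h5).resolve_left (by omega)

/-- **The vectors.** -/
theorem exists_vectors (hne : lz = 1 → S.oth.Nonempty) :
    ∃ W : Vectors.Data B (h / 2),
      (∀ χ, W.zero χ ↔ blockHeight 2 B ((χ : IrrCharacter G) : G → ℂ) = 0) ∧
      (W.two ↔ lz = 2) ∧ W.t = t ∧ W.s = s ∧
      (W.A0 = fun φ : B => V.A0 φ.1) ∧ (W.A = fun l (φ : B) => V.A l φ.1) ∧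
      (W.C = fun l (φ : B) => V.C l φ.1) ∧
      (∀ p q : B, W.R p q = redInt 2 B p.1 q.1) ∧
      ∀ χ : B, (∑ v ∈ S.oth, (4 : ℂ) * contribR 2 χ.1 χ.1 v (subBlk 2 D e v)) = (W.N χ : ℂ) := by
  have hM := S.hM
  have h2m : 8 * ((h / 2 : ℕ) : ℤ) = 4 * (h : ℤ) := by have := S.h_two; omega
  choose N hN0 hN htot using fun χ => S.exists_N V T χ
  have hz : ∀ i ∈ rotIdx h, σ ^ h ≠ σ ^ i := fun i hi e1 =>
    (mem_rotIdx.1 hi).2.2.1 (S.pow_inj (mem_rotIdx.1 hi).1 (by have := S.h_pos; omega) e1.symm)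
  have hzv := fun χ => V.contrib_vec S.z_mem_reps hz χ
  have hA0o := S.col_orth V T (fun φ : B => V.A0 φ.1) fun χ => (hzv χ).1
  have hAo := fun l hl => S.col_orth V T (fun φ : B => V.A l φ.1) fun χ => ((hzv χ).2 l hl).1
  have hCo := fun l hl => S.col_orth V T (fun φ : B => V.C l φ.1) fun χ => ((hzv χ).2 l hl).2
  have hR : ∀ (χ : B) (F : B → ℤ), ∑ ψ : B, regMat 2 B χ ψ * (F ψ : ℂ) = 0 →
      ∑ ψ : B, redInt 2 B χ.1 ψ.1 * F ψ = 0 := by
    intro χ F hF
    apply Int.cast_injective (α := ℂ)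
    push_cast
    simp only [redInt_eq_regMat hM S.hB, mul_assoc, ← mul_sum, hF, mul_zero]
  refine ⟨{ A0 := fun φ => V.A0 φ.1
            A := fun l φ => V.A l φ.1
            C := fun l φ => V.C l φ.1
            t := t
            s := s
            R := fun p q => redInt 2 B p.1 q.1
            N := N
            zero := fun χ => blockHeight 2 B ((χ : IrrCharacter G) : G → ℂ) = 0
            two := lz = 2
            hm := ?_
            g00 := V.gram_A0
            g0A := fun l hl => V.gram_A0A hl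
            gAA := fun l hl j hj => V.gram_AA hl hj
            gCC := fun l hl j hj => V.gram_CC hl hj
            g0C := fun j hj => V.gram_A0C hj
            gAC := fun l hl j hj => V.gram_AC hl hj
            t_orth := ⟨hA0o.1, fun l hl => ⟨(hAo l hl).1, (hCo l hl).1⟩⟩
            s_orth := ⟨hA0o.2, fun l hl => ⟨(hAo l hl).2, (hCo l hl).2⟩⟩
            R_orth := fun p _ => ⟨hR p _ (V.regMat_vec p).1, fun l hl =>
              ⟨hR p _ ((V.regMat_vec p).2 l hl).1, hR p _ ((V.regMat_vec p).2 l hl).2⟩⟩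
            sum_t := T.sum_t.trans h2m.symm
            sum_s := T.sum_s
            s_zero := fun h2 => T.s_zero (T.rank.resolve_right h2)
            exists_zero := ?_
            zero_odd := ?_
            pos_even := fun χ hχ => T.pos_even χ hχ
            R_pos := fun p hp => redInt_self_pos hM S.hB p.2 hp
            N_nonneg := fun p _ => hN0 p
            N_pos := fun h2 p hp => S.N_pos_of V T hp (hN p) (hne (T.rank.resolve_right h2))
            total := fun p _ => htot p },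
    fun χ => Iff.rfl, Iff.rfl, rfl, rfl, rfl, rfl, rfl, fun _ _ => rfl, hN⟩
  · obtain ⟨k, hk⟩ := S.hh
    exact ⟨k, by rw [hk, pow_succ, Nat.mul_div_cancel _ two_pos]⟩
  · obtain ⟨χ, hχ, h0⟩ := exists_height_zero hM S.hB
    exact ⟨⟨χ, hχ⟩, h0⟩
  · intro χ hχ
    exact ⟨V.A0_odd χ.2 hχ, T.zero_odd χ hχ⟩

end SDData

end CfsgLib.SDDefect
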